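import Cfsg.Agent.Lib.BlocksCore.Local

/-!
# Existence of modular maximal ideals
-/

namespace Cfsg.Agent.BC86

theorem exists_isPModular {p : ℕ} (hp : p.Prime) : ∃ M : Ideal Cfsg.AlgInt, Cfsg.IsPModular p M := by
  have hne : Ideal.span ({(p : Cfsg.AlgInt)} : Set Cfsg.AlgInt) ≠ ⊤ := by
    rw [Ne, Ideal.span_singleton_eq_top]
    intro hu
    obtain ⟨b, hb⟩ := hu.exists_right_inv
    have hc : (p : ℂ) * (b : ℂ) = 1 := by
      have := congrArg Subtype.val hb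
      simpa using this
    have hint : IsIntegral ℤ ((((p : ℚ)⁻¹ : ℚ)) : ℂ) := by
      rw [Rat.cast_inv, Rat.cast_natCast, ← eq_inv_of_mul_eq_one_right hc]
      exact b.2
    obtain ⟨q, hq⟩ := IsIntegrallyClosed.isIntegral_iff.mp
      ((isIntegral_algebraMap_iff (A := ℚ) (B := ℂ) (algebraMap ℚ ℂ).injective).mp hint)
    have h2 : (q : ℚ) * (p : ℚ) = 1 := by
      have hq' : (q : ℚ) = (p : ℚ)⁻¹ := by simpa using hq
      rw [hq', inv_mul_cancel₀ (Nat.cast_ne_zero.mpr hp.ne_zero)]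
    have h3 : (q * (p : ℤ) : ℤ) = 1 := by exact_mod_cast h2
    have h4 : (p : ℤ) ∣ 1 := ⟨q, by rw [← h3, mul_comm]⟩
    exact hp.one_lt.ne' (Nat.dvd_one.mp (by exact_mod_cast h4))
  obtain ⟨M, hM, hle⟩ := Ideal.exists_le_maximal _ hne
  exact ⟨M, hp, hM, hle (Ideal.subset_span rfl)⟩

end Cfsg.Agent.BC86
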