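import Cfsg.Agent.BC86.Core
import Mathlib.Data.Nat.Factorization.Basic

/-!
# Degrees, and divisibility from integrality
-/

open scoped ComplexConjugate
open Cfsg.Agent.CharCore

namespace Cfsg.Agent.BC86

variable {G : Type*} [Group G] [Finite G]

theorem charDegree_cast (χ : Cfsg.IrrCharacter G) :
    (Cfsg.charDegree (χ : G → ℂ) : ℂ) = (χ : G → ℂ) 1 := by
  obtain ⟨n, -, hn⟩ := IsIrrCharacter.exists_degree χ.2
  simp [Cfsg.charDegree, hn]

theorem charDegree_ne_zero (χ : Cfsg.IrrCharacter G) : Cfsg.charDegree (χ : G → ℂ) ≠ 0 := by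
  intro h
  exact irr_apply_one_ne_zero χ (by rw [← charDegree_cast, h, Nat.cast_zero])

theorem charDegree_pos (χ : Cfsg.IrrCharacter G) : 0 < Cfsg.charDegree (χ : G → ℂ) :=
  Nat.pos_of_ne_zero (charDegree_ne_zero χ)

/-- A rational algebraic integer is an integer: divisibility form. -/
theorem dvd_of_isIntegral {a b : ℕ} {z : ℂ} (hz : IsIntegral ℤ z) (h : (a : ℂ) = b * z) :
    b ∣ a := by
  rcases Nat.eq_zero_or_pos b with rfl | hb
  · rw [Nat.cast_zero, zero_mul] at h
    exact ⟨0, by exact_mod_cast h⟩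
  · have hz' : z = (((a : ℚ) / b : ℚ) : ℂ) := by
      push_cast
      rw [h, mul_div_cancel_left₀ _ (Nat.cast_ne_zero.mpr hb.ne')]
    obtain ⟨k, hk⟩ := CharClifford.exists_int_of_isIntegral_rat (hz' ▸ hz)
    have h2 : (a : ℚ) = (k : ℚ) * b := by
      rw [← hk]; field_simp
    have h3 : (a : ℤ) = k * b := by exact_mod_cast h2
    exact Int.natCast_dvd_natCast.mp ⟨k, by rw [h3, mul_comm]⟩

/-- A degree not divisible by `p ^ (e + 1)` divides `p ^ e` times the `p'`-part of the order. -/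
theorem degree_dvd_pow_mul_ordCompl {p : ℕ} (hp : p.Prime) (χ : Cfsg.IrrCharacter G) {e : ℕ}
    (h : ¬ p ^ (e + 1) ∣ Cfsg.charDegree (χ : G → ℂ)) :
    Cfsg.charDegree (χ : G → ℂ) ∣ p ^ e * (Nat.card G / p ^ (Nat.card G).factorization p) := by
  have hle : (Cfsg.charDegree (χ : G → ℂ)).factorization p ≤ e :=
    not_lt.mp fun hlt => h ((hp.pow_dvd_iff_le_factorization (charDegree_ne_zero χ)).mpr hlt)
  have := Nat.mul_dvd_mul (pow_dvd_pow p hle)
    (Nat.ordCompl_dvd_ordCompl_of_dvd (degree_dvd_card χ) p)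
  rwa [Nat.ordProj_mul_ordCompl_eq_self] at this

/-- A degree divisible by the full `p`-part of the order has exactly that `p`-part. -/
theorem factorization_eq_of_pow_dvd {p : ℕ} (hp : p.Prime) (χ : Cfsg.IrrCharacter G)
    (h : p ^ (Nat.card G).factorization p ∣ Cfsg.charDegree (χ : G → ℂ)) :
    (Cfsg.charDegree (χ : G → ℂ)).factorization p = (Nat.card G).factorization p :=
  le_antisymm
    ((Nat.factorization_le_iff_dvd (charDegree_ne_zero χ) Nat.card_pos.ne').mpr
      (degree_dvd_card χ) p)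
    ((hp.pow_dvd_iff_le_factorization (charDegree_ne_zero χ)).mp h)

end Cfsg.Agent.BC86
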