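import Cfsg.Agent.Lib.BlocksDefect.ExtendedMain
import Cfsg.Agent.Lib.BlocksDefect.Kernel
import Cfsg.Agent.Lib.BlocksDefect.Pairing
import Cfsg.Agent.Lib.BlocksCore.Brauer
import Cfsg.Agent.BC85.Pairs.Transport

/-!
# Major subsections at central elements of a defect group and their fusion

For a defect group `D` of `B` and a root `b` of `B` on `H = D C(D)`, each `y` in the centre of `D`
carries the block of `C(y)` induced by `b`.  It induces `B`, has `D` as defect group, and a
conjugation carrying one of these subsections to another can be realised in the inertial group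
of `b`.
-/

namespace Cfsg.Agent.BC86

open BlocksCore BlocksDefect BC85

attribute [local instance] Fintype.ofFinite

variable {p : ℕ} [Fact p.Prime] {M : Ideal AlgInt}

/-- An isomorphism carries induced blocks to induced blocks. -/
theorem isInducedBlock_transport {A A' : Type*} [Group A] [Finite A] [Group A'] [Finite A']
    (hM : IsPModular p M) (τ : A ≃* A') {K : Subgroup A} {K' : Subgroup A'} (τK : K ≃* K')
    (hcomp : ∀ k : K, ((τK k : K') : A') = τ k) {b' : Set (IrrCharacter K')}
    {β' : Set (IrrCharacter A')} (h : IsInducedBlock M K' b' β') :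
    IsInducedBlock M K (pullIrr τK '' b') (pullIrr τ '' β') := by
  have := isPrime hM
  refine ⟨isPBlock_image_pullIrr τK h.1, isPBlock_image_pullIrr τ h.2.1, ?_⟩
  rintro _ ⟨ξ, hξ, rfl⟩ _ ⟨χ, hχ, rfl⟩ g
  rw [← omega_res_classInd, ← omega_classInd (irr_class (pullIrr τ χ))]
  have key := omega_induced hM h hξ hχ
    (isIntClassFun_comp τ.symm (isIntClassFun_classInd (M := M) g))
  have e1 : omega (pullIrr τK ξ : K → ℂ) (res K (classInd g)) =
      omega (ξ : K' → ℂ) (res K' fun a => classInd g (τ.symm a)) := by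
    rw [← omega_pullIrr τK]
    congr 1
    funext k
    simp only [res, hcomp, τ.symm_apply_apply]
  have e2 : omega (pullIrr τ χ : A → ℂ) (classInd g) =
      omega (χ : A' → ℂ) (fun a => classInd g (τ.symm a)) := by
    rw [← omega_pullIrr τ]
    congr 1
    funext k
    rw [τ.symm_apply_apply]
  rw [e1, e2]
  exact key

/-- A normal `p`-subgroup of full order of the inducing subgroup is a defect group. -/
theorem isDefectGroup_of_inducing_normal {A : Type*} [Group A] [Finite A] (hM : IsPModular p M)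
    {P K : Subgroup A} (hP : IsPGroup p P) (hPK : P ≤ K)
    (hKN : K ≤ Subgroup.normalizer (P : Set A)) {b : Set (IrrCharacter K)}
    {β : Set (IrrCharacter A)} (hind : IsInducedBlock M K b β)
    (hle : blockDefect p β ≤ (Nat.card P).factorization p) :
    IsDefectGroup p M β P ∧ Nat.card P = p ^ blockDefect p β := by
  have := isPrime hM
  obtain ⟨E, hE⟩ := exists_isDefectGroup hM hind.1
  haveI : (P.subgroupOf K).Normal := Subgroup.normal_subgroupOf_of_le_normalizer hKN
  have hPE := le_defectGroup (P.subgroupOf K) hM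
    (hP.of_equiv (Subgroup.subgroupOfEquivOfLe hPK).symm) hind.1 hE
  obtain ⟨F, hF, hEF⟩ := exists_defectGroup_ge hM hind hE
  have hPF : P ≤ F := by
    refine le_trans ?_ hEF
    rw [← Subgroup.map_subgroupOf_eq_of_le hPK]
    exact Subgroup.map_mono hPE
  have hcard := defectGroup_natCard hM hind.2.1 hF
  obtain ⟨j, hj⟩ := hP.exists_card_eq
  rw [hj, (Fact.out : p.Prime).factorization_pow, Finsupp.single_eq_same] at hle
  have hge : Nat.card F ≤ Nat.card P := by
    rw [hcard, hj]
    exact Nat.pow_le_pow_right (Fact.out : p.Prime).pos hle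
  have hPF' : P = F := Subgroup.eq_of_le_of_card_ge hPF hge
  exact ⟨hPF' ▸ hF, hPF' ▸ hcard⟩

variable {G : Type*} [Group G] [Finite G] {B : Set (IrrCharacter G)} {D H : Subgroup G}

/-- Conjugation between the centralizers of two conjugate elements. -/
def centConj (t : G) {y y' : G} (h : t * y * t⁻¹ = y') :
    Subgroup.centralizer ({y} : Set G) ≃* Subgroup.centralizer ({y'} : Set G) where
  toFun c := ⟨t * (c : G) * t⁻¹, Subgroup.mem_centralizer_singleton_iff.mpr (by
    rw [← h]
    simp only [mul_assoc, inv_mul_cancel_left]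
    rw [← mul_assoc (c : G), Subgroup.mem_centralizer_singleton_iff.mp c.2, mul_assoc])⟩
  invFun c := ⟨t⁻¹ * (c : G) * t, Subgroup.mem_centralizer_singleton_iff.mpr (by
    have hy : y = t⁻¹ * y' * t := by rw [← h]; group
    rw [hy]
    simp only [mul_assoc, mul_inv_cancel_left]
    rw [← mul_assoc (c : G), Subgroup.mem_centralizer_singleton_iff.mp c.2, mul_assoc])⟩
  left_inv c := Subtype.ext (by simp only; group)
  right_inv c := Subtype.ext (by simp only; group)
  map_mul' a b := Subtype.ext (by simp only [Subgroup.coe_mul]; group)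

omit [Finite G] in
theorem coe_centConj (t : G) {y y' : G} (h : t * y * t⁻¹ = y')
    (c : Subgroup.centralizer ({y} : Set G)) : ((centConj t h c : _) : G) = t * c * t⁻¹ := rfl

local notation "C[" y "]" => Subgroup.centralizer ({y} : Set G)

section Major

variable (hH : H = D ⊔ Subgroup.centralizer (D : Set G)) {b : Set (IrrCharacter H)}

include hH

omit [Finite G] in
theorem le_normalizer_root : H ≤ Subgroup.normalizer (D : Set G) :=
  hH ▸ sup_le Subgroup.le_normalizer (Subgroup.centralizer_le_normalizer _)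

omit [Finite G] in
theorem root_le_centralizer {y : G} (hy : y ∈ D) (hyc : ∀ z ∈ D, z * y = y * z) :
    H ≤ Subgroup.centralizer ({y} : Set G) := by
  rw [hH]
  exact sup_le (fun z hz => Subgroup.mem_centralizer_singleton_iff.mpr (hyc z hz))
    fun z hz => Subgroup.mem_centralizer_singleton_iff.mpr
      (Subgroup.mem_centralizer_iff.mp hz y hy).symm

/-- The major subsection at an element of the centre of `D`. -/
theorem exists_major (hM : IsPModular p M) (hBD : IsDefectGroup p M B D)
    (hind : IsInducedBlock M H b B) {y : G} (hy : y ∈ D) (hyc : ∀ z ∈ D, z * y = y * z) :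
    ∃ β : Set (IrrCharacter (Subgroup.centralizer ({y} : Set G))),
      IsInducedBlock M (H.subgroupOf (Subgroup.centralizer ({y} : Set G)))
        (pullIrr (Subgroup.subgroupOfEquivOfLe (root_le_centralizer hH hy hyc)) '' b) β ∧
      IsInducedBlock M (Subgroup.centralizer ({y} : Set G)) β B ∧
      blockDefect p β = blockDefect p B ∧
      IsDefectGroup p M β (D.subgroupOf (Subgroup.centralizer ({y} : Set G))) := by
  have := isPrime hM
  set C := Subgroup.centralizer ({y} : Set G) with hC
  have hHC : H ≤ C := root_le_centralizer hH hy hyc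
  have hDH : D ≤ H := hH ▸ le_sup_left
  have hDC : D ≤ C := hDH.trans hHC
  have hD := isPGroup_of_isDefectGroup hBD
  have hPK : D.subgroupOf C ≤ H.subgroupOf C := fun x hx => hDH hx
  have hP : IsPGroup p (D.subgroupOf C) := hD.of_equiv (Subgroup.subgroupOfEquivOfLe hDC).symm
  have hCK : Subgroup.centralizer ((D.subgroupOf C : Subgroup C) : Set C) ≤ H.subgroupOf C := by
    intro x hx
    rw [Subgroup.mem_subgroupOf, hH]
    refine Subgroup.mem_sup_right (Subgroup.mem_centralizer_iff.mpr fun z hz => ?_)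
    exact congrArg Subtype.val (Subgroup.mem_centralizer_iff.mp hx ⟨z, hDC hz⟩ hz)
  have hKN : H.subgroupOf C ≤ Subgroup.normalizer ((D.subgroupOf C : Subgroup C) : Set C) := by
    intro x hx
    rw [Subgroup.mem_normalizer_iff]
    intro z
    simp only [Subgroup.mem_subgroupOf, Subgroup.coe_mul, Subgroup.coe_inv]
    exact Subgroup.mem_normalizer_iff.mp (le_normalizer_root hH hx) z
  obtain ⟨β, hβ⟩ := inducedBlockDefined hM hP hPK hCK hKN
    (isPBlock_image_pullIrr (Subgroup.subgroupOfEquivOfLe hHC) hind.1)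
  have hB : IsInducedBlock M C β B := by
    refine ⟨hβ.2.1, hind.2.1, fun ξ hξ χ hχ g => ?_⟩
    obtain ⟨θ, hθ⟩ := isPBlock_nonempty hind.1
    rw [← omega_res_classInd, ← omega_classInd (irr_class χ)]
    have hg := isIntClassFun_classInd (M := M) g
    have h1 := omega_induced hM hβ (Set.mem_image_of_mem _ hθ) hξ (isIntClassFun_res C hg)
    have h2 := omega_induced hM hind hθ hχ hg
    have e : omega (pullIrr (Subgroup.subgroupOfEquivOfLe hHC) θ : H.subgroupOf C → ℂ)
        (res (H.subgroupOf C) (res C (classInd g))) = omega (θ : H → ℂ) (res H (classInd g)) := by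
      rw [← omega_pullIrr (Subgroup.subgroupOfEquivOfLe hHC)]
      rfl
    rw [e] at h1
    simpa using memLocalIdeal_sub h2 h1
  obtain ⟨E, hE⟩ := exists_isDefectGroup hM hβ.2.1
  obtain ⟨F, hF, hEF⟩ := exists_defectGroup_ge hM hB hE
  have hdle : blockDefect p β ≤ blockDefect p B := by
    refine (Nat.pow_le_pow_iff_right (Fact.out : p.Prime).one_lt).mp ?_
    rw [← defectGroup_natCard hM hβ.2.1 hE, ← defectGroup_natCard hM hind.2.1 hF,
      Nat.card_congr (Subgroup.equivMapOfInjective E _ C.subtype_injective).toEquiv]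
    exact Subgroup.card_le_of_le hEF
  have hcard : Nat.card (D.subgroupOf C) = p ^ blockDefect p B :=
    (Nat.card_congr (Subgroup.subgroupOfEquivOfLe hDC).toEquiv).trans
      (defectGroup_natCard hM hind.2.1 hBD)
  obtain ⟨hdef, hcard'⟩ := isDefectGroup_of_inducing_normal hM hP hPK hKN hβ (by
    rwa [hcard, (Fact.out : p.Prime).factorization_pow, Finsupp.single_eq_same])
  exact ⟨β, hβ, hB, (Nat.pow_right_injective (Fact.out : p.Prime).two_le
    (hcard'.symm.trans hcard)), hdef⟩

/-- A conjugation between two of the major subsections can be realised in the inertial group. -/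
theorem exists_inertial (hM : IsPModular p M) (hBD : IsDefectGroup p M B D)
    (hind : IsInducedBlock M H b B) {y y' : G} (hy : y ∈ D) (hyc : ∀ z ∈ D, z * y = y * z)
    (hy' : y' ∈ D) (hyc' : ∀ z ∈ D, z * y' = y' * z)
    {β : Set (IrrCharacter (Subgroup.centralizer ({y} : Set G)))}
    {β' : Set (IrrCharacter (Subgroup.centralizer ({y'} : Set G)))}
    (hβ : IsInducedBlock M (H.subgroupOf (Subgroup.centralizer ({y} : Set G)))
      (pullIrr (Subgroup.subgroupOfEquivOfLe (root_le_centralizer hH hy hyc)) '' b) β)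
    (hβD : IsDefectGroup p M β (D.subgroupOf (Subgroup.centralizer ({y} : Set G))))
    (hβ' : IsInducedBlock M (H.subgroupOf (Subgroup.centralizer ({y'} : Set G)))
      (pullIrr (Subgroup.subgroupOfEquivOfLe (root_le_centralizer hH hy' hyc')) '' b) β')
    {t : G} (ht : t * y * t⁻¹ = y') (hconj : pullIrr (centConj t ht) '' β' = β) :
    ∃ g : G, g * y * g⁻¹ = y' ∧ g ∈ Subgroup.normalizer (D : Set G) ∧
      ∀ θ ∈ b, ∀ θ' : IrrCharacter H, (∀ h h' : H, (h' : G) = g * h * g⁻¹ →
        (θ' : H → ℂ) h' = (θ : H → ℂ) h) → θ' ∈ b := by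
  have := isPrime hM
  have hHC : H ≤ C[y] := root_le_centralizer hH hy hyc
  have hHC' : H ≤ C[y'] := root_le_centralizer hH hy' hyc'
  have hDH : D ≤ H := hH ▸ le_sup_left
  have hD := isPGroup_of_isDefectGroup hBD
  -- the pulled back defect group
  set τ := centConj t ht with hτ
  set K'' := (H.subgroupOf C[y']).comap τ.toMonoidHom with hK''
  set P'' := (D.subgroupOf C[y']).comap τ.toMonoidHom with hP''
  set τK : K'' ≃* H.subgroupOf C[y'] :=
    { toFun := fun k => ⟨τ k, k.2⟩
      invFun := fun k => ⟨τ.symm k, by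
        show τ (τ.symm (k : C[y'])) ∈ H.subgroupOf C[y']
        rw [τ.apply_symm_apply]; exact k.2⟩
      left_inv := fun k => Subtype.ext (τ.symm_apply_apply _)
      right_inv := fun k => Subtype.ext (τ.apply_symm_apply _)
      map_mul' := fun a b => Subtype.ext (map_mul τ _ _) } with hτK
  have hind'' := isInducedBlock_transport hM τ τK (fun k => rfl) hβ'
  rw [hconj] at hind''
  have hcardP'' : Nat.card P'' = Nat.card D := by
    have e1 : P''.map τ.toMonoidHom = D.subgroupOf C[y'] :=
      Subgroup.map_comap_eq_self_of_surjective τ.surjective _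
    rw [Nat.card_congr (Subgroup.equivMapOfInjective P'' τ.toMonoidHom τ.injective).toEquiv, e1,
      Nat.card_congr (Subgroup.subgroupOfEquivOfLe (hDH.trans hHC')).toEquiv]
  have hP''p : IsPGroup p P'' := by
    obtain ⟨j, hj⟩ := hD.exists_card_eq
    exact IsPGroup.of_card (hcardP''.trans hj)
  have hKN'' : K'' ≤ Subgroup.normalizer ((P'' : Subgroup C[y]) : Set C[y]) := by
    intro x hx
    rw [Subgroup.mem_normalizer_iff]
    intro z
    simp only [hP'', Subgroup.mem_comap, Subgroup.mem_subgroupOf, map_mul, map_inv, Subgroup.coe_mul,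
      Subgroup.coe_inv]
    exact Subgroup.mem_normalizer_iff.mp (le_normalizer_root hH hx) _
  have hcardD : Nat.card D = p ^ blockDefect p β := by
    rw [← defectGroup_natCard hM hβ.2.1 hβD,
      Nat.card_congr (Subgroup.subgroupOfEquivOfLe (hDH.trans hHC)).toEquiv]
  have hdef'' := (isDefectGroup_of_inducing_normal hM hP''p (Subgroup.comap_mono fun x hx => hDH hx)
    hKN'' hind'' (by rw [hcardP'', hcardD, (Fact.out : p.Prime).factorization_pow,
      Finsupp.single_eq_same])).1
  obtain ⟨c, hc⟩ := isConj_defectGroup hM hβ.2.1 hβD hdef''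
  -- now the conjugating element normalizes `D`
  set t' := t * (c : G) with ht'
  have hyt' : t' * y * t'⁻¹ = y' := by
    rw [← ht, ht', show t * (c : G) * y * (t * (c : G))⁻¹ = t * ((c : G) * y * (c : G)⁻¹) * t⁻¹ by
      group, Subgroup.mem_centralizer_singleton_iff.mp c.2, mul_inv_cancel_right]
  have hN : t' ∈ Subgroup.normalizer (D : Set G) := by
    have hmap : ∀ z ∈ D, t' * z * t'⁻¹ ∈ D := by
      intro z hz
      have hzC : z ∈ C[y] := hHC (hDH hz)
      have h1 : c * ⟨z, hzC⟩ * c⁻¹ ∈ P'' := by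
        rw [← hc]
        exact ⟨⟨z, hzC⟩, hz, rfl⟩
      have h2 : t * ((c : G) * z * (c : G)⁻¹) * t⁻¹ ∈ D := h1
      rw [ht']
      convert h2 using 1
      group
    have e : D.map (MulAut.conj t').toMonoidHom = D := by
      refine Subgroup.eq_of_le_of_card_ge ?_ (natCard_map_conj D t').ge
      rintro _ ⟨z, hz, rfl⟩
      exact hmap z hz
    rw [Subgroup.mem_normalizer_iff]
    intro z
    refine ⟨hmap z, fun hz => ?_⟩
    rw [← e] at hz
    obtain ⟨w, hw, hwz⟩ := hz
    simp only [MulEquiv.toMonoidHom_eq_coe, MonoidHom.coe_coe, MulAut.conj_apply] at hwz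
    rwa [← mul_left_cancel (mul_right_cancel hwz)]
  set τ' := centConj t' hyt' with hτ'
  have hconj' : pullIrr τ' '' β' = β := by
    rw [← hconj]
    refine Set.image_congr fun ξ _ => Subtype.ext (funext fun x => ?_)
    rw [pullIrr_apply, pullIrr_apply]
    have h := irr_class (pullIrr τ ξ) x c
    rw [pullIrr_apply, pullIrr_apply] at h
    rw [← h]
    refine congrArg _ (Subtype.ext ?_)
    show t' * (x : G) * t'⁻¹ = t * ((c : G) * x * (c : G)⁻¹) * t⁻¹
    rw [ht']; group
  have hn : ∀ k : G, k ∈ H ↔ t' * k * t'⁻¹ ∈ H := fun k => by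
    rw [hH]; exact mem_sup_centralizer_iff hN k
  set eC := Subgroup.subgroupOfEquivOfLe hHC with heC
  set eC' := Subgroup.subgroupOfEquivOfLe hHC' with heC'
  set τK' := (eC.trans (normConj t' hn)).trans eC'.symm with hτK'
  have hind' := isInducedBlock_transport hM τ' τK' (fun k => Subtype.ext rfl) hβ'
  rw [hconj'] at hind'
  have hK : H.subgroupOf C[y] =
      D.subgroupOf C[y] ⊔ Subgroup.centralizer ((D.subgroupOf C[y] : Subgroup C[y]) : Set C[y]) := by
    have hCC : Subgroup.centralizer (D : Set G) ≤ C[y] := le_trans (hH ▸ le_sup_right) hHC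
    rw [hH, Subgroup.subgroupOf_sup (hDH.trans hHC) hCC]
    congr 1
    ext x
    simp only [Subgroup.mem_subgroupOf, Subgroup.mem_centralizer_iff]
    refine ⟨fun h z hz => Subtype.ext (h z hz), fun h z hz => ?_⟩
    exact congrArg Subtype.val (h ⟨z, hHC (hDH hz)⟩ hz)
  obtain ⟨n, hnN, hn'⟩ := conj_of_inducing hM hβ.2.1 hβD hK hβ hind'
  have hnN' : (n : G) ∈ Subgroup.normalizer (D : Set G) := by
    rw [Subgroup.mem_normalizer_iff]
    intro z
    constructor
    · intro hz
      exact (Subgroup.mem_normalizer_iff.mp hnN ⟨z, hHC (hDH hz)⟩).mp hz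
    · intro hz
      have hzC : z ∈ C[y] := by
        have h := mul_mem (mul_mem (inv_mem n.2) (hHC (hDH hz))) n.2
        simpa [mul_assoc] using h
      exact (Subgroup.mem_normalizer_iff.mp hnN ⟨z, hzC⟩).mpr hz
  set g := t' * (n : G)⁻¹ with hg
  have hgN : g ∈ Subgroup.normalizer (D : Set G) := mul_mem hN (inv_mem hnN')
  have hgH : ∀ k : G, k ∈ H ↔ g⁻¹ * k * g⁻¹⁻¹ ∈ H := fun k => by
    rw [hH]; exact mem_sup_centralizer_iff (inv_mem hgN) k
  refine ⟨g, ?_, hgN, fun θ hθ θ' hθ' => ?_⟩
  · have h1 : (n : G)⁻¹ * y = y * (n : G)⁻¹ :=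
      Subgroup.mem_centralizer_singleton_iff.mp (inv_mem n.2)
    rw [hg, show t' * (n : G)⁻¹ * y * (t' * (n : G)⁻¹)⁻¹ = t' * ((n : G)⁻¹ * y * (n : G)) * t'⁻¹ by
      group, h1, inv_mul_cancel_right, hyt']
  · obtain ⟨θ₀, hθ₀⟩ := isPBlock_nonempty hind.1
    obtain ⟨_, ⟨θ₁, hθ₁, rfl⟩, e⟩ := hn' _ (Set.mem_image_of_mem _ hθ₀)
    have e0 : twist (normConj g⁻¹ hgH) θ₀ = θ₁ := by
      refine Subtype.ext (funext fun k => ?_)
      set k₁ : H := ⟨t'⁻¹ * k * t', by
        have := (hn (t'⁻¹ * k * t')).mpr (by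
          rw [show t' * (t'⁻¹ * (k : G) * t') * t'⁻¹ = k by group]; exact k.2)
        exact this⟩ with hk₁
      have h := congrFun (congrArg Subtype.val e) (eC.symm k₁)
      rw [pullIrr_apply, pullIrr_apply] at h
      show (θ₀ : H → ℂ) _ = _
      calc (θ₀ : H → ℂ) (normConj g⁻¹ hgH k)
          = (θ₀ : H → ℂ) (eC (normConj n (mem_iff_of_eq_sup hK hnN) (eC.symm k₁))) := by
            refine congrArg _ (Subtype.ext ?_)
            show g⁻¹ * (k : G) * g⁻¹⁻¹ = (n : G) * (t'⁻¹ * k * t') * (n : G)⁻¹
            rw [hg]; group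
        _ = (θ₁ : H → ℂ) (eC' (τK' (eC.symm k₁))) := h.symm
        _ = (θ₁ : H → ℂ) k := by
            refine congrArg _ (Subtype.ext ?_)
            simp only [hτK', MulEquiv.trans_apply, MulEquiv.apply_symm_apply]
            show t' * (t'⁻¹ * (k : G) * t') * t'⁻¹ = k
            group
    have hθ'eq : θ' = twist (normConj g⁻¹ hgH) θ := by
      refine Subtype.ext (funext fun k => ?_)
      refine hθ' (normConj g⁻¹ hgH k) k ?_
      show (k : G) = g * (g⁻¹ * k * g⁻¹⁻¹) * g⁻¹
      group
    rw [hθ'eq, isPBlock_eq_blockOf hind.1 hθ₁, ← e0]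
    exact sameBlock_twist hM _ (sameBlock_of_mem hind.1 hθ₀ hθ)

end Major

end Cfsg.Agent.BC86
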