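import Cfsg.Agent.Lib.CharCore.Complete
import Mathlib.GroupTheory.ClassEquation
import Mathlib.Algebra.Order.BigOperators.Group.Multiset
import Mathlib.Data.Rat.Floor
import Mathlib.Algebra.Order.Floor.Semiring

/-!
# Boundedly many classes bound the order (Landau)
-/

namespace Cfsg.Agent.BC86

/-- Egyptian fractions with boundedly many terms have bounded denominators. -/
theorem exists_bound_egyptian : ∀ (k : ℕ) (t : ℚ), ∃ b : ℕ, ∀ s : Multiset ℕ,
    Multiset.card s ≤ k → (∀ n ∈ s, 0 < n) → (s.map fun n : ℕ => (1 : ℚ) / n).sum = t →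
      ∀ n ∈ s, n ≤ b := by
  intro k
  induction k with
  | zero =>
    intro t
    refine ⟨0, fun s hs _ _ n hn => ?_⟩
    rw [Nat.le_zero, Multiset.card_eq_zero] at hs
    simp [hs] at hn
  | succ k ih =>
    intro t
    choose b hb using ih
    set N := ⌊((k : ℚ) + 1) / t⌋₊
    refine ⟨N + (Finset.range (N + 1)).sup (fun m => b (t - 1 / (m : ℚ))), fun s hs hpos hsum n hn => ?_⟩
    have hsne : s ≠ 0 := fun h => by simp [h] at hn
    obtain ⟨m, hm, hmin⟩ := Finset.exists_min_image s.toFinset (fun x => x) (by simpa using hsne)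
    rw [Multiset.mem_toFinset] at hm
    have hm0 : (0 : ℚ) < m := Nat.cast_pos.mpr (hpos m hm)
    have ht : t ≤ ((k : ℚ) + 1) / m := by
      rw [← hsum]
      calc (s.map fun x : ℕ => (1 : ℚ) / x).sum ≤ (s.map fun _ => (1 : ℚ) / m).sum := by
            refine Multiset.sum_map_le_sum_map _ _ fun x hx => ?_
            exact one_div_le_one_div_of_le hm0
              (Nat.cast_le.mpr (hmin x (Multiset.mem_toFinset.mpr hx)))
        _ = (Multiset.card s : ℚ) / m := by simp [div_eq_mul_inv]
        _ ≤ ((k : ℚ) + 1) / m := by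
            gcongr
            exact_mod_cast hs
    have ht0 : 0 < t := by
      rw [← hsum, ← Multiset.cons_erase hm, Multiset.map_cons, Multiset.sum_cons]
      have : 0 ≤ ((s.erase m).map fun x : ℕ => (1 : ℚ) / x).sum :=
        Multiset.sum_nonneg fun q hq => by
          obtain ⟨x, -, rfl⟩ := Multiset.mem_map.mp hq
          positivity
      positivity
    have hmN : m ≤ N := by
      refine Nat.le_floor ?_
      rw [le_div_iff₀ ht0, mul_comm, ← le_div_iff₀ hm0]
      exact ht
    have hrest : ((s.erase m).map fun x : ℕ => (1 : ℚ) / x).sum = t - 1 / (m : ℚ) := by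
      rw [← hsum]
      nth_rewrite 2 [← Multiset.cons_erase hm]
      rw [Multiset.map_cons, Multiset.sum_cons]
      ring
    by_cases hnm : n = m
    · omega
    · have h1 := hb (t - 1 / (m : ℚ)) (s.erase m)
        (by rw [Multiset.card_erase_of_mem hm]; exact Nat.pred_le_iff.mpr hs)
        (fun x hx => hpos x (Multiset.mem_of_mem_erase hx)) hrest n
        ((Multiset.mem_erase_of_ne hnm).mpr hn)
      have h2 := Finset.le_sup (f := fun m : ℕ => b (t - 1 / (m : ℚ)))
        (Finset.mem_range.mpr (Nat.lt_succ_of_le hmN))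
      exact h1.trans (h2.trans (Nat.le_add_left _ _))

/-- Landau: the order of a group is bounded by a function of its number of classes. -/
theorem exists_bound_card_of_classes (k : ℕ) : ∃ N : ℕ, ∀ (G : Type*) [Group G] [Finite G],
    Nat.card (ConjClasses G) ≤ k → Nat.card G ≤ N := by
  obtain ⟨b, hb⟩ := exists_bound_egyptian k 1
  refine ⟨b, fun G _ _ hk => ?_⟩
  classical
  have := Fintype.ofFinite G
  have : Finite (ConjClasses G) := Finite.of_surjective _ ConjClasses.mk_surjective
  have := Fintype.ofFinite (ConjClasses G)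
  have hcard : ∀ C : ConjClasses G, (C.carrier.toFinset.card) ∣ Nat.card G := by
    intro C
    obtain ⟨g, rfl⟩ := ConjClasses.mk_surjective C
    rw [Set.toFinset_card]
    have h := MulAction.card_orbit_mul_card_stabilizer_eq_card_group (ConjAct G) g
    simp only [ConjAct.orbit_eq_carrier_conjClasses] at h
    exact ⟨_, by rw [Nat.card_eq_fintype_card (α := G), ← ConjAct.card (G := G)]; exact h.symm⟩
  let s : Multiset ℕ := (Finset.univ : Finset (ConjClasses G)).val.map
    fun C => Nat.card G / C.carrier.toFinset.card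
  have hpos : ∀ C : ConjClasses G, 0 < C.carrier.toFinset.card := fun C => by
    obtain ⟨g, rfl⟩ := ConjClasses.mk_surjective C
    exact Finset.card_pos.mpr ⟨g, Set.mem_toFinset.mpr (ConjClasses.mem_carrier_mk)⟩
  refine hb s ?_ ?_ ?_ (Nat.card G) ?_
  · simp only [s, Multiset.card_map]
    calc Finset.univ.card = Fintype.card (ConjClasses G) := rfl
      _ ≤ k := by rwa [← Nat.card_eq_fintype_card]
  · intro n hn
    obtain ⟨C, -, rfl⟩ := Multiset.mem_map.mp hn
    exact Nat.div_pos (Nat.le_of_dvd Nat.card_pos (hcard C)) (hpos C)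
  · simp only [s, Multiset.map_map, Function.comp_def]
    change ∑ C : ConjClasses G, (1 : ℚ) / ((Nat.card G / C.carrier.toFinset.card : ℕ) : ℚ) = 1
    have hsum : ∑ C : ConjClasses G, C.carrier.toFinset.card = Nat.card G := by
      rw [Nat.card_eq_fintype_card]
      simpa using sum_conjClasses_card_eq_card G
    have h : ∀ C : ConjClasses G, (1 : ℚ) / ((Nat.card G / C.carrier.toFinset.card : ℕ) : ℚ)
        = (C.carrier.toFinset.card : ℚ) / Nat.card G := fun C => by
      rw [Nat.cast_div (hcard C) (Nat.cast_ne_zero.mpr (hpos C).ne'), one_div_div]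
    simp only [h, ← Finset.sum_div, ← Nat.cast_sum, hsum]
    exact div_self (Nat.cast_ne_zero.mpr Nat.card_pos.ne')
  · refine Multiset.mem_map.mpr ⟨ConjClasses.mk 1, Finset.mem_univ _, ?_⟩
    have : (ConjClasses.mk (1 : G)).carrier.toFinset = {1} := by
      ext g
      simp [ConjClasses.mem_carrier_iff_mk_eq, ConjClasses.mk_eq_mk_iff_isConj]
    rw [this, Finset.card_singleton, Nat.div_one]

end Cfsg.Agent.BC86
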