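import Cfsg.Agent.BC86.PRegular
import Cfsg.Agent.BC86.Landau
import Cfsg.Agent.Lib.BlocksCore.Ring

/-!
# Groups with a single `p`-block have boundedly many classes
-/

open scoped ComplexConjugate
open Cfsg.Agent.CharCore Cfsg.Agent.BlocksCore

namespace Cfsg.Agent.BC86

variable {G : Type*} [Group G] [Finite G] {p : ℕ} {M : Ideal Cfsg.AlgInt}

/-- A character of the principal block has nonzero sum over the `p`-regular elements. -/
theorem sum_pRegular_ne_zero [Fintype G]
    (hM : Cfsg.IsPModular p M) {ψ : Cfsg.IrrCharacter G}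
    (hψ : ψ ∈ Cfsg.principalBlock M G) :
    ∑ g : G, (if p ∣ orderOf g then 0 else (ψ : G → ℂ) g) ≠ 0 := by
  classical
  have := isPrime hM
  have := Fact.mk hM.1
  intro h0
  let ind : G → ℂ := fun g => if p ∣ orderOf g then 0 else 1
  have hind : IsIntClassFun M ind := by
    refine ⟨fun g h => ?_, fun g => ?_⟩
    · simp only [ind, show orderOf (h * g * h⁻¹) = orderOf g from MulEquiv.orderOf_eq (MulAut.conj h) g]
    · simp only [ind]
      split_ifs
      exacts [(localRing M).zero_mem, (localRing M).one_mem]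
  let one : Cfsg.IrrCharacter G := ⟨_, isIrrCharacter_one (G := G)⟩
  have hsame : Cfsg.SameBlock M ((one : G → ℂ)) (ψ : G → ℂ) := hψ
  have h := omega_sub_memLocalIdeal hsame hind
  have e1 : omega (ψ : G → ℂ) ind = 0 := by
    rw [omega_eq_sum]
    simp only [ind, ite_mul, zero_mul, one_mul]
    rw [h0, zero_div]
  have e2 : omega (one : G → ℂ) ind = (Nat.card {g : G // ¬ p ∣ orderOf g} : ℂ) := by
    rw [omega_eq_sum, Nat.card_eq_fintype_card, Fintype.card_subtype]
    simp only [ind, one, Pi.one_apply, mul_one, div_one, Finset.natCast_card_filter, ite_not]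
  rw [e1, e2, sub_zero] at h
  exact not_dvd_card_pRegular ((memLocalIdeal_natCast_iff hM _).mp h)

/-- With a single block there are at most `p ^ (2 a)` irreducible characters. -/
theorem card_irr_le_of_one_block (hM : Cfsg.IsPModular p M)
    (hone : ∀ B : Set (Cfsg.IrrCharacter G), Cfsg.IsPBlock M B → B = Cfsg.principalBlock M G) :
    Nat.card (Cfsg.IrrCharacter G) ≤ p ^ (2 * (Nat.card G).factorization p) := by
  classical
  have := Fintype.ofFinite G
  have := Fact.mk hM.1
  have := isPrime hM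
  set a := (Nat.card G).factorization p
  set f := regFun p a G
  choose n hn using fun ψ : Cfsg.IrrCharacter G =>
    CharCore.IsGeneralizedCharacter.exists_classInner_irr_eq_intCast
      (isGeneralizedCharacter_regFun (p := p) (G := G)) ψ
  have hne : ∀ ψ, n ψ ≠ 0 := by
    intro ψ h0
    have hmem : ψ ∈ Cfsg.principalBlock M G :=
      hone _ (isPBlock_blockOf ψ) ▸ mem_blockOf_self ψ
    refine sum_pRegular_ne_zero hM hmem ?_
    have h1 : Cfsg.classInner f (ψ : G → ℂ) = 0 := by rw [hn ψ, h0, Int.cast_zero]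
    rw [classInner_def] at h1
    have h2 := (mul_eq_zero.mp h1).resolve_left (inv_ne_zero (Nat.cast_ne_zero.mpr Nat.card_pos.ne'))
    have h3 : (p : ℂ) ^ a * ∑ g : G, conj (if p ∣ orderOf g then 0 else (ψ : G → ℂ) g) = 0 := by
      rw [Finset.mul_sum]
      refine Eq.trans ?_ h2
      refine Finset.sum_congr rfl fun g _ => ?_
      simp only [f, regFun]
      split_ifs <;> simp
    have h4 := congrArg conj ((mul_eq_zero.mp h3).resolve_left
      (pow_ne_zero _ (Nat.cast_ne_zero.mpr hM.1.ne_zero)))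
    simpa [map_sum] using h4
  have hsum : (∑ ψ : Cfsg.IrrCharacter G, (n ψ : ℂ) * n ψ) * (Nat.card G : ℂ)
      = (Nat.card {g : G // ¬ p ∣ orderOf g} : ℂ) * ((p : ℂ) ^ a * (p : ℂ) ^ a) := by
    have h1 : ∑ ψ : Cfsg.IrrCharacter G, (n ψ : ℂ) * n ψ = Cfsg.classInner f f := by
      rw [classInner_eq_sum (isClassFunction_regFun a G) (isClassFunction_regFun a G)]
      exact Finset.sum_congr rfl fun ψ _ => by rw [hn ψ, map_intCast]
    rw [h1, classInner_def, mul_comm, ← mul_assoc, mul_inv_cancel₀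
      (Nat.cast_ne_zero.mpr Nat.card_pos.ne'), one_mul]
    rw [Nat.card_eq_fintype_card, Fintype.card_subtype, Finset.natCast_card_filter, Finset.sum_mul]
    refine Finset.sum_congr rfl fun g _ => ?_
    simp only [f, regFun]
    split_ifs <;> simp
  have hZ : (∑ ψ : Cfsg.IrrCharacter G, n ψ * n ψ) * (Nat.card G : ℤ)
      = (Nat.card {g : G // ¬ p ∣ orderOf g} : ℤ) * ((p : ℤ) ^ (2 * a)) := by
    have : ((p : ℤ) ^ (2 * a)) = (p : ℤ) ^ a * (p : ℤ) ^ a := by rw [two_mul, pow_add]
    rw [this]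
    exact_mod_cast hsum
  have hle : (Nat.card (Cfsg.IrrCharacter G) : ℤ) ≤ ∑ ψ : Cfsg.IrrCharacter G, n ψ * n ψ := by
    calc (Nat.card (Cfsg.IrrCharacter G) : ℤ) = ∑ _ψ : Cfsg.IrrCharacter G, 1 := by
          simp [Nat.card_eq_fintype_card]
      _ ≤ _ := Finset.sum_le_sum fun ψ _ => by nlinarith [mul_self_pos.mpr (hne ψ)]
  have hle2 : (Nat.card {g : G // ¬ p ∣ orderOf g} : ℤ) ≤ Nat.card G := by
    exact_mod_cast Nat.card_le_card_of_injective _ Subtype.val_injective
  have hG : (0 : ℤ) < Nat.card G := by exact_mod_cast Nat.card_pos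
  have : (Nat.card (Cfsg.IrrCharacter G) : ℤ) ≤ (p : ℤ) ^ (2 * a) := by
    refine le_of_mul_le_mul_right ?_ hG
    calc (Nat.card (Cfsg.IrrCharacter G) : ℤ) * Nat.card G
        ≤ (∑ ψ : Cfsg.IrrCharacter G, n ψ * n ψ) * Nat.card G :=
          mul_le_mul_of_nonneg_right hle hG.le
      _ ≤ (p : ℤ) ^ (2 * a) * Nat.card G := by
          rw [hZ, mul_comm]
          exact mul_le_mul_of_nonneg_left hle2 (by positivity)
  exact_mod_cast this

end Cfsg.Agent.BC86
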