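import Cfsg.Agent.BC86.FourBound
import Cfsg.Agent.S4718
import Cfsg.Agent.Lib.BlocksDefect.PrincipalSection
import Cfsg.Agent.Lib.BlocksDefect.Quotient
import Cfsg.Agent.Lib.BlocksCore.Brauer

/-!
# Groups whose non-principal `2`-blocks have small defect
-/

set_option autoImplicit false
set_option linter.unusedSectionVars false

open scoped Classical

namespace Cfsg.Agent.BC86

open BlocksCore BlocksDefect

universe u

variable {G : Type u} [Group G] [Finite G] {M : Ideal AlgInt}

local notation "C[" F "]" => Subgroup.centralizer ((F : Subgroup G) : Set G)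

theorem le_centralizer_of_comm {E F : Subgroup G} (hF : F ≤ E)
    (hE : ∀ x ∈ E, ∀ y ∈ E, x * y = y * x) : E ≤ C[F] :=
  fun _ he => Subgroup.mem_centralizer_iff.mpr fun f hf => hE f (hF hf) _ he

theorem normal_of_center {X : Type*} [Group X] {N : Subgroup X} (h : N ≤ Subgroup.center X) :
    N.Normal :=
  ⟨fun n hn g => by rw [Subgroup.mem_center_iff.mp (h hn) g, mul_inv_cancel_right]; exact hn⟩

theorem subgroupOf_le_center (F : Subgroup G) : F.subgroupOf C[F] ≤ Subgroup.center C[F] :=
  fun _ hn => Subgroup.mem_center_iff.mpr fun g =>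
    Subtype.ext (Subgroup.mem_centralizer_iff.mp g.2 _ hn).symm

/-- Above the threshold the centraliser has a single block. -/
theorem block_eq_principal (hM : IsPModular 2 M) {r : ℕ}
    (hdef : ∀ B : Set (IrrCharacter G), IsPBlock M B → B ≠ principalBlock M G → blockDefect 2 B < r)
    {F : Subgroup G} (hFp : IsPGroup 2 F) (hFc : F ≤ C[F]) (hr : 2 ^ r ≤ Nat.card F)
    {b : Set (IrrCharacter C[F])} (hb : IsPBlock M b) : b = principalBlock M C[F] := by
  haveI : Fact (Nat.Prime 2) := ⟨Nat.prime_two⟩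
  have := Fintype.ofFinite G
  have := isPrime hM
  obtain ⟨B, hB⟩ := inducedBlockDefined hM hFp hFc le_rfl
    (Subgroup.centralizer_le_normalizer _) hb
  obtain ⟨D, hD⟩ := exists_isDefectGroup hM hb
  haveI : (F.subgroupOf C[F]).Normal := normal_of_center (subgroupOf_le_center F)
  have hFD : F.subgroupOf C[F] ≤ D := le_defectGroup _ hM
    (hFp.of_equiv (Subgroup.subgroupOfEquivOfLe hFc).symm) hb hD
  obtain ⟨E, hE, hDE⟩ := exists_defectGroup_ge hM hB hD
  have hle : 2 ^ r ≤ 2 ^ blockDefect 2 B := by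
    rw [← defectGroup_natCard hM hB.2.1 hE]
    refine hr.trans (Subgroup.card_le_of_le (le_trans ?_ hDE))
    exact fun f hf => ⟨⟨f, hFc hf⟩, hFD hf, rfl⟩
  have hr' := (Nat.pow_le_pow_iff_right (le_refl 2)).mp hle
  obtain rfl : B = principalBlock M G := by
    by_contra hne
    exact absurd (hdef B hB.2.1 hne) (not_lt.mpr hr')
  exact eq_principal_of_induced hM hB

/-- A central `2`-quotient of a group with one block has one block. -/
theorem block_quotient_eq_principal (hM : IsPModular 2 M) {N : Subgroup G} [N.Normal]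
    (hN : IsPGroup 2 N) (hNc : N ≤ Subgroup.center G)
    (hone : ∀ b : Set (IrrCharacter G), IsPBlock M b → b = principalBlock M G)
    {B : Set (IrrCharacter (G ⧸ N))} (hB : IsPBlock M B) : B = principalBlock M (G ⧸ N) := by
  haveI : Fact (Nat.Prime 2) := ⟨Nat.prime_two⟩
  have := isPrime hM
  obtain ⟨ψ, rfl⟩ := hB
  have hC : ∃ k : ℕ, (Subgroup.centralizer (N : Set G)).index = 2 ^ k := by
    refine ⟨0, ?_⟩
    rw [pow_zero, Subgroup.index_eq_one, eq_top_iff]
    exact fun x _ => Subgroup.mem_centralizer_iff.mpr fun n hn =>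
      (Subgroup.mem_center_iff.mp (hNc hn) x).symm
  have h : SameBlock M (inflate N (oneIrr (G ⧸ N)) : G → ℂ) (inflate N ψ : G → ℂ) := by
    have h1 : inflate N ψ ∈ principalBlock M G :=
      hone _ (isPBlock_blockOf (inflate N ψ)) ▸ mem_blockOf_self (inflate N ψ)
    exact h1
  have h2 := sameBlock_of_inflate_pGroup hM hN hC h
  rw [principalBlock_def]
  exact (isPBlock_eq_blockOf (isPBlock_blockOf (oneIrr (G ⧸ N))) h2).symm

/-- The inductive bound on the centralisers. -/
theorem exists_bound_centralizer (a : ℕ) : ∀ k : ℕ, ∃ N : ℕ, ∀ (G : Type u) [Group G] [Finite G]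
    (M : Ideal AlgInt) (r : ℕ), IsPModular 2 M → (Nat.card G).factorization 2 ≤ a →
    (∀ B : Set (IrrCharacter G), IsPBlock M B → B ≠ principalBlock M G → blockDefect 2 B < r) →
    ∀ E : Subgroup G, (∀ x ∈ E, ∀ y ∈ E, x * y = y * x) → (∀ x ∈ E, x * x = 1) →
    Nat.card E = 2 ^ (r + 1) → ∀ F : Subgroup G, F ≤ E → 2 ^ r ≤ Nat.card F * 2 ^ k →
    Nat.card (Subgroup.centralizer (F : Set G)) ≤ N := by
  haveI : Fact (Nat.Prime 2) := ⟨Nat.prime_two⟩
  have hcards : ∀ (G : Type u) [Group G] [Finite G], (Nat.card G).factorization 2 ≤ a →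
      ∀ E : Subgroup G, (∀ x ∈ E, x * x = 1) → ∀ F : Subgroup G, F ≤ E →
      IsPGroup 2 F ∧ Nat.card F ≤ 2 ^ a ∧ ∀ (K : Subgroup G) (L : Subgroup K) [L.Normal],
        (Nat.card (K ⧸ L)).factorization 2 ≤ a := by
    intro G _ _ ha E hE F hF
    have hFp : IsPGroup 2 F := fun x => ⟨1, Subtype.ext (by
      rw [pow_one, pow_two, Subgroup.coe_mul, hE _ (hF x.2), Subgroup.coe_one])⟩
    refine ⟨hFp, ?_, fun K L _ => le_trans ?_ ha⟩
    · obtain ⟨j, hj⟩ := hFp.exists_card_eq
      rw [hj]
      refine Nat.pow_le_pow_right (by norm_num) (le_trans ?_ ha)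
      refine (Nat.prime_two.pow_dvd_iff_le_factorization Nat.card_pos.ne').mp ?_
      rw [← hj]
      exact F.card_subgroup_dvd_card
    · exact (Nat.factorization_le_iff_dvd Nat.card_pos.ne' Nat.card_pos.ne').mpr
        ((Subgroup.card_quotient_dvd_card L).trans K.card_subgroup_dvd_card) 2
  intro k
  induction k with
  | zero =>
    choose N₁ hN₁ using fun i => Cfsg.Agent.S4718.result.{u} 2 i
    refine ⟨2 ^ a * ∑ i ∈ Finset.range (a + 1), N₁ i, fun G _ _ M r hM ha hdef E hcomm hsq _ F hF hr => ?_⟩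
    rw [pow_zero, mul_one] at hr
    obtain ⟨hFp, hFa, hquot⟩ := hcards G ha E hsq F hF
    have hFc : F ≤ Subgroup.centralizer (F : Set G) := hF.trans (le_centralizer_of_comm hF hcomm)
    set Y := Subgroup.centralizer (F : Set G) with hY
    haveI : (F.subgroupOf Y).Normal := normal_of_center (subgroupOf_le_center F)
    have hQ := hquot Y (F.subgroupOf Y)
    have h1 := hN₁ _ (Y ⧸ F.subgroupOf Y) M hM rfl fun B hB =>
      block_quotient_eq_principal hM (hFp.of_equiv (Subgroup.subgroupOfEquivOfLe hFc).symm)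
        (subgroupOf_le_center F) (fun b hb => block_eq_principal hM hdef hFp hFc hr hb) hB
    rw [Subgroup.card_eq_card_quotient_mul_card_subgroup (F.subgroupOf Y), mul_comm,
      Nat.card_congr (Subgroup.subgroupOfEquivOfLe hFc).toEquiv]
    exact Nat.mul_le_mul hFa (h1.trans (Finset.single_le_sum (f := N₁) (fun _ _ => Nat.zero_le _)
      (Finset.mem_range.mpr (Nat.lt_succ_of_le hQ))))
  | succ k ih =>
    obtain ⟨N, hN⟩ := ih
    obtain ⟨N₄, hN₄⟩ := exists_bound_four.{u} a N
    refine ⟨max N (2 ^ a * N₄), fun G _ _ M r hM ha hdef E hcomm hsq hcard F hF hr => ?_⟩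
    have := Fintype.ofFinite G
    by_cases hk : 2 ^ r ≤ Nat.card F * 2 ^ k
    · exact (hN G M r hM ha hdef E hcomm hsq hcard F hF hk).trans (le_max_left _ _)
    refine le_trans ?_ (le_max_right _ _)
    obtain ⟨hFp, hFa, hquot⟩ := hcards G ha E hsq F hF
    have hlt : 2 * Nat.card F < Nat.card E := by
      rw [hcard, pow_succ]
      have : Nat.card F < 2 ^ r := lt_of_le_of_lt (Nat.le_mul_of_pos_right _ (pow_pos (by norm_num) k))
        (not_le.mp hk)
      omega
    have hnle : ∀ {K : Subgroup G}, Nat.card K < Nat.card E → ∃ e ∈ E, e ∉ K := fun hK => by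
      by_contra hno
      push Not at hno
      exact absurd (Subgroup.card_le_of_le hno) (not_le.mpr hK)
    obtain ⟨e₁, he₁E, he₁⟩ := hnle (K := F) (by omega)
    obtain ⟨e₂, he₂E, he₂, he₂'⟩ : ∃ e ∈ E, e ∉ F ∧ e * e₁ ∉ F := by
      by_contra hno
      push Not at hno
      have hle : (Finset.univ.filter fun x : G => x ∈ E).card ≤
          (Finset.univ.filter fun x : G => x ∈ F).card +
            (Finset.univ.filter fun x : G => x * e₁ ∈ F).card := by
        refine le_trans (Finset.card_le_card fun x hx => ?_) (Finset.card_union_le _ _)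
        by_cases hxF : x ∈ F
        · exact Finset.mem_union_left _ (by simp [hxF])
        · exact Finset.mem_union_right _ (by simp [hno x (Finset.mem_filter.mp hx).2 hxF])
      have h2 : (Finset.univ.filter fun x : G => x * e₁ ∈ F).card ≤
          (Finset.univ.filter fun x : G => x ∈ F).card :=
        Finset.card_le_card_of_injOn (fun x => x * e₁) (fun x hx => by
          exact Finset.mem_filter.mpr ⟨Finset.mem_univ _, (Finset.mem_filter.mp hx).2⟩)
          fun x _ y _ h => mul_right_cancel h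
      rw [Nat.card_eq_fintype_card, Fintype.card_subtype,
        Nat.card_eq_fintype_card (α := E), Fintype.card_subtype] at hlt
      omega
    have hFc : F ≤ Subgroup.centralizer (F : Set G) := hF.trans (le_centralizer_of_comm hF hcomm)
    have hEY : E ≤ Subgroup.centralizer (F : Set G) := le_centralizer_of_comm hF hcomm
    set Y := Subgroup.centralizer (F : Set G) with hY
    haveI : (F.subgroupOf Y).Normal := normal_of_center (subgroupOf_le_center F)
    set Z := F.subgroupOf Y with hZ
    have hbd : ∀ e : Y, (e : G) ∈ E → (e : G) ∉ F →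
        Nat.card (Subgroup.centralizer ({(e : Y ⧸ Z)} : Set (Y ⧸ Z))) ≤ N := by
      intro e heE heF
      have hFF : F ⊔ Subgroup.zpowers (e : G) ≤ E := sup_le hF (Subgroup.zpowers_le.mpr heE)
      have hne : F ≠ F ⊔ Subgroup.zpowers (e : G) := fun h => heF (h.ge
        (Subgroup.mem_sup_right (Subgroup.mem_zpowers _)))
      have hgrow : 2 * Nat.card F ≤ Nat.card (F ⊔ Subgroup.zpowers (e : G) : Subgroup G) := by
        obtain ⟨c, hc⟩ := Subgroup.card_dvd_of_le (le_sup_left : F ≤ F ⊔ Subgroup.zpowers (e : G))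
        have hc1 : 1 < c := by
          by_contra h
          refine hne (Subgroup.eq_of_le_of_card_ge le_sup_left ?_)
          rw [hc]
          exact le_trans (Nat.mul_le_mul_left _ (not_lt.mp h)) (mul_one _).le
        rw [hc]
        nlinarith [Nat.card_pos (α := F)]
      refine le_trans (natCard_centralizer_mk_le Z e) (le_trans ?_
        (hN G M r hM ha hdef E hcomm hsq hcard _ hFF
          (hr.trans (by rw [pow_succ, ← mul_assoc, mul_right_comm]
                        exact Nat.mul_le_mul_right _ (by linarith)))))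
      refine Nat.card_le_card_of_injective (fun y : Subgroup.centralizer ({e} : Set Y) =>
        (⟨((y : Y) : G), ?_⟩ : Subgroup.centralizer
          ((F ⊔ Subgroup.zpowers (e : G) : Subgroup G) : Set G)))
        fun y y' h => Subtype.ext (Subtype.ext (congrArg Subtype.val h :))
      rw [Subgroup.mem_centralizer_iff]
      have hle : F ⊔ Subgroup.zpowers (e : G) ≤ Subgroup.centralizer ({((y : Y) : G)} : Set G) :=
        sup_le (fun f hf => Subgroup.mem_centralizer_singleton_iff.mpr
          (Subgroup.mem_centralizer_iff.mp (y : Y).2 f hf))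
          (Subgroup.zpowers_le.mpr (Subgroup.mem_centralizer_singleton_iff.mpr
            (congrArg Subtype.val (Subgroup.mem_centralizer_singleton_iff.mp y.2)).symm))
      exact fun f hf => Subgroup.mem_centralizer_singleton_iff.mp (hle hf)
    set x₁ : Y := ⟨e₁, hEY he₁E⟩ with hx₁
    set x₂ : Y := ⟨e₂, hEY he₂E⟩ with hx₂
    have hmem : ∀ y : Y, (y : Y ⧸ Z) = 1 ↔ (y : G) ∈ F := fun y => QuotientGroup.eq_one_iff y
    have hQ := hN₄ (Y ⧸ Z) (x₁ : Y ⧸ Z) (x₂ : Y ⧸ Z) ?_ ?_ ?_ ?_ ?_ ?_
      (hbd x₁ he₁E he₁) (hbd x₂ he₂E he₂) ?_ (hquot Y Z)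
    · rw [Subgroup.card_eq_card_quotient_mul_card_subgroup Z, mul_comm, hZ,
        Nat.card_congr (Subgroup.subgroupOfEquivOfLe hFc).toEquiv]
      exact Nat.mul_le_mul hFa hQ
    · rw [← QuotientGroup.mk_mul]; exact (hmem _).mpr (by
        rw [Subgroup.coe_mul, hx₁]; simp [hsq e₁ he₁E, F.one_mem])
    · rw [← QuotientGroup.mk_mul]; exact (hmem _).mpr (by
        rw [Subgroup.coe_mul, hx₂]; simp [hsq e₂ he₂E, F.one_mem])
    · rw [← QuotientGroup.mk_mul, ← QuotientGroup.mk_mul]
      exact congrArg _ (Subtype.ext (hcomm e₁ he₁E e₂ he₂E))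
    · exact fun h => he₁ ((hmem x₁).mp h)
    · exact fun h => he₂ ((hmem x₂).mp h)
    · intro h
      refine he₂' ?_
      have h1 : (x₂ * x₁ : Y) ∈ Z := by
        refine (QuotientGroup.eq_one_iff _).mp ?_
        rw [QuotientGroup.mk_mul, h, ← QuotientGroup.mk_mul]
        exact (hmem _).mpr (by rw [Subgroup.coe_mul, hx₂]; simp [hsq e₂ he₂E, F.one_mem])
      exact h1
    · rw [← QuotientGroup.mk_mul]
      refine hbd (x₁ * x₂) (E.mul_mem he₁E he₂E) fun h => he₂' ?_
      show e₂ * e₁ ∈ F
      rw [hcomm e₂ he₂E e₁ he₁E]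
      exact h

/-- The bound. -/
theorem exists_bound_defect (a : ℕ) : ∃ N : ℕ, ∀ (G : Type u) [Group G] [Finite G]
    (M : Ideal AlgInt) (r : ℕ) (P : Sylow 2 G), IsPModular 2 M → Nat.card P = 2 ^ a →
    (∀ B : Set (IrrCharacter G), IsPBlock M B → B ≠ principalBlock M G → blockDefect 2 B < r) →
    (∃ E : Subgroup G, E ≤ (P : Subgroup G) ∧ IsMulCommutative E ∧ (∀ x ∈ E, x * x = 1) ∧
      Nat.card E = 2 ^ (r + 1)) → Nat.card G ≤ N := by
  haveI : Fact (Nat.Prime 2) := ⟨Nat.prime_two⟩
  obtain ⟨N, hN⟩ := exists_bound_centralizer.{u} a a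
  refine ⟨N, fun G _ _ M r P hM hP hdef ⟨E, hEP, hcomm, hsq, hcard⟩ => ?_⟩
  have ha : (Nat.card G).factorization 2 = a :=
    Nat.pow_right_injective (le_refl 2) (P.card_eq_multiplicity.symm.trans hP)
  have hr : r + 1 ≤ a := by
    have := Subgroup.card_dvd_of_le hEP
    rw [hcard, hP] at this
    exact Nat.pow_dvd_pow_iff_le_right (le_refl 2) |>.mp this
  have h := hN G M r hM ha.le hdef E
    (fun x hx y hy => congrArg Subtype.val (hcomm.is_comm.comm (⟨x, hx⟩ : E) ⟨y, hy⟩)) hsq hcard
    ⊥ bot_le (by rw [Subgroup.card_bot, one_mul]; exact Nat.pow_le_pow_right (by norm_num) (by omega))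
  have e : Subgroup.centralizer ((⊥ : Subgroup G) : Set G) = ⊤ := by
    rw [eq_top_iff]
    exact fun x _ => Subgroup.mem_centralizer_iff.mpr fun y hy => by
      rw [Subgroup.mem_bot.mp hy, one_mul, mul_one]
  rwa [e, Subgroup.card_top] at h

end Cfsg.Agent.BC86
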