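import Cfsg.Agent.BC86.Deg
import Cfsg.Agent.Lib.CharCore.Linear

/-!
# Kernels and codegrees
-/

open Cfsg.Agent.CharCore

namespace Cfsg.Agent.BC86

variable {G : Type*} [Group G] [Finite G]

/-- The order of the kernel times the degree divides the order of the group. -/
theorem card_kernel_mul_degree_dvd (χ : Cfsg.IrrCharacter G) :
    Nat.card {g : G // (χ : G → ℂ) g = (χ : G → ℂ) 1} * Cfsg.charDegree (χ : G → ℂ)
      ∣ Nat.card G := by
  let N := charKernel (irr_isCharacter χ)
  obtain ⟨ψ, -, hirr, hval⟩ := IsCharacter.exists_quotient (irr_isCharacter χ) N fun k hk => hk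
  have h1 : Cfsg.charDegree ψ = Cfsg.charDegree (χ : G → ℂ) := by
    simp only [Cfsg.charDegree]; rw [hval 1, map_one]
  have h2 := degree_dvd_card (⟨ψ, hirr χ.2⟩ : Cfsg.IrrCharacter (G ⧸ N))
  rw [h1] at h2
  rw [Subgroup.card_eq_card_quotient_mul_card_subgroup N, mul_comm]
  exact Nat.mul_dvd_mul h2 (dvd_refl _)

/-- The codegree times the kernel and degree is the group order. -/
theorem codegree_mul (χ : Cfsg.IrrCharacter G) :
    Nat.card G / (Nat.card {g : G // (χ : G → ℂ) g = (χ : G → ℂ) 1} * Cfsg.charDegree (χ : G → ℂ))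
      * (Nat.card {g : G // (χ : G → ℂ) g = (χ : G → ℂ) 1} * Cfsg.charDegree (χ : G → ℂ))
      = Nat.card G :=
  Nat.div_mul_cancel (card_kernel_mul_degree_dvd χ)

/-- A non-trivial irreducible character of a simple group has trivial kernel. -/
theorem card_kernel_of_isSimpleGroup [IsSimpleGroup G] (χ : Cfsg.IrrCharacter G)
    (hχ : (χ : G → ℂ) ≠ 1) :
    Nat.card {g : G // (χ : G → ℂ) g = (χ : G → ℂ) 1} = 1 := by
  rcases IsSimpleGroup.eq_bot_or_eq_top_of_normal (charKernel (irr_isCharacter χ))
      (charKernel_normal _) with h | h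
  · exact (congrArg (fun K : Subgroup G => Nat.card K) h).trans Subgroup.card_bot
  · exfalso
    have := Fintype.ofFinite G
    have hc : ∀ g, (χ : G → ℂ) g = (χ : G → ℂ) 1 := fun g =>
      (mem_charKernel (irr_isCharacter χ) g).mp (h ▸ Subgroup.mem_top g)
    obtain ⟨n, hn0, hn⟩ := IsIrrCharacter.exists_degree χ.2
    have h1 := classInner_irr_self χ
    simp only [Cfsg.classInner, hc, hn, Finset.sum_const, Finset.card_univ, map_natCast,
      nsmul_eq_mul, ← Nat.card_eq_fintype_card] at h1
    rw [← mul_assoc, inv_mul_cancel₀ (Nat.cast_ne_zero.mpr Nat.card_pos.ne'), one_mul] at h1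
    refine hχ (funext fun g => ?_)
    have : n * n = 1 := by exact_mod_cast h1
    simp [hc g, hn, (mul_eq_one.mp this).1]

end Cfsg.Agent.BC86

namespace Cfsg.Agent.BC86

variable {G : Type*} [Group G] [Finite G]

/-- A non-trivial irreducible character has degree squared less than the group order. -/
theorem degree_sq_lt (χ : Cfsg.IrrCharacter G) (hχ : (χ : G → ℂ) ≠ 1) :
    Cfsg.charDegree (χ : G → ℂ) ^ 2 < Nat.card G := by
  classical
  let one : Cfsg.IrrCharacter G := ⟨1, isIrrCharacter_one⟩
  have := Fintype.ofFinite G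
  have h := sum_degree_sq (G := G)
  simp only [← charDegree_cast] at h
  have h' : ∑ χ : Cfsg.IrrCharacter G, Cfsg.charDegree (χ : G → ℂ) ^ 2 = Nat.card G := by
    exact_mod_cast h
  rw [← h']
  refine Finset.single_lt_sum (f := fun χ : Cfsg.IrrCharacter G => Cfsg.charDegree (χ : G → ℂ) ^ 2)
    (j := one) (fun e => hχ (congrArg Subtype.val e.symm))
    (Finset.mem_univ χ) (Finset.mem_univ one) ?_ fun _ _ _ => Nat.zero_le _
  simp [one, Cfsg.charDegree]

/-- A homomorphism from a perfect group to a commutative group is trivial. -/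
theorem hom_eq_one_of_perfect {H : Type*} [Group H] (hH : commutator H = ⊤) {A : Type*}
    [CommGroup A] (f : H →* A) (x : H) : f x = 1 :=
  MonoidHom.mem_ker.mp (Abelianization.commutator_subset_ker f (hH ▸ Subgroup.mem_top x))

/-- A homomorphism from a perfect group to an abelian group is trivial. -/
theorem hom_eq_one_of_perfect' {H : Type*} [Group H] (hH : commutator H = ⊤) {A : Type*}
    [Group A] (hA : ∀ a b : A, a * b = b * a) (f : H →* A) (x : H) : f x = 1 :=
  let inst : CommGroup A := { (inferInstance : Group A) with mul_comm := hA }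
  @hom_eq_one_of_perfect H _ hH A inst f x

end Cfsg.Agent.BC86
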