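import Cfsg.Agent.BC86.Deg

/-!
# Characters dominated by one constituent
-/

open scoped ComplexConjugate
open Cfsg.Agent.CharCore

namespace Cfsg.Agent.BC86

variable {G : Type*} [Group G] [Fintype G]

/-- A character of degree at most that of one of its constituents equals it. -/
theorem eq_of_classInner_ne_zero_of_degree_le {Φ : G → ℂ} (hΦ : Cfsg.IsCharacter G Φ)
    (χ : Cfsg.IrrCharacter G) (hne : Cfsg.classInner Φ (χ : G → ℂ) ≠ 0) {n : ℕ}
    (hn : Φ 1 = n) (hle : n ≤ Cfsg.charDegree (χ : G → ℂ)) : Φ = χ := by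
  classical
  obtain ⟨m, rfl⟩ := IsCharacter.exists_sum hΦ
  rw [classInner_sum_all] at hne
  have hm : 1 ≤ m χ := Nat.one_le_iff_ne_zero.mpr fun h => hne (by simp [h])
  simp only [Finset.sum_apply, Pi.smul_apply, smul_eq_mul, ← charDegree_cast] at hn
  have hn' : ∑ ψ, m ψ * Cfsg.charDegree (ψ : G → ℂ) = n := by exact_mod_cast hn
  rw [← Finset.add_sum_erase _ _ (Finset.mem_univ χ)] at hn'
  have h1 : Cfsg.charDegree (χ : G → ℂ) ≤ m χ * Cfsg.charDegree (χ : G → ℂ) :=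
    Nat.le_mul_of_pos_left _ hm
  have h2 : ∑ ψ ∈ Finset.univ.erase χ, m ψ * Cfsg.charDegree (ψ : G → ℂ) = 0 := by omega
  have h3 : m χ = 1 := by
    have h4 : m χ * Cfsg.charDegree (χ : G → ℂ) = 1 * Cfsg.charDegree (χ : G → ℂ) := by omega
    exact Nat.eq_of_mul_eq_mul_right (charDegree_pos χ) h4
  rw [Finset.sum_eq_single χ, h3, Nat.cast_one, one_smul]
  · intro ψ _ hψ
    have := (Finset.sum_eq_zero_iff.mp h2) ψ (Finset.mem_erase.mpr ⟨hψ, Finset.mem_univ _⟩)
    simp [(Nat.mul_eq_zero.mp this).resolve_right (charDegree_ne_zero ψ)]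
  · exact fun h => absurd (Finset.mem_univ χ) h

/-- Some constituent with respect to a subgroup has small `p`-part degree. -/
theorem exists_constituent_not_dvd {Φ : G → ℂ} (hΦ : Cfsg.IsCharacter G Φ) {n q : ℕ}
    (hn : Φ 1 = n) (hq : ¬ q ∣ n) :
    ∃ θ : Cfsg.IrrCharacter G, Cfsg.classInner Φ (θ : G → ℂ) ≠ 0 ∧
      ¬ q ∣ Cfsg.charDegree (θ : G → ℂ) := by
  classical
  obtain ⟨m, rfl⟩ := IsCharacter.exists_sum hΦ
  simp only [classInner_sum_all]
  simp only [Finset.sum_apply, Pi.smul_apply, smul_eq_mul, ← charDegree_cast] at hn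
  have hn' : ∑ ψ, m ψ * Cfsg.charDegree (ψ : G → ℂ) = n := by exact_mod_cast hn
  by_contra hcon
  push Not at hcon
  refine hq (hn' ▸ Finset.dvd_sum fun ψ _ => ?_)
  rcases eq_or_ne (m ψ) 0 with h | h
  · simp [h]
  · exact (hcon ψ (Nat.cast_ne_zero.mpr h)).mul_left _

end Cfsg.Agent.BC86
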