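import Cfsg.Agent.BC86.Deg
import Cfsg.Agent.Lib.CharCore.Burnside

/-!
# Classes of size coprime to a degree
-/

open Cfsg.Agent.CharCore

namespace Cfsg.Agent.BC86

variable {G : Type*} [Group G] [Finite G]

/-- Burnside: for a faithful character, a class of size prime to the degree gives zero or a
central element. -/
theorem apply_eq_zero_or_mem_center (χ : Cfsg.IrrCharacter G)
    (hfaith : ∀ g : G, (χ : G → ℂ) g = (χ : G → ℂ) 1 → g = 1) (g : G)
    (hcop : Nat.Coprime (Cfsg.charDegree (χ : G → ℂ))
      (Subgroup.centralizer ({g} : Set G)).index) :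
    (χ : G → ℂ) g = 0 ∨ g ∈ Subgroup.center G := by
  have := Fintype.ofFinite G
  obtain ⟨f, n, ρ, hirr, rfl⟩ := χ
  have hn : Cfsg.charDegree ρ.character = Module.finrank ℂ (Fin n → ℂ) := by
    simp [Cfsg.charDegree]
  rw [hn] at hcop
  rcases eq_zero_or_norm_eq_of_coprime ρ g hcop with h | h
  · exact Or.inl h
  · obtain ⟨c, hc⟩ := (norm_character_eq_iff ρ g).mp h
    have hinj : Function.Injective ρ := fun a b hab => by
      refine mul_inv_eq_one.mp (hfaith _ ?_)
      show ρ.character (a * b⁻¹) = ρ.character 1
      unfold Representation.character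
      rw [map_mul, hab, ← map_mul, mul_inv_cancel]
    exact Or.inr (Subgroup.mem_center_iff.mpr fun x => hinj (by
      rw [map_mul, map_mul, hc]
      ext v
      simp))

end Cfsg.Agent.BC86
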