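import Cfsg.Agent.Lib.CharCore.Complete
import Cfsg.Agent.Lib.CharClifford.Galois
import Cfsg.Agent.Lib.CharClifford.Central
import Cfsg.Agent.Lib.BlocksCore.WeakOrth
import Cfsg.Prelude.Def_Blocks

/-!
# Basic facts used in the BC86 files (thin wrappers over the character libraries)
-/

open scoped ComplexConjugate
open Cfsg.Agent.CharCore

namespace Cfsg.Agent.BC86

variable {G : Type*} [Group G] [Finite G]

open scoped Classical in
theorem col_orth (g h : G) :
    ∑ χ : Cfsg.IrrCharacter G, (χ : G → ℂ) g * conj ((χ : G → ℂ) h)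
      = if IsConj g h then (Nat.card (Subgroup.centralizer ({g} : Set G)) : ℂ) else 0 := by
  have := Fintype.ofFinite G
  convert sum_apply_mul_conj g h

theorem sum_conj_mul [Fintype G] (χ : Cfsg.IrrCharacter G) (x y : G) :
    (χ : G → ℂ) 1 * ∑ a : G, (χ : G → ℂ) (a * x * a⁻¹ * y)
      = (Nat.card G : ℂ) * ((χ : G → ℂ) x * (χ : G → ℂ) y) := by
  rw [← Equiv.sum_comp (Equiv.inv G) fun a => (χ : G → ℂ) (a * x * a⁻¹ * y)]
  simp only [Equiv.inv_apply, inv_inv]
  rw [BlocksCore.sum_char_conj_mul χ x y]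
  field_simp [irr_apply_one_ne_zero χ]

theorem degree_dvd_card (χ : Cfsg.IrrCharacter G) :
    Cfsg.charDegree (χ : G → ℂ) ∣ Nat.card G := by
  obtain ⟨d, -, hd, h⟩ := CharClifford.exists_degree_dvd_card χ.2
  simpa [Cfsg.charDegree, h] using hd

theorem isIntegral_centralChar (χ : Cfsg.IrrCharacter G) (g : G) :
    IsIntegral ℤ (Cfsg.centralChar (χ : G → ℂ) g) := by
  have := Fintype.ofFinite G
  exact BlocksCore.isIntegral_centralChar χ g

end Cfsg.Agent.BC86
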