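import Cfsg.Agent.BC86.Deg

/-!
# Counting products of two conjugates by characters
-/

open scoped ComplexConjugate
open Cfsg.Agent.CharCore

namespace Cfsg.Agent.BC86

variable {G : Type*} [Group G] [Finite G]

/-- The number of pairs `(a, b)` with `(a x a⁻¹) (b y b⁻¹) = z`. -/
noncomputable def pairCount (x y z : G) : ℕ :=
  Nat.card {ab : G × G // ab.1 * x * ab.1⁻¹ * (ab.2 * y * ab.2⁻¹) = z}

open scoped Classical in
theorem card_conj_fibre (g z : G) :
    Nat.card {c : G // c * g * c⁻¹ = z}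
      = if IsConj g z then Nat.card (Subgroup.centralizer ({g} : Set G)) else 0 := by
  split_ifs with h
  · obtain ⟨c₀, hc₀⟩ := isConj_iff.mp h
    refine Nat.card_congr
      { toFun := fun c => ⟨c₀⁻¹ * c.1, Subgroup.mem_centralizer_singleton_iff.mpr ?_⟩
        invFun := fun k => ⟨c₀ * k.1, ?_⟩
        left_inv := fun c => by simp
        right_inv := fun k => by simp }
    · have e : c.1 * g * c.1⁻¹ = c₀ * g * c₀⁻¹ := c.2.trans hc₀.symm
      calc c₀⁻¹ * c.1 * g = c₀⁻¹ * (c.1 * g * c.1⁻¹) * c.1 := by group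
        _ = g * (c₀⁻¹ * c.1) := by rw [e]; group
    · have e : k.1 * g = g * k.1 := Subgroup.mem_centralizer_singleton_iff.mp k.2
      calc c₀ * k.1 * g * (c₀ * k.1)⁻¹ = c₀ * (k.1 * g) * k.1⁻¹ * c₀⁻¹ := by group
        _ = z := by rw [e, ← hc₀]; group
  · rw [Nat.card_eq_zero]
    exact Or.inl ⟨fun c => h (isConj_iff.mpr ⟨c.1, c.2⟩)⟩

theorem pairCount_eq (x y z : G) :
    (pairCount x y z : ℂ) = (Nat.card G : ℂ) *
      ∑ χ : Cfsg.IrrCharacter G,
        (χ : G → ℂ) x * (χ : G → ℂ) y * conj ((χ : G → ℂ) z) / (χ : G → ℂ) 1 := by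
  classical
  have := Fintype.ofFinite G
  let pr : G × G → G := fun ab => ab.1 * x * ab.1⁻¹ * (ab.2 * y * ab.2⁻¹)
  have hshift : ∀ c : G,
      Nat.card {ab : G × G // c * pr ab * c⁻¹ = z} = pairCount x y z := fun c => by
    refine Nat.card_congr (((Equiv.mulLeft c).prodCongr (Equiv.mulLeft c)).subtypeEquiv ?_)
    intro ab
    simp only [pr, Equiv.prodCongr_apply, Equiv.coe_mulLeft, Prod.map_fst, Prod.map_snd]
    refine Eq.congr_left ?_
    group
  have hswap : ∑ ab : G × G, Nat.card {c : G // c * pr ab * c⁻¹ = z}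
      = ∑ c : G, Nat.card {ab : G × G // c * pr ab * c⁻¹ = z} := by
    simp only [Nat.card_eq_fintype_card, Fintype.card_subtype, Finset.card_filter]
    exact Finset.sum_comm
  have hcount : ∑ ab : G × G, (Nat.card {c : G // c * pr ab * c⁻¹ = z} : ℂ)
      = (Nat.card G : ℂ) * (pairCount x y z : ℂ) := by
    rw [← Nat.cast_sum, hswap, Finset.sum_congr rfl (fun c _ => hshift c)]
    simp [Nat.card_eq_fintype_card]
  have hchi : ∀ χ : Cfsg.IrrCharacter G, ∑ ab : G × G, (χ : G → ℂ) (pr ab)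
      = (Nat.card G : ℂ) * (Nat.card G : ℂ) *
        ((χ : G → ℂ) x * (χ : G → ℂ) y) / (χ : G → ℂ) 1 := fun χ => by
    rw [Fintype.sum_prod_type_right, eq_div_iff (irr_apply_one_ne_zero χ), Finset.sum_mul]
    rw [Finset.sum_congr rfl fun b _ => by
      rw [mul_comm, sum_conj_mul χ x (b * y * b⁻¹), irr_isClassFunction χ y b]]
    simp [Nat.card_eq_fintype_card, mul_assoc]
  have hN : (Nat.card G : ℂ) ≠ 0 := Nat.cast_ne_zero.mpr Nat.card_pos.ne'
  refine mul_left_cancel₀ hN ?_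
  rw [← hcount, Finset.mul_sum, Finset.mul_sum]
  calc ∑ ab : G × G, (Nat.card {c : G // c * pr ab * c⁻¹ = z} : ℂ)
      = ∑ ab : G × G, ∑ χ : Cfsg.IrrCharacter G,
          (χ : G → ℂ) (pr ab) * conj ((χ : G → ℂ) z) :=
        Finset.sum_congr rfl fun ab _ => by
          rw [card_conj_fibre, col_orth]
          split_ifs <;> simp
    _ = ∑ χ : Cfsg.IrrCharacter G,
          (∑ ab : G × G, (χ : G → ℂ) (pr ab)) * conj ((χ : G → ℂ) z) := by
        rw [Finset.sum_comm]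
        exact Finset.sum_congr rfl fun χ _ => (Finset.sum_mul ..).symm
    _ = _ := Finset.sum_congr rfl fun χ _ => by rw [hchi]; ring

theorem pairCount_inv_one (x : G) :
    pairCount x x⁻¹ 1 = Nat.card G * Nat.card (Subgroup.centralizer ({x} : Set G)) := by
  rw [← Nat.card_prod]
  refine Nat.card_congr
    { toFun := fun ab => (ab.1.1, ⟨ab.1.1⁻¹ * ab.1.2,
        Subgroup.mem_centralizer_singleton_iff.mpr ?_⟩)
      invFun := fun ck => ⟨(ck.1, ck.1 * ck.2.1), ?_⟩
      left_inv := fun ab => by simp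
      right_inv := fun ck => by simp }
  · have e : ab.1.1 * x * ab.1.1⁻¹ = (ab.1.2 * x⁻¹ * ab.1.2⁻¹)⁻¹ := eq_inv_of_mul_eq_one_left ab.2
    calc ab.1.1⁻¹ * ab.1.2 * x
        = ab.1.1⁻¹ * (ab.1.2 * x⁻¹ * ab.1.2⁻¹)⁻¹ * ab.1.2 := by group
      _ = x * (ab.1.1⁻¹ * ab.1.2) := by rw [← e]; group
  · have e : ck.2.1 * x = x * ck.2.1 := Subgroup.mem_centralizer_singleton_iff.mp ck.2.2
    have e' : ck.2.1 * x⁻¹ = x⁻¹ * ck.2.1 := (Commute.inv_right e).eq
    calc ck.1 * x * ck.1⁻¹ * (ck.1 * ck.2.1 * x⁻¹ * (ck.1 * ck.2.1)⁻¹)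
        = ck.1 * x * (ck.2.1 * x⁻¹) * ck.2.1⁻¹ * ck.1⁻¹ := by group
      _ = 1 := by rw [e']; group

/-- If no product of a conjugate of `x` and a conjugate of `x⁻¹` is a nontrivial element of the
subgroup `P` of order `p ^ c`, some degree is divisible by `p ^ (c - a)`, where `p ^ a` is the
`p`-part of the order of the centralizer of `x`. -/
theorem exists_pow_dvd_degree {p : ℕ} (hp : p.Prime) (x : G) (P : Subgroup G) {c a : ℕ}
    (hP : Nat.card P = p ^ c)
    (ha : (Nat.card (Subgroup.centralizer ({x} : Set G))).factorization p = a)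
    (h : ∀ g k : G, g * x * g⁻¹ * (k * x⁻¹ * k⁻¹) ∈ P → g * x * g⁻¹ * (k * x⁻¹ * k⁻¹) = 1) :
    ∃ χ : Cfsg.IrrCharacter G, p ^ (c - a) ∣ Cfsg.charDegree (χ : G → ℂ) := by
  classical
  have := Fintype.ofFinite G
  rcases Nat.lt_or_ge a c with hac | hac
  swap
  · refine ⟨⟨_, isIrrCharacter_one (G := G)⟩, ?_⟩
    rw [Nat.sub_eq_zero_of_le hac, pow_zero]
    exact one_dvd _
  by_contra hno
  push Not at hno
  set D := Nat.card G / p ^ (Nat.card G).factorization p
  set L := p ^ (c - a - 1) * D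
  set Cx := Nat.card (Subgroup.centralizer ({x} : Set G))
  have hdiv : ∀ χ : Cfsg.IrrCharacter G, Cfsg.charDegree (χ : G → ℂ) ∣ L := fun χ =>
    degree_dvd_pow_mul_ordCompl hp χ (by
      rw [Nat.sub_add_cancel (Nat.sub_pos_of_lt hac)]; exact hno χ)
  choose q hq using hdiv
  have hm : ∀ χ : Cfsg.IrrCharacter G, ∃ m : ℕ,
      ∑ z : P, conj ((χ : G → ℂ) z) = (p ^ c : ℕ) * (m : ℂ) := fun χ => by
    obtain ⟨m, hm⟩ := IsCharacter.exists_classInner_eq_natCast (isCharacter_one (G := P))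
      (isCharacter_restrict (irr_isCharacter χ) P)
    refine ⟨m, ?_⟩
    rw [← hm, classInner_def, ← hP, ← mul_assoc,
      mul_inv_cancel₀ (Nat.cast_ne_zero.mpr Nat.card_pos.ne'), one_mul]
    simp
  choose m hm using hm
  have hsum : ∑ z : P, pairCount x x⁻¹ (z : G) = Nat.card G * Cx := by
    rw [Finset.sum_eq_single (1 : P), OneMemClass.coe_one, pairCount_inv_one]
    · intro z _ hz
      rw [pairCount, Nat.card_eq_zero]
      refine Or.inl ⟨fun ab => hz (Subtype.ext ?_)⟩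
      exact ab.2.symm.trans (h ab.1.1 ab.1.2 (by rw [ab.2]; exact z.2))
    · simp
  have key : (Cx : ℂ) = (p ^ c : ℕ) * ∑ χ : Cfsg.IrrCharacter G,
      (χ : G → ℂ) x * (χ : G → ℂ) x⁻¹ * (m χ : ℂ) / (χ : G → ℂ) 1 := by
    have h1 : ((Nat.card G * Cx : ℕ) : ℂ) = ∑ z : P, (pairCount x x⁻¹ (z : G) : ℂ) := by
      rw [← hsum, Nat.cast_sum]
    simp only [pairCount_eq] at h1
    rw [← Finset.mul_sum, Nat.cast_mul] at h1
    rw [mul_left_cancel₀ (Nat.cast_ne_zero.mpr Nat.card_pos.ne') h1, Finset.sum_comm,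
      Finset.mul_sum]
    refine Finset.sum_congr rfl fun χ _ => ?_
    rw [← Finset.sum_div, ← Finset.mul_sum, hm]
    ring
  have hdvd : p ^ c ∣ Cx * L := by
    refine dvd_of_isIntegral (z := ∑ χ : Cfsg.IrrCharacter G,
      (χ : G → ℂ) x * (χ : G → ℂ) x⁻¹ * (m χ : ℂ) * (q χ : ℂ)) ?_ ?_
    · refine IsIntegral.sum _ fun χ _ => ?_
      exact (((IsCharacter.isIntegral (irr_isCharacter χ) x).mul
        (IsCharacter.isIntegral (irr_isCharacter χ) x⁻¹)).mul (isIntegral_natCast _)).mul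
          (isIntegral_natCast _)
    · rw [Nat.cast_mul, key, mul_assoc, Finset.sum_mul]
      congr 1
      refine Finset.sum_congr rfl fun χ _ => ?_
      conv_lhs => rw [hq χ, Nat.cast_mul, charDegree_cast χ]
      field_simp [irr_apply_one_ne_zero χ]
  have hD0 : D ≠ 0 := (Nat.ordCompl_pos p Nat.card_pos.ne').ne'
  have hC0 : Cx ≠ 0 := Nat.card_pos.ne'
  have hle := (hp.pow_dvd_iff_le_factorization
    (Nat.mul_ne_zero hC0 (Nat.mul_ne_zero (pow_ne_zero _ hp.ne_zero) hD0))).mp hdvd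
  rw [Nat.factorization_mul hC0 (Nat.mul_ne_zero (pow_ne_zero _ hp.ne_zero) hD0),
    Finsupp.add_apply, Nat.factorization_mul (pow_ne_zero _ hp.ne_zero) hD0,
    Finsupp.add_apply, ha, hp.factorization_pow, Finsupp.single_eq_same,
    Nat.factorization_ordCompl, Finsupp.erase_same] at hle
  omega

end Cfsg.Agent.BC86
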