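import Cfsg.Agent.InvChar.Standard
import Mathlib.GroupTheory.IndexNormal

/-!
# Groups with a four group with bounded centralisers

The order of a finite group is bounded in terms of the order of a Sylow `2`-subgroup and of the
orders of the centralisers of the involutions of a four group.
-/

set_option autoImplicit false
set_option linter.unusedSectionVars false

open scoped Classical

namespace Cfsg.Agent.BC86

variable {X : Type*} [Group X] [Finite X]

/-- The centraliser of an image is no larger than the centraliser. -/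
theorem natCard_centralizer_mk_le (N : Subgroup X) [N.Normal] (a : X) :
    Nat.card (Subgroup.centralizer ({(a : X ⧸ N)} : Set (X ⧸ N))) ≤
      Nat.card (Subgroup.centralizer ({a} : Set X)) := by
  have := Fintype.ofFinite X
  set C := Subgroup.centralizer ({(a : X ⧸ N)} : Set (X ⧸ N)) with hC
  set P := C.comap (QuotientGroup.mk' N) with hP
  have hPN : Nat.card P = Nat.card N * Nat.card C := by
    have h1 := P.card_mul_index
    rw [hP, Subgroup.index_comap_of_surjective _ (QuotientGroup.mk'_surjective N), ← hP,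
      ← N.card_mul_index, show N.index = Nat.card (X ⧸ N) from rfl, ← C.card_mul_index,
      ← mul_assoc] at h1
    exact Nat.eq_of_mul_eq_mul_right (Nat.pos_of_ne_zero Subgroup.index_ne_zero_of_finite) h1
  have hmem : ∀ x : P, (x : X) * a * (x : X)⁻¹ * a⁻¹ ∈ N := fun x => by
    refine (QuotientGroup.eq_one_iff _).mp ?_
    have h := Subgroup.mem_centralizer_singleton_iff.mp (show ((x : X) : X ⧸ N) ∈ C from x.2)
    rw [QuotientGroup.mk_mul, QuotientGroup.mk_mul, QuotientGroup.mk_mul, QuotientGroup.mk_inv,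
      QuotientGroup.mk_inv, h]
    group
  let f : P → N := fun x => ⟨(x : X) * a * (x : X)⁻¹ * a⁻¹, hmem x⟩
  have hf : ∀ n : N, (Finset.univ.filter fun x : P => f x = n).card ≤
      Nat.card (Subgroup.centralizer ({a} : Set X)) := by
    intro n
    rcases (Finset.univ.filter fun x : P => f x = n).eq_empty_or_nonempty with h | ⟨x₀, hx₀⟩
    · simp [h]
    rw [← Fintype.card_subtype, ← Nat.card_eq_fintype_card]
    refine Nat.card_le_card_of_injective (fun x => (⟨((x₀ : P) : X)⁻¹ * ((x : P) : X), ?_⟩ :
      Subgroup.centralizer ({a} : Set X))) fun x y hxy => ?_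
    · have e : ((x : P) : X) * a * ((x : P) : X)⁻¹ = (x₀ : X) * a * (x₀ : X)⁻¹ := by
        have h := congrArg Subtype.val (x.2.trans (Finset.mem_filter.mp hx₀).2.symm)
        exact mul_right_cancel h
      rw [Subgroup.mem_centralizer_singleton_iff]
      calc ((x₀ : X))⁻¹ * ((x : P) : X) * a
          = ((x₀ : X))⁻¹ * (((x : P) : X) * a * ((x : P) : X)⁻¹) * ((x : P) : X) := by group
        _ = a * (((x₀ : X))⁻¹ * ((x : P) : X)) := by rw [e]; group
    · exact Subtype.ext (Subtype.ext (mul_left_cancel (congrArg Subtype.val hxy)))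
  have h : Nat.card P ≤ Nat.card N * Nat.card (Subgroup.centralizer ({a} : Set X)) := by
    rw [Nat.card_eq_fintype_card, ← Finset.card_univ,
      Finset.card_eq_sum_card_fiberwise (f := f) (t := Finset.univ) fun x _ => Finset.mem_univ _,
      Nat.card_eq_fintype_card (α := N)]
    refine (Finset.sum_le_sum fun n _ => hf n).trans ?_
    rw [Finset.sum_const, smul_eq_mul, Finset.card_univ]
  rw [hPN] at h
  exact Nat.le_of_mul_le_mul_left h Nat.card_pos

/-- In a subgroup of odd order squaring is bijective. -/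
theorem exists_sqrt {O : Subgroup X} (hO : Odd (Nat.card O)) :
    ∃ m : ℕ, ∀ z ∈ O, (z ^ m) ^ 2 = z := by
  obtain ⟨k, hk⟩ := hO
  refine ⟨k + 1, fun z hz => ?_⟩
  rw [← pow_mul, show (k + 1) * 2 = Nat.card O + 1 by omega, pow_succ]
  have : z ^ Nat.card O = 1 := orderOf_dvd_iff_pow_eq_one.mp (O.orderOf_dvd_natCard hz)
  rw [this, one_mul]

/-- A normal subgroup of odd order is no bigger than the product of the three centralisers. -/
theorem natCard_odd_le {a b : X} (ha : a * a = 1) (hb : b * b = 1) (hab : a * b = b * a)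
    (O : Subgroup X) [O.Normal] (hO : Odd (Nat.card O)) :
    Nat.card O ≤ Nat.card (Subgroup.centralizer ({a} : Set X)) *
      (Nat.card (Subgroup.centralizer ({b} : Set X)) *
        Nat.card (Subgroup.centralizer ({a * b} : Set X))) := by
  obtain ⟨m, hm⟩ := exists_sqrt hO
  have hai : a⁻¹ = a := inv_eq_of_mul_eq_one_left ha
  have hbi : b⁻¹ = b := inv_eq_of_mul_eq_one_left hb
  set α := (MulAut.conj a).toMonoidHom with hα
  set β := (MulAut.conj b).toMonoidHom with hβ
  have hαα : ∀ x, α (α x) = x := fun x => by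
    show a * (a * x * a⁻¹) * a⁻¹ = x
    rw [hai]; simp [← mul_assoc, ha]; rw [mul_assoc, ha, mul_one]
  have hββ : ∀ x, β (β x) = x := fun x => by
    show b * (b * x * b⁻¹) * b⁻¹ = x
    rw [hbi]; simp [← mul_assoc, hb]; rw [mul_assoc, hb, mul_one]
  have hαβ : ∀ x, α (β x) = β (α x) := fun x => by
    show a * (b * x * b⁻¹) * a⁻¹ = b * (a * x * a⁻¹) * b⁻¹
    rw [hai, hbi, show a * (b * x * b) * a = a * b * x * (b * a) by group,
      show b * (a * x * a) * b = b * a * x * (a * b) by group, hab]
  have hOα : ∀ x ∈ O, α x ∈ O := fun x hx => Subgroup.Normal.conj_mem inferInstance x hx a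
  have hOβ : ∀ x ∈ O, β x ∈ O := fun x hx => Subgroup.Normal.conj_mem inferInstance x hx b
  set I := {y : X // y ∈ O ∧ α y = y⁻¹} with hI
  have step1 : Nat.card O ≤ Nat.card (Subgroup.centralizer ({a} : Set X)) * Nat.card I := by
    rw [← Nat.card_prod]
    have key : ∀ x : O, α ((x : X) * (((α x)⁻¹ * x) ^ m)⁻¹) = (x : X) * (((α x)⁻¹ * x) ^ m)⁻¹ := by
      intro x
      have hz := O.mul_mem (O.inv_mem (hOα x x.2)) x.2
      have h1 : α ((α x)⁻¹ * (x : X)) = ((α x)⁻¹ * (x : X))⁻¹ := by
        rw [map_mul, map_inv, hαα]; group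
      rw [map_mul, map_inv, map_pow, h1, inv_pow, inv_inv, eq_mul_inv_iff_mul_eq, mul_assoc,
        ← pow_two, hm _ hz, mul_inv_cancel_left]
    refine Nat.card_le_card_of_injective (fun x : O =>
      ((⟨(x : X) * (((α x)⁻¹ * x) ^ m)⁻¹, Subgroup.mem_centralizer_singleton_iff.mpr
          (mul_inv_eq_iff_eq_mul.mp (key x)).symm⟩, ⟨((α x)⁻¹ * x) ^ m,
          O.pow_mem (O.mul_mem (O.inv_mem (hOα x x.2)) x.2) m, by
            rw [map_pow, map_mul, map_inv, hαα, ← inv_pow]; group⟩) :
        Subgroup.centralizer ({a} : Set X) × I)) fun x y hxy => Subtype.ext ?_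
    have h1 := congrArg (fun q => (q.1 : X) * (q.2.1 : X)) hxy
    simpa using h1
  have step2 : Nat.card I ≤ Nat.card (Subgroup.centralizer ({b} : Set X)) *
      Nat.card (Subgroup.centralizer ({a * b} : Set X)) := by
    rw [← Nat.card_prod]
    have hc : ∀ y : I, α (y.1 * (((β y.1)⁻¹ * y.1) ^ m)⁻¹) =
          (y.1 * (((β y.1)⁻¹ * y.1) ^ m)⁻¹)⁻¹ ∧
        β (y.1 * (((β y.1)⁻¹ * y.1) ^ m)⁻¹) = y.1 * (((β y.1)⁻¹ * y.1) ^ m)⁻¹ := by
      intro y
      obtain ⟨hyO, hy⟩ := y.2
      set z := (β y.1)⁻¹ * y.1 with hz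
      have hzO : z ∈ O := O.mul_mem (O.inv_mem (hOβ _ hyO)) hyO
      have hzb : β z = z⁻¹ := by rw [hz, map_mul, map_inv, hββ]; group
      have hza : α z = y.1 * z⁻¹ * (y.1)⁻¹ := by
        rw [hz, map_mul, map_inv, hαβ, hy, map_inv, inv_inv]; group
      constructor
      · rw [map_mul, map_inv, map_pow, hza, hy, conj_pow, inv_pow]
        group
      · rw [map_mul, map_inv, map_pow, hzb, inv_pow, inv_inv, eq_mul_inv_iff_mul_eq, mul_assoc,
          ← pow_two, hm _ hzO, hz, mul_inv_cancel_left]
    have hmem : ∀ y : I, (y.1 * (((β y.1)⁻¹ * y.1) ^ m)⁻¹) ^ m ∈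
        Subgroup.centralizer ({b} : Set X) := fun y => Subgroup.mem_centralizer_singleton_iff.mpr
      (mul_inv_eq_iff_eq_mul.mp (show β ((y.1 * (((β y.1)⁻¹ * y.1) ^ m)⁻¹) ^ m) = _ by
        rw [map_pow, (hc y).2])).symm
    refine Nat.card_le_card_of_injective (fun y : I =>
      ((⟨_, hmem y⟩, ⟨((y.1 * (((β y.1)⁻¹ * y.1) ^ m)⁻¹) ^ m)⁻¹ * y.1 *
          ((y.1 * (((β y.1)⁻¹ * y.1) ^ m)⁻¹) ^ m)⁻¹, ?_⟩) :
        Subgroup.centralizer ({b} : Set X) × Subgroup.centralizer ({a * b} : Set X)))
      fun y y' hyy => Subtype.ext ?_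
    · obtain ⟨hyO, hy⟩ := y.2
      set z := (β y.1)⁻¹ * y.1 with hz
      set c := y.1 * (z ^ m)⁻¹ with hcd
      have hzO : z ∈ O := O.mul_mem (O.inv_mem (hOβ _ hyO)) hyO
      have hcO : c ∈ O := O.mul_mem hyO (O.inv_mem (O.pow_mem hzO m))
      set h := c ^ m with hh
      have hh2 : h ^ 2 = c := hm c hcO
      have hha : α h = h⁻¹ := by rw [hh, map_pow, (hc y).1, inv_pow]
      have hhb : β h = h := by rw [hh, map_pow, (hc y).2]
      have he : α (β (h⁻¹ * y.1 * h⁻¹)) = h⁻¹ * y.1 * h⁻¹ := by
        simp only [map_mul, map_inv, hhb, hha, inv_inv]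
        rw [hαβ, hy, map_inv]
        have e1 : (β y.1)⁻¹ = z * (y.1)⁻¹ := by rw [hz]; group
        have e2 : z = (z ^ m) * (z ^ m) := by rw [← pow_two, hm z hzO]
        have e3 : z ^ m = c⁻¹ * y.1 := by rw [hcd]; group
        rw [e1, e2, e3, ← hh2, pow_two]
        group
      refine Subgroup.mem_centralizer_singleton_iff.mpr ?_
      have he' : a * b * (h⁻¹ * y.1 * h⁻¹) * (a * b)⁻¹ = h⁻¹ * y.1 * h⁻¹ := by
        refine Eq.trans ?_ he
        show _ = a * (b * _ * b⁻¹) * a⁻¹
        group
      exact (mul_inv_eq_iff_eq_mul.mp he').symm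
    · have h1 := congrArg (fun q => (q.1 : X) * (q.2 : X) * (q.1 : X)) hyy
      simpa [mul_assoc] using h1
  exact step1.trans (Nat.mul_le_mul_left _ step2)

theorem natCard_perm' (α : Type*) [Finite α] : Nat.card (Equiv.Perm α) = (Nat.card α).factorial := by
  have := Fintype.ofFinite α
  rw [Nat.card_eq_fintype_card, Fintype.card_perm, Nat.card_eq_fintype_card]

/-- Brauer--Fowler: an involution in a minimal normal subgroup of even order. -/
theorem natCard_le_of_involution {K : Subgroup X} [K.Normal] (hKe : 2 ∣ Nat.card K)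
    (hmin : ∀ L : Subgroup X, L.Normal → 2 ∣ Nat.card L → L ≤ K → L = K) {u : X} (huK : u ∈ K)
    (hu : orderOf u = 2) {b d s : ℕ}
    (hodd : ∀ O : Subgroup X, O.Normal → Odd (Nat.card O) → Nat.card O ≤ b)
    (hd : Nat.card (Subgroup.centralizer ({u} : Set X)) ≤ d)
    (hs : (Nat.card X).factorization 2 ≤ s) :
    Nat.card X ≤ (2 * b + 1) * d + (b * (2 * d * d).factorial + 2 ^ s).factorial * d := by
  have := Fintype.ofFinite X
  have huu : u * u = 1 := by rw [← pow_two, ← hu, pow_orderOf_eq_one]
  set T := Finset.univ.filter fun x : X => IsConj u x with hT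
  have hTX : T.card * Nat.card (Subgroup.centralizer ({u} : Set X)) = Nat.card X := by
    rw [mul_comm, ← (Subgroup.centralizer ({u} : Set X)).card_mul_index]
    congr 1
    have e : Nat.card {x : X // IsConj u x} = (Subgroup.centralizer ({u} : Set X)).index :=
      (Nat.card_congr ((Equiv.setCongr (s := {x | IsConj u x})
        (by ext x; rw [ConjAct.mem_orbit_conjAct, isConj_comm]; rfl)).trans
          ((MulAction.orbitEquivQuotientStabilizer (ConjAct X) u).trans
            (Subgroup.quotientEquivOfEq (ConjAct.stabilizer_eq_centralizer u)))))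
    rw [← e, Nat.card_eq_fintype_card, Fintype.card_subtype]
  have hTinv : ∀ t ∈ T, t ∈ K ∧ t⁻¹ = t := by
    intro t ht
    obtain ⟨g, rfl⟩ := isConj_iff.mp (Finset.mem_filter.mp ht).2
    refine ⟨Subgroup.Normal.conj_mem inferInstance u huK g, ?_⟩
    simp [mul_assoc, inv_eq_of_mul_eq_one_left huu]
  -- the centre of `K`
  set Z := (Subgroup.center K).map K.subtype with hZ
  haveI hZn : Z.Normal := ConjAct.normal_of_characteristic_of_normal
  suffices hKbound : T.card ≤ 2 * b ∨ Nat.card K ≤ b * (2 * d * d).factorial + 2 ^ s by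
    rcases hKbound with h | h
    · refine le_trans ?_ (Nat.le_add_right _ _)
      rw [← hTX]
      exact Nat.mul_le_mul (h.trans (Nat.le_succ _)) hd
    · refine le_trans ?_ (Nat.le_add_left _ _)
      set φ : X →* MulAut K := MulAut.conjNormal with hφ
      have hk : Nat.card φ.ker ≤ d := by
        refine le_trans (Subgroup.card_le_of_le ?_) hd
        intro x hx
        have := congrArg Subtype.val (DFunLike.congr_fun (MonoidHom.mem_ker.mp hx) ⟨u, huK⟩)
        rw [MulAut.conjNormal_apply, MulAut.one_apply] at this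
        exact Subgroup.mem_centralizer_singleton_iff.mpr (mul_inv_eq_iff_eq_mul.mp this)
      have hr : Nat.card φ.range ≤ (Nat.card K).factorial := by
        rw [← natCard_perm']
        exact Nat.card_le_card_of_injective (fun x : φ.range => (x : MulAut K).toEquiv)
          fun x y hxy => Subtype.ext (MulEquiv.toEquiv_injective hxy)
      rw [← φ.ker.card_mul_index, Subgroup.index_ker, mul_comm]
      exact Nat.mul_le_mul (hr.trans (Nat.factorial_le h)) hk
  by_cases hZe : 2 ∣ Nat.card Z
  · -- `K` is an abelian `2`-group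
    right
    refine le_trans ?_ (Nat.le_add_left _ _)
    have hZK : Z = K := hmin Z hZn hZe (Subgroup.map_subtype_le _)
    have hcomm : ∀ x y : K, x * y = y * x := fun x y => by
      have hy : (y : X) ∈ Z := hZK.symm ▸ y.2
      obtain ⟨y', hy', hyy⟩ := hy
      rw [← show y' = y from Subtype.ext hyy]
      exact Subgroup.mem_center_iff.mp hy' x
    obtain ⟨S⟩ := (inferInstance : Nonempty (Sylow 2 K))
    haveI : (S : Subgroup K).Normal := ⟨fun n hn g => by
      rw [hcomm g n, mul_inv_cancel_right]; exact hn⟩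
    haveI := S.characteristic_of_normal inferInstance
    haveI : ((S : Subgroup K).map K.subtype).Normal := ConjAct.normal_of_characteristic_of_normal
    have hSc : Nat.card ((S : Subgroup K).map K.subtype) = 2 ^ (Nat.card K).factorization 2 := by
      rw [← S.card_eq_multiplicity]
      exact (Nat.card_congr (Subgroup.equivMapOfInjective _ _ K.subtype_injective).toEquiv).symm
    have hSK := hmin _ inferInstance (by
      rw [hSc]
      exact dvd_pow_self 2 ((Nat.prime_two.factorization_pos_of_dvd Nat.card_pos.ne' hKe).ne'))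
      (Subgroup.map_subtype_le _)
    rw [← hSK, hSc]
    refine Nat.pow_le_pow_right (by norm_num) (le_trans ?_ hs)
    exact (Nat.factorization_le_iff_dvd Nat.card_pos.ne' Nat.card_pos.ne').mpr
      (Subgroup.card_subgroup_dvd_card K) 2
  · rcases Nat.lt_or_ge (2 * b) T.card with hTb | hTb
    swap
    · exact Or.inl hTb
    right
    refine le_trans ?_ (Nat.le_add_right _ _)
    have hZb : Nat.card Z ≤ b := hodd Z hZn (Nat.odd_iff.mpr (Nat.two_dvd_ne_zero.mp hZe))
    set S := (T ×ˢ T).filter fun q => q.1 * q.2 ∉ Z with hS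
    have hbad : ((T ×ˢ T).filter fun q => q.1 * q.2 ∈ Z).card ≤ T.card * b := by
      refine le_trans (Finset.card_le_card_of_injOn (fun q => (q.1, q.1 * q.2))
        (t := T ×ˢ Finset.univ.filter (· ∈ Z)) (fun q hq => ?_) ?_) ?_
      · obtain ⟨h1, h2⟩ := Finset.mem_filter.mp hq
        exact Finset.mem_product.mpr ⟨(Finset.mem_product.mp h1).1, by simp [h2]⟩
      · intro q _ q' _ h
        simp only [Prod.mk.injEq] at h
        exact Prod.ext h.1 (mul_left_cancel (h.1 ▸ h.2))
      · rw [Finset.card_product]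
        refine Nat.mul_le_mul_left _ (le_trans (le_of_eq ?_) hZb)
        rw [Nat.card_eq_fintype_card, Fintype.card_subtype]
    have hSne : S.Nonempty := by
      by_contra hne
      rw [Finset.not_nonempty_iff_eq_empty] at hne
      have h := Finset.card_filter_add_card_filter_not (s := T ×ˢ T)
        (fun q : X × X => q.1 * q.2 ∈ Z)
      rw [← hS, hne, Finset.card_empty, add_zero, Finset.card_product] at h
      have : T.card * T.card ≤ T.card * b := h ▸ hbad
      nlinarith
    set U := S.image fun q => q.1 * q.2 with hU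
    obtain ⟨g, hgU, hgmax⟩ := U.exists_max_image
      (fun g => Nat.card (Subgroup.centralizer ({g} : Set X))) (hSne.image _)
    have hfib : ∀ z ∈ U, (S.filter fun q => q.1 * q.2 = z).card ≤
        Nat.card (Subgroup.centralizer ({g} : Set X)) := by
      intro z hz
      refine le_trans ?_ (hgmax z hz)
      obtain ⟨q₀, hq₀, rfl⟩ := Finset.mem_image.mp hz
      rw [Nat.card_eq_fintype_card, Fintype.card_subtype]
      have hinv : ∀ q ∈ S, q.1 * q.2 = q₀.1 * q₀.2 →
          q.1 * (q₀.1 * q₀.2) * q.1⁻¹ = (q₀.1 * q₀.2)⁻¹ := by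
        intro q hq he
        obtain ⟨h1, h2⟩ := Finset.mem_product.mp (Finset.mem_filter.mp hq).1
        have e1 := (hTinv _ h1).2
        have e2 := (hTinv _ h2).2
        rw [← he, mul_inv_rev, e2]
        have e1' : q.1 * q.1 = 1 := by nth_rewrite 1 [← e1]; exact inv_mul_cancel _
        rw [← mul_assoc q.1, e1', one_mul]
      refine Finset.card_le_card_of_injOn (fun q => q₀.1⁻¹ * q.1) (fun q hq => ?_) ?_
      · obtain ⟨h1, h2⟩ := Finset.mem_filter.mp hq
        refine Finset.mem_filter.mpr ⟨Finset.mem_univ _,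
          Subgroup.mem_centralizer_singleton_iff.mpr ?_⟩
        have ea := hinv q h1 h2
        have eb := hinv q₀ hq₀ rfl
        have ec : q.1 * (q₀.1 * q₀.2) * q.1⁻¹ = q₀.1 * (q₀.1 * q₀.2) * q₀.1⁻¹ := ea.trans eb.symm
        calc q₀.1⁻¹ * q.1 * (q₀.1 * q₀.2)
            = q₀.1⁻¹ * (q.1 * (q₀.1 * q₀.2) * q.1⁻¹) * q.1 := by group
          _ = q₀.1 * q₀.2 * (q₀.1⁻¹ * q.1) := by rw [ec]; group
      · intro q hq q' hq' h
        have h1 : q.1 = q'.1 := mul_left_cancel h
        have h2 := ((Finset.mem_filter.mp hq).2).trans (Finset.mem_filter.mp hq').2.symm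
        exact Prod.ext h1 (mul_left_cancel (h1 ▸ h2))
    have hScard : S.card ≤ Nat.card K * Nat.card (Subgroup.centralizer ({g} : Set X)) := by
      rw [Finset.card_eq_sum_card_fiberwise (t := U) fun q hq => Finset.mem_image_of_mem _ hq]
      refine (Finset.sum_le_sum hfib).trans ?_
      rw [Finset.sum_const, smul_eq_mul]
      refine Nat.mul_le_mul_right _ ?_
      rw [Nat.card_eq_fintype_card, Fintype.card_subtype]
      refine Finset.card_le_card fun z hz => ?_
      obtain ⟨q, hq, rfl⟩ := Finset.mem_image.mp hz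
      obtain ⟨h1, h2⟩ := Finset.mem_product.mp (Finset.mem_filter.mp hq).1
      exact Finset.mem_filter.mpr ⟨Finset.mem_univ _, K.mul_mem (hTinv _ h1).1 (hTinv _ h2).1⟩
    obtain ⟨q, hq, hqg⟩ := Finset.mem_image.mp hgU
    have hgZ : g ∉ Z := hqg ▸ (Finset.mem_filter.mp hq).2
    have hgK : g ∈ K := hqg ▸ K.mul_mem (hTinv _ (Finset.mem_product.mp (Finset.mem_filter.mp hq).1).1).1
      (hTinv _ (Finset.mem_product.mp (Finset.mem_filter.mp hq).1).2).1
    set C := Subgroup.centralizer ({g} : Set X) with hC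
    have hidx : C.index ≤ 2 * d * d := by
      have h := Finset.card_filter_add_card_filter_not (s := T ×ˢ T)
        (fun q : X × X => q.1 * q.2 ∈ Z)
      rw [← hS, Finset.card_product] at h
      have hKX : Nat.card K ≤ Nat.card X := K.card_le_card_group
      have hCi := C.card_mul_index
      have hT2 : T.card * T.card ≤ 2 * (Nat.card X * Nat.card C) := by nlinarith
      have hX2 : Nat.card X * Nat.card X ≤ d * d * (T.card * T.card) := by
        rw [← hTX]; nlinarith [Nat.mul_le_mul hd hd]
      have h5 : Nat.card X * (Nat.card C * C.index) ≤ Nat.card X * (Nat.card C * (2 * d * d)) := by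
        rw [hCi]; nlinarith
      exact Nat.le_of_mul_le_mul_left (Nat.le_of_mul_le_mul_left h5 Nat.card_pos) Nat.card_pos
    have hCn : C.normalCore.index ≤ (2 * d * d).factorial := by
      refine le_trans ?_ (Nat.factorial_le hidx)
      rw [Subgroup.normalCore_eq_ker, Subgroup.index_ker, Subgroup.index_eq_card, ← natCard_perm']
      exact Nat.card_le_card_of_injective _ Subtype.val_injective
    set L := K ⊓ C.normalCore with hL
    haveI : L.Normal := inferInstance
    have hLodd : ¬ 2 ∣ Nat.card L := by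
      intro hLe
      have hLK := hmin L inferInstance hLe inf_le_left
      refine hgZ ⟨⟨g, hgK⟩, Subgroup.mem_center_iff.mpr fun x => Subtype.ext ?_, rfl⟩
      exact Subgroup.mem_centralizer_singleton_iff.mp
        (C.normalCore_le ((hLK.symm ▸ x.2 : (x : X) ∈ L)).2)
    have hLb := hodd L inferInstance (Nat.odd_iff.mpr (Nat.two_dvd_ne_zero.mp hLodd))
    have h1 : Nat.card K = Nat.card L * C.normalCore.relIndex K := by
      rw [← Subgroup.inf_relIndex_left, ← Subgroup.card_mul_index (L.subgroupOf K),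
        Nat.card_congr (Subgroup.subgroupOfEquivOfLe (inf_le_left : L ≤ K)).toEquiv]
      rfl
    rw [h1]
    refine Nat.mul_le_mul hLb (le_trans ?_ hCn)
    exact Nat.le_of_dvd (Nat.pos_of_ne_zero Subgroup.index_ne_zero_of_finite)
      (Subgroup.relIndex_dvd_index_of_normal _ _)

universe u

/-- The bound for groups with a four group. -/
theorem exists_bound_four : ∀ s c : ℕ, ∃ N : ℕ, ∀ (X : Type u) [Group X] [Finite X] (a b : X),
    a * a = 1 → b * b = 1 → a * b = b * a → a ≠ 1 → b ≠ 1 → a ≠ b →
    Nat.card (Subgroup.centralizer ({a} : Set X)) ≤ c →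
    Nat.card (Subgroup.centralizer ({b} : Set X)) ≤ c →
    Nat.card (Subgroup.centralizer ({a * b} : Set X)) ≤ c →
    (Nat.card X).factorization 2 ≤ s → Nat.card X ≤ N := by
  intro s
  induction s with
  | zero =>
    intro c
    refine ⟨0, fun X _ _ a b ha _ _ ha1 _ _ _ _ _ hs => absurd ?_ (not_lt.mpr hs)⟩
    refine Nat.prime_two.factorization_pos_of_dvd Nat.card_pos.ne' ?_
    rw [← orderOf_eq_prime (p := 2) (by rw [pow_two, ha]) ha1]
    exact orderOf_dvd_natCard a
  | succ s ih =>
    intro c
    obtain ⟨N₁, hN₁⟩ := ih c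
    set d := max c (2 * N₁) with hdd
    refine ⟨(2 * c ^ 3 + 1) * d + (c ^ 3 * (2 * d * d).factorial + 2 ^ (s + 1)).factorial * d,
      fun X _ _ a b ha hb hab ha1 hb1 hne hca hcb hcab hs => ?_⟩
    have := Fintype.ofFinite X
    have ho2 : ∀ {x : X}, x * x = 1 → x ≠ 1 → orderOf x = 2 := fun hx hx1 =>
      orderOf_eq_prime (by rw [pow_two, hx]) hx1
    have hX2 : 2 ∣ Nat.card X := ho2 ha ha1 ▸ orderOf_dvd_natCard a
    have hex : ∃ n, ∃ L : Subgroup X, L.Normal ∧ 2 ∣ Nat.card L ∧ Nat.card L = n :=
      ⟨_, ⊤, inferInstance, by rwa [Subgroup.card_top], rfl⟩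
    obtain ⟨K, hKn, hKe, hKc⟩ := Nat.find_spec hex
    haveI := hKn
    have hmin : ∀ L : Subgroup X, L.Normal → 2 ∣ Nat.card L → L ≤ K → L = K := fun L hL hLe hLK =>
      Subgroup.eq_of_le_of_card_ge hLK (hKc.trans_le (Nat.find_min' hex ⟨L, hL, hLe, rfl⟩))
    haveI : Fact (Nat.Prime 2) := ⟨Nat.prime_two⟩
    set E := InvChar.fourGroup a b ha hb hab with hE
    have haE : a ∈ E := Or.inr (Or.inl rfl)
    have hbE : b ∈ E := Or.inr (Or.inr (Or.inl rfl))
    have hEp : IsPGroup 2 E := by
      intro z
      refine ⟨1, Subtype.ext ?_⟩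
      simp only [pow_one, pow_two, Subgroup.coe_mul, Subgroup.coe_one]
      rcases z.2 with h | h | h | h <;> rw [h]
      · exact mul_one 1
      · exact ha
      · exact hb
      · rw [show a * b * (a * b) = a * (b * a) * b by group, ← hab,
          show a * (a * b) * b = (a * a) * (b * b) by group, ha, hb, one_mul]
    obtain ⟨S, hES⟩ := hEp.exists_le_sylow
    -- an involution of `K` central in `S`
    obtain ⟨u, huK, hu, huS⟩ : ∃ u : X, u ∈ K ∧ orderOf u = 2 ∧
        ∀ x ∈ (S : Subgroup X), x * u = u * x := by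
      obtain ⟨t, ht⟩ := exists_prime_orderOf_dvd_card' 2 hKe
      have htp : IsPGroup 2 (Subgroup.zpowers (t : X)) := IsPGroup.of_card (n := 1) (by
        rw [Nat.card_zpowers, Subgroup.orderOf_coe, ht, pow_one])
      obtain ⟨S', hS'⟩ := htp.exists_le_sylow
      obtain ⟨g, hg⟩ := MulAction.exists_smul_eq X S' S
      have htS : g * (t : X) * g⁻¹ ∈ (S : Subgroup X) := by
        rw [← hg, Sylow.coe_subgroup_smul]
        exact ⟨t, hS' (Subgroup.mem_zpowers _), rfl⟩
      have hne' : K.subgroupOf (S : Subgroup X) ≠ ⊥ := fun h => by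
        have h1 := (Subgroup.eq_bot_iff_forall _).mp h ⟨_, htS⟩
          (Subgroup.Normal.conj_mem inferInstance _ t.2 g)
        have h2 : g * (t : X) * g⁻¹ = 1 := congrArg Subtype.val h1
        have h3 : t = 1 := Subtype.ext (conj_eq_one_iff.mp h2)
        rw [h3, orderOf_one] at ht
        exact absurd ht (by norm_num)
      have hne2 := PGroup.inf_center_ne_bot S.isPGroup' hne'
      set L := K.subgroupOf (S : Subgroup X) ⊓ Subgroup.center (S : Subgroup X) with hL
      have hLc : 2 ∣ Nat.card L := by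
        obtain ⟨j, hj⟩ := (S.isPGroup'.to_subgroup L).exists_card_eq
        rw [hj]
        refine dvd_pow_self 2 fun h0 => hne2 (Subgroup.eq_bot_of_card_eq _ ?_)
        rw [hj, h0, pow_zero]
      obtain ⟨v, hv⟩ := exists_prime_orderOf_dvd_card' 2 hLc
      refine ⟨((v : (S : Subgroup X)) : X), v.2.1, ?_, fun x hx => ?_⟩
      · rw [Subgroup.orderOf_coe, Subgroup.orderOf_coe, hv]
      · exact congrArg Subtype.val (Subgroup.mem_center_iff.mp v.2.2 ⟨x, hx⟩)
    -- its centraliser is bounded
    have hud : Nat.card (Subgroup.centralizer ({u} : Set X)) ≤ d := by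
      by_cases huE : u = a ∨ u = b ∨ u = a * b
      · rcases huE with rfl | rfl | rfl <;> exact le_trans (by assumption) (le_max_left _ _)
      · push Not at huE
        set C := Subgroup.centralizer ({u} : Set X) with hC
        have haC : a ∈ C := Subgroup.mem_centralizer_singleton_iff.mpr (huS a (hES haE))
        have hbC : b ∈ C := Subgroup.mem_centralizer_singleton_iff.mpr (huS b (hES hbE))
        set uC : C := ⟨u, Subgroup.mem_centralizer_singleton_iff.mpr rfl⟩ with huC
        set Z := Subgroup.zpowers uC with hZ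
        haveI : Z.Normal := ⟨fun n hn g => by
          obtain ⟨k, rfl⟩ := hn
          have hgu : Commute g uC := Subtype.ext (Subgroup.mem_centralizer_singleton_iff.mp g.2)
          rw [(hgu.zpow_right k).eq, mul_inv_cancel_right]
          exact ⟨k, rfl⟩⟩
        have hZc : Nat.card Z = 2 := by rw [Nat.card_zpowers, ← Subgroup.orderOf_coe, huC, hu]
        have huu : u * u = 1 := by rw [← pow_two, ← hu, pow_orderOf_eq_one]
        have hmemZ : ∀ x : C, x ∈ Z → (x : X) = 1 ∨ (x : X) = u := by
          rintro x ⟨k, rfl⟩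
          rcases Int.even_or_odd k with ⟨j, rfl⟩ | ⟨j, rfl⟩
          · left
            show (((uC ^ (j + j) : C)) : X) = 1
            rw [Subgroup.coe_zpow, ← two_mul, zpow_mul, zpow_two, huu, one_zpow]
          · right
            show (((uC ^ (2 * j + 1) : C)) : X) = u
            rw [Subgroup.coe_zpow, zpow_add_one, zpow_mul, zpow_two, huu, one_zpow, one_mul]
        set aQ : C ⧸ Z := QuotientGroup.mk' Z ⟨a, haC⟩ with haQ
        set bQ : C ⧸ Z := QuotientGroup.mk' Z ⟨b, hbC⟩ with hbQ
        have hcC : ∀ (x : X) (hx : x ∈ C) (c' : ℕ),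
            Nat.card (Subgroup.centralizer ({x} : Set X)) ≤ c' →
            Nat.card (Subgroup.centralizer ({((⟨x, hx⟩ : C) : C ⧸ Z)} : Set (C ⧸ Z))) ≤ c' := by
          intro x hx c' hc'
          refine le_trans (natCard_centralizer_mk_le Z _) (le_trans ?_ hc')
          exact Nat.card_le_card_of_injective
            (fun y : Subgroup.centralizer ({(⟨x, hx⟩ : C)} : Set C) =>
              (⟨((y : C) : X), Subgroup.mem_centralizer_singleton_iff.mpr (congrArg Subtype.val
                (Subgroup.mem_centralizer_singleton_iff.mp y.2))⟩ :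
                Subgroup.centralizer ({x} : Set X)))
            fun y y' h => Subtype.ext (Subtype.ext (congrArg Subtype.val h :))
        have hQ : Nat.card (C ⧸ Z) ≤ N₁ := by
          refine hN₁ (C ⧸ Z) aQ bQ ?_ ?_ ?_ ?_ ?_ ?_ (hcC a haC c hca) (hcC b hbC c hcb)
            ?_ ?_
          · rw [haQ, ← map_mul, show (⟨a, haC⟩ : C) * ⟨a, haC⟩ = 1 from Subtype.ext ha, map_one]
          · rw [hbQ, ← map_mul, show (⟨b, hbC⟩ : C) * ⟨b, hbC⟩ = 1 from Subtype.ext hb, map_one]
          · rw [haQ, hbQ, ← map_mul, ← map_mul]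
            exact congrArg _ (Subtype.ext hab)
          · intro h
            rcases hmemZ _ ((QuotientGroup.eq_one_iff _).mp h) with h1 | h1
            exacts [ha1 h1, huE.1 h1.symm]
          · intro h
            rcases hmemZ _ ((QuotientGroup.eq_one_iff _).mp h) with h1 | h1
            exacts [hb1 h1, huE.2.1 h1.symm]
          · intro h
            rw [haQ, hbQ] at h
            have h0 : (⟨a, haC⟩ : C)⁻¹ * ⟨b, hbC⟩ ∈ Z := QuotientGroup.eq.mp h
            rcases hmemZ _ h0 with h1 | h1
            · exact hne (inv_mul_eq_one.mp h1)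
            · refine huE.2.2 ?_
              rw [← h1]
              show a⁻¹ * b = a * b
              rw [inv_eq_of_mul_eq_one_left ha]
          · rw [haQ, hbQ, ← map_mul]
            exact hcC (a * b) (C.mul_mem haC hbC) c hcab
          · have h1 := Subgroup.card_eq_card_quotient_mul_card_subgroup Z
            have h2 : (Nat.card C).factorization 2 ≤ s + 1 :=
              ((Nat.factorization_le_iff_dvd Nat.card_pos.ne' Nat.card_pos.ne').mpr
                C.card_subgroup_dvd_card 2).trans hs
            rw [h1, Nat.factorization_mul Nat.card_pos.ne' Nat.card_pos.ne', Finsupp.add_apply, hZc,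
              Nat.prime_two.factorization_self] at h2
            omega
        refine le_trans ?_ (le_max_right _ _)
        rw [Subgroup.card_eq_card_quotient_mul_card_subgroup Z, hZc, mul_comm]
        exact Nat.mul_le_mul_left 2 hQ
    refine natCard_le_of_involution hKe hmin huK hu (fun O hO hodd => ?_) hud hs
    haveI := hO
    refine (natCard_odd_le ha hb hab O hodd).trans ?_
    rw [show c ^ 3 = c * (c * c) by ring]
    exact Nat.mul_le_mul hca (Nat.mul_le_mul hcb hcab)

end Cfsg.Agent.BC86
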