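import Cfsg.Agent.BC86.SectionHeight
import Cfsg.Agent.BC86.SubsectionFusion
import Cfsg.Agent.Blocks88.Basic

/-!
# Brauer's bound on heights

`p ^ h` times the order of the centre of a defect group is at most the inertial index times the
order of the defect group.
-/

open scoped ComplexConjugate

namespace Cfsg.Agent.BC86

open BlocksCore BlocksDefect BC85

attribute [local instance] fintypeSub

variable {G : Type*} [Group G] [Finite G] {p : ℕ} [Fact p.Prime] {M : Ideal AlgInt}

local notation "C[" y "]" => Subgroup.centralizer ({y} : Set G)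

theorem map_sectionInner (σ : ℂ →+* ℂ) (y : G) (χ : IrrCharacter G) (ρ : IrrCharacter C[y]) :
    σ (sectionInner p y (χ : G → ℂ) (ρ : C[y] → ℂ)) =
        sectionInner p y (Blocks88.galoisIrr σ χ : G → ℂ)
          (Blocks88.galoisIrr σ ρ : C[y] → ℂ) ∧
      σ (conj (sectionInner p y (χ : G → ℂ) (ρ : C[y] → ℂ))) =
        conj (sectionInner p y (Blocks88.galoisIrr σ χ : G → ℂ)
          (Blocks88.galoisIrr σ ρ : C[y] → ℂ)) := by
  have := Fintype.ofFinite G
  constructor <;>
  · simp only [sectionInner, map_mul, map_inv₀, map_natCast, map_sum, apply_ite σ, apply_ite conj,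
      map_zero, conj_irr]
    rfl

theorem sectionInner_centConj {f : G → ℂ} (hf : IsClassFunction G f) {t x y : G}
    (h : t * x * t⁻¹ = y) (ρ : IrrCharacter C[y]) :
    sectionInner p x f (pullIrr (centConj t h) ρ : C[x] → ℂ) =
      sectionInner p y f (ρ : C[y] → ℂ) := by
  simp only [sectionInner, Nat.card_congr (centConj t h).toEquiv]
  congr 1
  refine Fintype.sum_equiv (centConj t h).toEquiv _ _ fun c => ?_
  simp only [MulEquiv.toEquiv_eq_coe, EquivLike.coe_coe, MulEquiv.orderOf_eq, pullIrr_apply,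
    coe_centConj]
  rw [show y * (t * (c : G) * t⁻¹) = t * (x * (c : G)) * t⁻¹ by rw [← h]; group, hf]

theorem finite_range_map {z : ℂ} (hz : IsIntegral ℤ z) :
    (Set.range fun σ : ℂ →+* ℂ => σ z).Finite := by
  refine (Polynomial.rootSet_finite (minpoly ℤ z) ℂ).subset ?_
  rintro _ ⟨σ, rfl⟩
  rw [Polynomial.mem_rootSet]
  refine ⟨minpoly.ne_zero hz, ?_⟩
  show Polynomial.aeval (σ.toIntAlgHom z) _ = 0
  rw [Polynomial.aeval_algHom_apply, minpoly.aeval, map_zero]

/-- Brauer's height bound. -/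
theorem height_bound (hM : IsPModular p M) {B : Set (IrrCharacter G)} (hB : IsPBlock M B)
    {D : Subgroup G} (hBD : IsDefectGroup p M B D) {H : Subgroup G}
    (hH : H = D ⊔ Subgroup.centralizer (D : Set G)) {b : Set (IrrCharacter H)}
    (hind : IsInducedBlock M H b B) (T : Subgroup G)
    (hT : ∀ g : G, g ∈ T ↔ (g ∈ Subgroup.normalizer (D : Set G) ∧ ∀ θ ∈ b, ∀ θ' : IrrCharacter H,
      (∀ h h' : H, (h' : G) = g * h * g⁻¹ → (θ' : H → ℂ) h' = (θ : H → ℂ) h) → θ' ∈ b))
    {χ : IrrCharacter G} (hχ : χ ∈ B) :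
    p ^ blockHeight p B (χ : G → ℂ) * Nat.card (Subgroup.center D) ≤
      H.relIndex T * Nat.card D := by
  classical
  have := Fintype.ofFinite G
  have := Fintype.ofFinite (T ⧸ H.subgroupOf T)
  have hp : p.Prime := Fact.out
  have := isPrime hM
  have hD := isPGroup_of_isDefectGroup hBD
  let Z := {y : G // y ∈ D ∧ ∀ z ∈ D, z * y = y * z}
  have hcardZ : Nat.card (Subgroup.center D) = Fintype.card Z := by
    rw [← Nat.card_eq_fintype_card]
    exact Nat.card_congr
      { toFun := fun y => ⟨((y : D) : G), (y : D).2, fun z hz =>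
          congrArg Subtype.val (Subgroup.mem_center_iff.mp y.2 ⟨z, hz⟩)⟩
        invFun := fun y => ⟨⟨y.1, y.2.1⟩,
          Subgroup.mem_center_iff.mpr fun z => Subtype.ext (y.2.2 z z.2)⟩
        left_inv := fun _ => rfl
        right_inv := fun _ => rfl }
  have hord : ∀ y : Z, ∃ k : ℕ, orderOf y.1 = p ^ k := fun y => by
    obtain ⟨k, hk⟩ := IsPGroup.iff_orderOf.mp hD ⟨y.1, y.2.1⟩
    exact ⟨k, by rw [← hk, Subgroup.orderOf_mk]⟩
  choose β hβK hβB hβd hβD using fun y : Z => exists_major hH hM hBD hind y.2.1 y.2.2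
  set d := blockDefect p B with hd
  have hcardD : Nat.card D = p ^ d := defectGroup_natCard hM hB hBD
  set h := blockHeight p B (χ : G → ℂ) with hh
  set e := H.relIndex T with he
  let rep : G → G := fun g => Quotient.out (ConjClasses.mk g)
  have hrep : ∀ g : G, ∃ t : G, t * rep g * t⁻¹ = g := fun g =>
    isConj_iff.mp (ConjClasses.mk_eq_mk_iff_isConj.mp (Quotient.out_eq (ConjClasses.mk g)))
  choose tt htt using hrep
  -- a fixed character lies in at most `e` of the transported subsections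
  let Pr : (x : G) → IrrCharacter C[x] → Z → Prop := fun x ρ y =>
    ∃ hx : tt y.1 * x * (tt y.1)⁻¹ = y.1, pullIrr (centConj (tt y.1) hx).symm ρ ∈ β y
  have hfib : ∀ (x : G) (ρ : IrrCharacter C[x]), (Finset.univ.filter (Pr x ρ)).card ≤ e := by
    intro x ρ
    rcases (Finset.univ.filter (Pr x ρ)).eq_empty_or_nonempty with he0 | ⟨y₀, hy₀⟩
    · simp [he0]
    obtain ⟨hx₀, hm₀⟩ := (Finset.mem_filter.mp hy₀).2
    have himg : ∀ y ∈ Finset.univ.filter (Pr x ρ), ∃ g ∈ T, g * y₀.1 * g⁻¹ = y.1 := by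
      intro y hy
      obtain ⟨hx, hm⟩ := (Finset.mem_filter.mp hy).2
      have ht : tt y.1 * (tt y₀.1)⁻¹ * y₀.1 * (tt y.1 * (tt y₀.1)⁻¹)⁻¹ = y.1 := by
        conv_lhs => arg 1; arg 2; rw [← hx₀]
        conv_rhs => rw [← hx]
        group
      have hconj : pullIrr (centConj (tt y.1 * (tt y₀.1)⁻¹) ht) '' β y = β y₀ := by
        refine (isPBlock_eq_of_mem (hβK y₀).2.1 (isPBlock_image_pullIrr _ (hβK y).2.1) hm₀
          ⟨_, hm, Subtype.ext (funext fun c => ?_)⟩).symm
        rw [pullIrr_apply, pullIrr_apply, pullIrr_apply]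
        refine congrArg _ (Subtype.ext ?_)
        show (tt y.1)⁻¹ * (tt y.1 * (tt y₀.1)⁻¹ * (c : G) * (tt y.1 * (tt y₀.1)⁻¹)⁻¹) * tt y.1 =
          (tt y₀.1)⁻¹ * (c : G) * tt y₀.1
        group
      obtain ⟨g, hg1, hg2, hg3⟩ := exists_inertial hH hM hBD hind y₀.2.1 y₀.2.2 y.2.1 y.2.2
        (hβK y₀) (hβD y₀) (hβK y) ht hconj
      exact ⟨g, (hT g).mpr ⟨hg2, hg3⟩, hg1⟩
    have hHy : ∀ k ∈ H, k * y₀.1 * k⁻¹ = y₀.1 := fun k hk => by
      rw [Subgroup.mem_centralizer_singleton_iff.mp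
        (root_le_centralizer hH y₀.2.1 y₀.2.2 hk), mul_inv_cancel_right]
    calc (Finset.univ.filter (Pr x ρ)).card
        = ((Finset.univ.filter (Pr x ρ)).image fun y : Z => y.1).card :=
          (Finset.card_image_of_injective _ Subtype.val_injective).symm
      _ ≤ (Finset.univ.image fun q : T ⧸ H.subgroupOf T =>
            (q.out : G) * y₀.1 * (q.out : G)⁻¹).card := by
          refine Finset.card_le_card fun w hw => ?_
          obtain ⟨y, hy, rfl⟩ := Finset.mem_image.mp hw
          obtain ⟨g, hgT, hg⟩ := himg y hy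
          refine Finset.mem_image.mpr ⟨QuotientGroup.mk ⟨g, hgT⟩, Finset.mem_univ _, ?_⟩
          obtain ⟨k, hk⟩ := QuotientGroup.mk_out_eq_mul (H.subgroupOf T) ⟨g, hgT⟩
          rw [hk]
          show g * ((k : T) : G) * y₀.1 * (g * ((k : T) : G))⁻¹ = y.1
          rw [show g * ((k : T) : G) * y₀.1 * (g * ((k : T) : G))⁻¹ =
            g * (((k : T) : G) * y₀.1 * ((k : T) : G)⁻¹) * g⁻¹ by group, hHy ((k : T) : G) k.2, hg]
      _ ≤ e := Finset.card_image_le.trans (by
          rw [Finset.card_univ, ← Nat.card_eq_fintype_card]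
          rfl)
  -- the sum of the squared norms of the sections
  have hmain : ∀ σ : ℂ →+* ℂ, ∑ y : Z, ∑ ρ ∈ Finset.univ.filter (· ∈ β y),
      Complex.normSq (sectionInner p y.1 (Blocks88.galoisIrr σ χ : G → ℂ)
        (Blocks88.galoisIrr σ ρ : C[y.1] → ℂ)) ≤ (e : ℝ) := by
    intro σ
    set f : G → ℂ := (Blocks88.galoisIrr σ χ : G → ℂ) with hf
    have hfc : IsClassFunction G f := irr_class _
    set X := Finset.univ.image (fun y : Z => rep y.1) with hX
    rw [← Finset.sum_fiberwise_of_maps_to (t := X) (g := fun y : Z => rep y.1)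
      fun y _ => Finset.mem_image_of_mem _ (Finset.mem_univ y)]
    have hstep : ∀ x ∈ X, ∑ y ∈ Finset.univ.filter (fun y : Z => rep y.1 = x),
        ∑ ρ ∈ Finset.univ.filter (· ∈ β y),
          Complex.normSq (sectionInner p y.1 f (Blocks88.galoisIrr σ ρ : C[y.1] → ℂ)) ≤
        (e : ℝ) * ∑ ρ : IrrCharacter C[x],
          Complex.normSq (sectionInner p x f (ρ : C[x] → ℂ)) := by
      intro x _
      calc ∑ y ∈ Finset.univ.filter (fun y : Z => rep y.1 = x),
            ∑ ρ ∈ Finset.univ.filter (· ∈ β y),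
              Complex.normSq (sectionInner p y.1 f (Blocks88.galoisIrr σ ρ : C[y.1] → ℂ))
          ≤ ∑ y : Z, ∑ ρ : IrrCharacter C[x], if Pr x ρ y then
              Complex.normSq (sectionInner p x f (Blocks88.galoisIrr σ ρ : C[x] → ℂ)) else 0 := by
            refine le_trans (Finset.sum_le_sum fun y hy => ?_)
              (Finset.sum_le_sum_of_subset_of_nonneg (Finset.subset_univ _) fun y _ _ =>
                Finset.sum_nonneg fun ρ _ => by split_ifs; exacts [Complex.normSq_nonneg _, le_rfl])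
            obtain rfl := (Finset.mem_filter.mp hy).2
            rw [← Finset.sum_filter]
            set τ := centConj (tt y.1) (htt y.1) with hτ
            refine le_of_eq (Finset.sum_bij (fun ρ _ => pullIrr τ ρ) (fun ρ hρ => ?_)
              (fun ρ _ ρ' _ he => ?_) (fun ρ hρ => ?_) (fun ρ _ => ?_))
            · refine Finset.mem_filter.mpr ⟨Finset.mem_univ _, htt y.1, ?_⟩
              have : pullIrr τ.symm (pullIrr τ ρ) = ρ := Subtype.ext (funext fun c =>
                congrArg (ρ : C[y.1] → ℂ) (τ.apply_symm_apply c))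
              rw [this]
              exact (Finset.mem_filter.mp hρ).2
            · refine Subtype.ext (funext fun c => ?_)
              have := congrFun (congrArg Subtype.val he) (τ.symm c)
              rwa [pullIrr_apply, pullIrr_apply, τ.apply_symm_apply] at this
            · obtain ⟨hx, hm⟩ := (Finset.mem_filter.mp hρ).2
              exact ⟨_, Finset.mem_filter.mpr ⟨Finset.mem_univ _, hm⟩, pullIrr_symm τ ρ⟩
            · rw [show Blocks88.galoisIrr σ (pullIrr τ ρ) = pullIrr τ (Blocks88.galoisIrr σ ρ) from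
                Subtype.ext rfl]
              exact congrArg _ (sectionInner_centConj hfc _ _).symm
        _ ≤ (e : ℝ) * ∑ ρ : IrrCharacter C[x],
              Complex.normSq (sectionInner p x f (Blocks88.galoisIrr σ ρ : C[x] → ℂ)) := by
            rw [Finset.sum_comm, Finset.mul_sum]
            refine Finset.sum_le_sum fun ρ _ => ?_
            rw [← Finset.sum_filter, Finset.sum_const, nsmul_eq_mul]
            exact mul_le_mul_of_nonneg_right (Nat.cast_le.mpr (hfib x ρ)) (Complex.normSq_nonneg _)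
        _ = _ := by
            congr 1
            exact Fintype.sum_bijective (Blocks88.galoisIrr σ)
              (Finite.injective_iff_bijective.mp (Blocks88.galoisIrr_injective σ)) _ _ fun ρ => rfl
    refine (Finset.sum_le_sum hstep).trans ?_
    rw [← Finset.mul_sum]
    refine mul_le_of_le_one_right (Nat.cast_nonneg _) ((sum_sections_le hfc X ?_ ?_).trans_eq ?_)
    · intro x hx
      obtain ⟨y, -, rfl⟩ := Finset.mem_image.mp hx
      obtain ⟨k, hk⟩ := hord y
      exact ⟨k, by rw [← hk, ← orderOf_conjugate (rep y.1) (tt y.1), htt]⟩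
    · intro x hx x' hx' hc
      obtain ⟨y, -, rfl⟩ := Finset.mem_image.mp hx
      obtain ⟨y', -, rfl⟩ := Finset.mem_image.mp hx'
      have h1 := ConjClasses.mk_eq_mk_iff_isConj.mpr hc
      rw [show ConjClasses.mk (rep y.1) = ConjClasses.mk y.1 from Quotient.out_eq _,
        show ConjClasses.mk (rep y'.1) = ConjClasses.mk y'.1 from Quotient.out_eq _] at h1
      exact congrArg Quotient.out h1
    · have h1 := CharCore.classInner_irr_self (Blocks88.galoisIrr σ χ)
      rw [classInner, ← hf] at h1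
      simp only [Complex.mul_conj] at h1
      rw [finsum_eq_sum_of_fintype]
      exact Complex.ofReal_injective (by push_cast; exact h1)
  -- the scaled contributions
  let r : Z → ℂ := fun y => ((p ^ d : ℕ) : ℂ) / ((p ^ h : ℕ) : ℂ) *
    ∑ ρ ∈ Finset.univ.filter (· ∈ β y), sectionInner p y.1 (χ : G → ℂ) (ρ : C[y.1] → ℂ) *
      conj (sectionInner p y.1 (χ : G → ℂ) (ρ : C[y.1] → ℂ))
  have hph : ((p ^ h : ℕ) : ℂ) ≠ 0 := Nat.cast_ne_zero.mpr (pow_ne_zero _ hp.ne_zero)
  have hpd : ((p ^ d : ℕ) : ℂ) ≠ 0 := Nat.cast_ne_zero.mpr (pow_ne_zero _ hp.ne_zero)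
  have hspec := fun y : Z => scaledCoord_spec hM (hord y) (hβB y) (hβd y) hχ
  have hrint : ∀ y, IsIntegral ℤ (r y) := by
    intro y
    obtain ⟨k, hk⟩ := hord y
    have hyc : (⟨y.1, Subgroup.mem_centralizer_singleton_iff.mpr rfl⟩ : C[y.1]) ∈
        Subgroup.center C[y.1] := Subgroup.mem_center_iff.mpr fun g =>
      Subtype.ext (Subgroup.mem_centralizer_singleton_iff.mp g.2)
    simp only [r]
    rw [sum_sq_eq hM (hβK y).2.1 _ rfl hyc χ, Finset.mul_sum]
    refine IsIntegral.sum _ fun ρ hρ => ?_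
    obtain ⟨r', hr', hX⟩ := (hspec y).1 ρ (Finset.mem_filter.mp hρ).2
    rw [scaledCoord, hβd y] at hX
    rw [← mul_assoc, show ((p ^ d : ℕ) : ℂ) / ((p ^ h : ℕ) : ℂ) *
      sectionInner p y.1 (χ : G → ℂ) (ρ : C[y.1] → ℂ) = r' by
        rw [div_mul_eq_mul_div, hX, mul_div_cancel_left₀ _ hph]]
    refine hr'.mul ?_
    rw [map_mul, map_natCast]
    refine (isIntegral_natCast _).mul (IsIntegral.map (starRingEnd ℂ).toIntAlgHom
      (IsIntegral.of_pow (n := p ^ k) (pow_pos hp.pos k) ?_))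
    rw [← cval_pow ρ hyc]
    convert isIntegral_one (R := ℤ) (B := ℂ)
    rw [← cval_one ρ]
    congr 1
    exact Subtype.ext (by simp [← hk, pow_orderOf_eq_one])
  have hσr : ∀ (σ : ℂ →+* ℂ) (y : Z), σ (r y) = (((p ^ d : ℕ) : ℝ) / ((p ^ h : ℕ) : ℝ) *
      ∑ ρ ∈ Finset.univ.filter (· ∈ β y), Complex.normSq (sectionInner p y.1
        (Blocks88.galoisIrr σ χ : G → ℂ) (Blocks88.galoisIrr σ ρ : C[y.1] → ℂ)) : ℝ) := by
    intro σ y
    simp only [r, map_mul, map_div₀, map_natCast, map_sum, fun ρ => (map_sectionInner (p := p) σ y.1 χ ρ).1,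
      fun ρ => (map_sectionInner (p := p) σ y.1 χ ρ).2]
    simp only [Complex.mul_conj]
    push_cast
    rfl
  have hrne : ∀ y, r y ≠ 0 := by
    intro y h0
    obtain ⟨ρ, hρ, hu⟩ := (hspec y).2
    simp only [r, mul_eq_zero, div_eq_zero_iff, hph, hpd, or_self, false_or, Complex.mul_conj,
      ← Complex.ofReal_sum, Complex.ofReal_eq_zero] at h0
    exact hu (Complex.normSq_eq_zero.mp ((Finset.sum_eq_zero_iff_of_nonneg
      fun i _ => Complex.normSq_nonneg _).mp h0 ρ (Finset.mem_filter.mpr ⟨Finset.mem_univ _, hρ⟩)))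
  -- averaging
  have hfin : (Set.range fun σ : ℂ →+* ℂ => fun y => σ (r y)).Finite := by
    refine (Set.Finite.pi' fun y : Z => finite_range_map (hrint y)).subset ?_
    rintro _ ⟨σ, rfl⟩ y
    exact ⟨σ, rfl⟩
  set 𝒯 := hfin.toFinset with h𝒯
  have h𝒯1 : (0 : ℝ) < 𝒯.card := Nat.cast_pos.mpr (Finset.card_pos.mpr
    ⟨fun y => RingHom.id ℂ (r y), hfin.mem_toFinset.mpr ⟨RingHom.id ℂ, rfl⟩⟩)
  have h1 := Blocks88.card_le_sum_norm (𝒯 ×ˢ (Finset.univ : Finset Z)) (fun q => q.1 q.2)
    (fun q hq => ?_) (fun q hq => ?_) fun σ => ?_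
  · rw [Finset.card_product, Finset.sum_product, Finset.card_univ, Nat.cast_mul] at h1
    have h2 : ∀ t ∈ 𝒯, ∑ y : Z, ‖t y‖ ≤ ((p ^ d : ℕ) : ℝ) / ((p ^ h : ℕ) : ℝ) * (e : ℝ) := by
      intro t ht
      obtain ⟨σ, rfl⟩ := hfin.mem_toFinset.mp ht
      refine le_trans (le_of_eq ?_) (mul_le_mul_of_nonneg_left (hmain σ) (by positivity))
      rw [Finset.mul_sum]
      refine Finset.sum_congr rfl fun y _ => ?_
      show ‖σ (r y)‖ = _
      rw [hσr σ y, Complex.norm_real, Real.norm_eq_abs, abs_of_nonneg]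
      exact mul_nonneg (by positivity) (Finset.sum_nonneg fun _ _ => Complex.normSq_nonneg _)
    have h3 := h1.trans (Finset.sum_le_sum h2)
    rw [Finset.sum_const, nsmul_eq_mul] at h3
    have h4 := le_of_mul_le_mul_left h3 h𝒯1
    have hphR : (0 : ℝ) < ((p ^ h : ℕ) : ℝ) := Nat.cast_pos.mpr (pow_pos hp.pos _)
    rw [div_mul_eq_mul_div, le_div_iff₀ hphR, ← hcardZ] at h4
    rw [hcardD]
    have h5 : ((p ^ h * Nat.card (Subgroup.center D) : ℕ) : ℝ) ≤ ((e * p ^ d : ℕ) : ℝ) := by
      push_cast at h4 ⊢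
      linarith
    exact_mod_cast h5
  · obtain ⟨σ, hσ⟩ := hfin.mem_toFinset.mp (Finset.mem_product.mp hq).1
    rw [← congrFun hσ q.2]
    exact (hrint q.2).map σ.toIntAlgHom
  · obtain ⟨σ, hσ⟩ := hfin.mem_toFinset.mp (Finset.mem_product.mp hq).1
    rw [← congrFun hσ q.2]
    exact (map_ne_zero σ).mpr (hrne q.2)
  · refine ⟨fun q => (fun y => σ (q.1 y), q.2), fun q hq => ?_, fun q _ q' _ hqq' => ?_,
      fun q _ => rfl⟩
    · obtain ⟨τ, hτ⟩ := hfin.mem_toFinset.mp (Finset.mem_product.mp hq).1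
      exact Finset.mem_product.mpr ⟨hfin.mem_toFinset.mpr
        ⟨σ.comp τ, funext fun y => by show σ (τ (r y)) = σ (q.1 y); rw [← hτ]⟩, Finset.mem_univ _⟩
    · simp only [Prod.mk.injEq] at hqq'
      exact Prod.ext (funext fun y => σ.injective (congrFun hqq'.1 y)) hqq'.2

end Cfsg.Agent.BC86
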