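import Cfsg.Agent.Lib.BlocksDefect.StabilizerIndex
import Cfsg.Agent.Lib.BlocksDefect.CoveredDefect
import Cfsg.Agent.BC85.Pairs.Idem
import Cfsg.Agent.BC85.Pairs.Transport

/-!
# A height zero character of a stable block fixed by a Sylow subgroup
-/

set_option linter.unusedSectionVars false

namespace Cfsg.Agent.BC86

open BlocksCore BlocksDefect
open scoped Classical

variable {G : Type*} [Group G] [Fintype G] {p : ℕ} [Fact p.Prime] {M : Ideal AlgInt}
  {N : Subgroup G} [hN : N.Normal]

theorem centralChar_eq_of_isConj {A : Type*} [Group A] [Finite A] (θ : IrrCharacter A) {x y : A}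
    (h : IsConj x y) : centralChar (θ : A → ℂ) x = centralChar (θ : A → ℂ) y := by
  have := Fintype.ofFinite A
  rw [centralChar, centralChar, classFun_eq_of_isConj (irr_class θ) h, ← natCard_isConj,
    ← natCard_isConj]
  rw [Nat.card_congr (Equiv.subtypeEquivRight (p := fun z => IsConj x z) (q := fun z => IsConj y z)
    fun z => ⟨fun hz => h.symm.trans hz, fun hz => h.trans hz⟩)]

theorem index_factorization_eq_min (hM : IsPModular p M) {A : Type*} [Group A] [Finite A]
    {B : Set (IrrCharacter A)} (hB : IsPBlock M B) {g : A} (hg : IsDefectClass M B g) :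
    ((Subgroup.centralizer ({g} : Set A)).index).factorization p =
      sInf ((fun χ : IrrCharacter A => (charDegree (χ : A → ℂ)).factorization p) '' B) := by
  have := Fintype.ofFinite A
  have := isPrime hM
  obtain ⟨D, hS⟩ := exists_isSylowCent p g
  have h1 := defectGroup_natCard hM hB (isDefectGroup_iff.mpr ⟨g, hg, hS⟩)
  rw [hS.natCard] at h1
  have h2 := Nat.pow_right_injective (Fact.out : p.Prime).two_le h1
  obtain ⟨χ, hχ⟩ := isPBlock_nonempty hB
  set m := sInf ((fun χ : IrrCharacter A => (charDegree (χ : A → ℂ)).factorization p) '' B) with hm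
  have h3 : m ≤ (Nat.card A).factorization p := by
    refine (Nat.sInf_le (show (charDegree (χ : A → ℂ)).factorization p ∈
      (fun χ : IrrCharacter A => (charDegree (χ : A → ℂ)).factorization p) '' B from ⟨χ, hχ, rfl⟩)).trans ?_
    exact (Nat.factorization_le_iff_dvd (charDegree_pos χ).ne' Nat.card_pos.ne').mpr
      (charDegree_dvd_card χ) p
  have h4 := congrArg (fun n => n.factorization p)
    (Subgroup.card_mul_index (Subgroup.centralizer ({g} : Set A)))
  simp only [Nat.factorization_mul Nat.card_pos.ne' Subgroup.FiniteIndex.index_ne_zero,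
    Finsupp.add_apply] at h4
  rw [blockDefect, ← hm] at h2
  omega

/-- The action of `G` on the classes of a normal subgroup. -/
def classAction : MulAction G (ConjClasses N) where
  smul u C := ConjClasses.map (MulAut.conjNormal u : N ≃* N).toMonoidHom C
  one_smul C := by
    obtain ⟨x, rfl⟩ := ConjClasses.exists_rep C
    exact congrArg ConjClasses.mk (show MulAut.conjNormal (1 : G) x = x from Subtype.ext (by simp))
  mul_smul u v C := by
    obtain ⟨x, rfl⟩ := ConjClasses.exists_rep C
    exact congrArg ConjClasses.mk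
      (show MulAut.conjNormal (u * v) x = MulAut.conjNormal u (MulAut.conjNormal v x) from
        Subtype.ext (by simp [MulAut.conjNormal_apply, mul_assoc]))

attribute [local instance] classAction

theorem isConj_out_smul (u : G) (C : ConjClasses N) :
    IsConj (MulAut.conjNormal u (Quotient.out C)) (Quotient.out (u • C)) := by
  rw [← ConjClasses.mk_eq_mk_iff_isConj]
  refine Eq.trans ?_ (Quotient.out_eq (u • C)).symm
  conv_rhs => rw [← Quotient.out_eq C]
  rfl

/-- An element of the orbit of a class lies over the same class of `G`. -/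
theorem mem_orbit_iff_isConj (x y : N) :
    ConjClasses.mk y ∈ MulAction.orbit G (ConjClasses.mk x) ↔ IsConj (x : G) (y : G) := by
  constructor
  · rintro ⟨u, hu⟩
    have hu' : IsConj (MulAut.conjNormal u x) y := ConjClasses.mk_eq_mk_iff_isConj.mp hu
    exact (isConj_iff.mpr ⟨u, (MulAut.conjNormal_apply u x).symm⟩ :
      IsConj (x : G) (MulAut.conjNormal u x : N)).trans (N.subtype.map_isConj hu')
  · intro h
    obtain ⟨u, hu⟩ := isConj_iff.mp h
    exact ⟨u, congrArg ConjClasses.mk (show MulAut.conjNormal u x = y from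
      Subtype.ext (by rw [MulAut.conjNormal_apply]; exact hu))⟩

variable {b : Set (IrrCharacter N)}

theorem image_pullIrr_stable (hst : ∀ g : G, ∀ θ ∈ b, conjIrr g θ ∈ b) (g : G) :
    BC85.pullIrr (MulAut.conjNormal g : N ≃* N) '' b = b := by
  have e : ∀ θ : IrrCharacter N,
      BC85.pullIrr (MulAut.conjNormal g : N ≃* N) θ = conjIrr g θ := fun θ => Subtype.ext rfl
  ext θ
  constructor
  · rintro ⟨η, hη, rfl⟩
    rw [e]; exact hst g η hη
  · exact fun hθ => ⟨conjIrr g⁻¹ θ, hst _ θ hθ, by
      rw [e]; simpa using conjIrr_inv_self g⁻¹ θ⟩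

theorem centralChar_smul_sub (hM : IsPModular p M) (hb : IsPBlock M b)
    (hst : ∀ g : G, ∀ θ ∈ b, conjIrr g θ ∈ b) {θ : IrrCharacter N} (hθ : θ ∈ b) (u : G)
    (C : ConjClasses N) :
    MemLocalIdeal M (centralChar (θ : N → ℂ) (Quotient.out (u • C)) -
      centralChar (θ : N → ℂ) (Quotient.out C)) := by
  have := isPrime hM
  rw [← centralChar_eq_of_isConj θ (isConj_out_smul u C)]
  have e : centralChar (θ : N → ℂ) (MulAut.conjNormal u (Quotient.out C)) =
      centralChar (conjIrr u θ : N → ℂ) (Quotient.out C) := by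
    set x := Quotient.out C
    rw [centralChar, centralChar]
    have e1 : (conjIrr u θ : N → ℂ) x = (θ : N → ℂ) (MulAut.conjNormal u x) := rfl
    have e2 : (conjIrr u θ : N → ℂ) 1 = (θ : N → ℂ) 1 :=
      congrArg (θ : N → ℂ) (map_one (MulAut.conjNormal u : N ≃* N))
    rw [e1, e2, ← natCard_isConj, ← natCard_isConj]
    congr 3
    exact (Nat.card_congr ((MulAut.conjNormal u : N ≃* N).toEquiv.subtypeEquiv fun z =>
      ⟨(MulAut.conjNormal u : N ≃* N).toMonoidHom.map_isConj, fun h => by
        simpa using (MulAut.conjNormal u : N ≃* N).symm.toMonoidHom.map_isConj h⟩)).symm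
  rw [e]
  exact sameBlock_of_mem hb (hst u θ hθ) hθ _

/-- A defect class fixed by a `p`-subgroup. -/
theorem exists_fixed_defectClass (hM : IsPModular p M) (hb : IsPBlock M b)
    (hst : ∀ g : G, ∀ θ ∈ b, conjIrr g θ ∈ b) {S : Subgroup G} (hS : IsPGroup p S) :
    ∃ g : N, IsDefectClass M b g ∧ ∀ u ∈ S, u • ConjClasses.mk g = ConjClasses.mk g := by
  have := isPrime hM
  obtain ⟨θ, hθ⟩ := isPBlock_nonempty hb
  have hbi := isIntClassFun_blockCoeff hM hb
  set c : ConjClasses N → ℂ := fun C => centralChar (θ : N → ℂ)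
    (Quotient.out (Quotient.out (Quotient.mk (MulAction.orbitRel S (ConjClasses N)) C))) with hc
  set f : ConjClasses N → ℂ := fun C => blockCoeff b (Quotient.out C) * c C with hf
  have hbinv : ∀ (u : G) (C : ConjClasses N),
      blockCoeff b (Quotient.out (u • C)) = blockCoeff b (Quotient.out C) := by
    intro u C
    rw [classFun_eq_of_isConj hbi.1 (isConj_out_smul u C)]
    have := congrFun (BC85.blockCoeff_image_pullIrr (MulAut.conjNormal u : N ≃* N) b)
      (Quotient.out C)
    rw [image_pullIrr_stable hst] at this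
    exact this.symm
  have hinv : ∀ (u : S) (C : ConjClasses N), f (u • C) = f C := by
    intro u C
    have e : Quotient.mk (MulAction.orbitRel S (ConjClasses N)) (u • C) = Quotient.mk _ C :=
      Quotient.sound (MulAction.mem_orbit C u)
    simp only [hf, hc, e]
    rw [show u • C = (u : G) • C from rfl, hbinv]
  have hint : ∀ C, MemLocalRing M (f C) := fun C =>
    (localRing M).mul_mem (hbi.2 _) (centralChar_memLocalRing θ _)
  have hdiff : ∀ C, MemLocalIdeal M
      (c C - centralChar (θ : N → ℂ) (Quotient.out C)) := by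
    intro C
    obtain ⟨u, hu⟩ : Quotient.out (Quotient.mk (MulAction.orbitRel S (ConjClasses N)) C) ∈
        MulAction.orbit S C := Quotient.exact (Quotient.out_eq (Quotient.mk (MulAction.orbitRel S (ConjClasses N)) C))
    have hu' : (u : G) • C = Quotient.out (Quotient.mk (MulAction.orbitRel S (ConjClasses N)) C) := hu
    have hk := centralChar_smul_sub hM hb hst hθ (u : G) C
    rw [hu'] at hk
    exact hk
  have key := memLocalIdeal_sum_sub_fixed hM hS f hinv hint
  have htot : MemLocalIdeal M (∑ C, f C - 1) := by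
    rw [show (1 : ℂ) = omega (θ : N → ℂ) (blockCoeff b) by
      rw [omega_blockCoeff, Set.indicator_of_mem hθ]; rfl, BlocksDefect.omega_eq_sum_classes θ hbi.1,
      ← Finset.sum_sub_distrib]
    refine memLocalIdeal_sum fun C _ => ?_
    rw [hf, ← mul_sub]
    exact memLocalIdeal_mul_left (hbi.2 _) (hdiff C)
  by_contra hno
  push Not at hno
  have hfix : MemLocalIdeal M (∑ C ∈ Finset.univ.filter
      (· ∈ MulAction.fixedPoints S (ConjClasses N)), f C) := by
    refine memLocalIdeal_sum fun C hC => ?_
    by_contra hu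
    have h1 : ¬ MemLocalIdeal M (blockCoeff b (Quotient.out C)) := fun h =>
      hu (memLocalIdeal_mul_right h (centralChar_memLocalRing θ _))
    have h2 : ¬ MemLocalIdeal M (centralChar (θ : N → ℂ) (Quotient.out C)) := fun h => by
      refine hu (memLocalIdeal_mul_left (hbi.2 _) ?_)
      have := memLocalIdeal_add (hdiff C) h
      rwa [sub_add_cancel] at this
    obtain ⟨u, hu', hne⟩ := hno (Quotient.out C)
      ⟨hbi.2 _, h1, fun ψ hψ => centralChar_unit_of_mem hM hb hθ hψ h2⟩
    refine hne ?_
    rw [show ConjClasses.mk (Quotient.out C) = C from Quotient.out_eq C]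
    exact (Finset.mem_filter.mp hC).2 ⟨u, hu'⟩
  refine not_memLocalIdeal_one (M := M) ?_
  have := memLocalIdeal_sub (memLocalIdeal_add key hfix) htot
  simpa using this

/-- A stable block has a height zero character fixed by a given Sylow subgroup. -/
theorem exists_height_zero_fixed (hM : IsPModular p M) (hb : IsPBlock M b)
    (hst : ∀ g : G, ∀ θ ∈ b, conjIrr g θ ∈ b) (S : Sylow p G) :
    ∃ θ ∈ b, (charDegree (θ : N → ℂ)).factorization p =
        sInf ((fun ψ : IrrCharacter N => (charDegree (ψ : N → ℂ)).factorization p) '' b) ∧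
      ∀ u ∈ (S : Subgroup G), conjIrr u θ = θ := by
  have := isPrime hM
  haveI := finite_irr (G := G)
  haveI := finite_irr (G := N)
  set k := sInf ((fun ψ : IrrCharacter N => (charDegree (ψ : N → ℂ)).factorization p) '' b) with hk
  obtain ⟨g, hg, hfix⟩ := exists_fixed_defectClass hM hb hst S.isPGroup'
  have hbi := isIntClassFun_blockCoeff hM hb
  -- the block idempotent as an idempotent of `G`
  set a : G → ℂ := fun x => if hx : x ∈ N then blockCoeff b ⟨x, hx⟩ else 0 with ha'
  have ha0 : a = fun x => if hx : x ∈ N then blockCoeff b ⟨x, hx⟩ else 0 := rfl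
  have hres : res N a = blockCoeff b := funext fun n => by simp [res, ha0]
  have hs : ∀ x, x ∉ N → a x = 0 := fun x hx => by simp [ha0, hx]
  have hacl : IsClassFunction G a := by
    intro x u
    by_cases hx : x ∈ N
    · have h := congrFun (BC85.blockCoeff_image_pullIrr (MulAut.conjNormal u : N ≃* N) b) ⟨x, hx⟩
      rw [image_pullIrr_stable hst] at h
      simp only [ha0, dif_pos hx, dif_pos (hN.conj_mem x hx u)]
      exact h.symm
    · have hx' : u * x * u⁻¹ ∉ N := fun h => hx
        (by simpa [mul_assoc] using hN.conj_mem _ h u⁻¹)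
      rw [hs x hx, hs _ hx']
  have hidem : conv a a = a := by
    funext x
    by_cases hx : x ∈ N
    · have h := congrFun (res_conv (N := N) (a := a) (b := a) hs) ⟨x, hx⟩
      rw [hres, BC85.conv_blockCoeff, Set.inter_self] at h
      simp only [res] at h
      rw [h]; simp [ha0, hx]
    · rw [hs x hx]; exact conv_supported hs hs x hx
  set A := {χ : IrrCharacter G | omega (χ : G → ℂ) a = 1} with hA
  have haA : a = blockCoeff A := BC85.eq_blockCoeff_of_idem hacl hidem
  have hAu : BC85.IsBlockUnion M A := BC85.IsBlockUnion.of_integral hM fun x => by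
    rw [← haA]
    by_cases hx : x ∈ N
    · simp only [ha0, dif_pos hx]; exact hbi.2 _
    · rw [hs x hx]; exact (localRing M).zero_mem
  -- a block of `G` below `A` with unit coefficient at `g`
  have hag : ¬ MemLocalIdeal M (blockCoeff A (g : G)) := by
    rw [← haA]; simpa [ha0] using hg.2.1
  obtain ⟨χ₁, hχ₁A, hχ₁⟩ : ∃ χ ∈ A, ¬ MemLocalIdeal M
      (blockCoeff (blockOf M (χ : G → ℂ)) (g : G)) := by
    by_contra hno
    push Not at hno
    apply hag
    haveI := Fintype.ofFinite (IrrCharacter G)
    set T : Finset (Set (IrrCharacter G)) :=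
      (Finset.univ.filter (· ∈ A)).image fun χ : IrrCharacter G => blockOf M (χ : G → ℂ) with hT
    have hsum : blockCoeff A = ∑ B ∈ T, blockCoeff B := by
      refine eq_of_omega_eq (isClassFunction_blockCoeff A) (fun x u => ?_) fun χ => ?_
      · rw [Finset.sum_apply, Finset.sum_apply]
        exact Finset.sum_congr rfl fun B _ => isClassFunction_blockCoeff B x u
      rw [omega_blockCoeff]
      have e : omega (χ : G → ℂ) (∑ B ∈ T, blockCoeff B) =
          ∑ B ∈ T, omega (χ : G → ℂ) (blockCoeff B) := by
        simp only [omega_eq_sum, Finset.sum_apply, Finset.sum_mul, ← Finset.sum_div]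
        rw [Finset.sum_comm]
      rw [e]
      simp only [omega_blockCoeff]
      by_cases hχ : χ ∈ A
      · rw [Set.indicator_of_mem hχ, Finset.sum_eq_single (blockOf M (χ : G → ℂ)),
          Set.indicator_of_mem (mem_blockOf_self χ)]
        · intro B hB hne
          obtain ⟨ψ, -, rfl⟩ := Finset.mem_image.mp hB
          exact Set.indicator_of_notMem (fun h => hne (isPBlock_eq_blockOf (isPBlock_blockOf ψ) h)) _
        · exact fun h => absurd (Finset.mem_image.mpr ⟨χ, by simp [hχ], rfl⟩) h
      · rw [Set.indicator_of_notMem hχ, Finset.sum_eq_zero]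
        intro B hB
        obtain ⟨ψ, hψ, rfl⟩ := Finset.mem_image.mp hB
        exact Set.indicator_of_notMem (fun h => hχ (hAu ψ (Finset.mem_filter.mp hψ).2 h)) _
    rw [hsum, Finset.sum_apply]
    refine memLocalIdeal_sum fun B hB => ?_
    obtain ⟨ψ, hψ, rfl⟩ := Finset.mem_image.mp hB
    exact hno ψ (Finset.mem_filter.mp hψ).2
  set B := blockOf M (χ₁ : G → ℂ) with hBdef
  have hB : IsPBlock M B := isPBlock_blockOf χ₁
  have hcons : ∀ χ ∈ B, ∀ θ, IsConstituent χ θ → θ ∈ b := by
    intro χ hχ θ hθ
    have h1 : omega (χ : G → ℂ) a = 1 := hAu χ₁ hχ₁A hχ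
    rw [omega_eq_of_constituent hθ hacl hs, hres, omega_blockCoeff] at h1
    by_contra h
    rw [Set.indicator_of_notMem h] at h1
    exact zero_ne_one h1
  -- the class of `g` in `G` gives a unit central character
  set orb := MulAction.orbit G (ConjClasses.mk g) with horb
  set F := Finset.univ.filter (· ∈ orb) with hF
  have hresK : res N (classInd (g : G)) = fun x => if ConjClasses.mk x ∈ orb then 1 else 0 := by
    funext x
    by_cases h : IsConj (g : G) (x : G)
    · rw [if_pos ((mem_orbit_iff_isConj g x).mpr h)]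
      exact classInd_apply_of_isConj h
    · rw [if_neg fun h' => h ((mem_orbit_iff_isConj g x).mp h')]
      exact classInd_apply_of_not_isConj h
  have hsupp : ∀ x, x ∉ N → classInd (g : G) x = 0 := fun x hx =>
    classInd_apply_of_not_isConj fun h => hx (by
      obtain ⟨u, rfl⟩ := isConj_iff.mp h
      exact hN.conj_mem _ g.2 u)
  have hcard : ¬ p ∣ F.card := by
    have hidx : F.card = (MulAction.stabilizer G (ConjClasses.mk g)).index := by
      rw [MulAction.index_stabilizer, Set.ncard_eq_toFinset_card', ← horb]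
      congr 1
      ext C; simp [hF]
    rw [hidx]
    exact fun h => S.not_dvd_index (h.trans (Subgroup.index_dvd_of_le
      (H := (S : Subgroup G)) fun u hu => hfix u hu))
  have hω : ∀ θ ∈ b, MemLocalIdeal M (omega (θ : N → ℂ) (res N (classInd (g : G))) -
      (F.card : ℂ) * centralChar (θ : N → ℂ) g) := by
    intro θ hθ
    rw [BlocksDefect.omega_eq_sum_classes θ (isIntClassFun_res N (isIntClassFun_classInd (M := M) (g : G))).1]
    rw [show (F.card : ℂ) * centralChar (θ : N → ℂ) g = ∑ C ∈ F, centralChar (θ : N → ℂ) g by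
      rw [Finset.sum_const, nsmul_eq_mul]]
    rw [Finset.sum_congr rfl (g := fun C => if C ∈ orb then centralChar (θ : N → ℂ) (Quotient.out C)
      else 0) fun C _ => by
        rw [hresK]
        show (if ConjClasses.mk (Quotient.out C) ∈ orb then (1 : ℂ) else 0) * _ = _
        rw [show ConjClasses.mk (Quotient.out C) = C from Quotient.out_eq C, ite_mul, one_mul,
          zero_mul], ← Finset.sum_filter, ← hF, ← Finset.sum_sub_distrib]
    refine memLocalIdeal_sum fun C hC => ?_
    obtain ⟨u, rfl⟩ := (Finset.mem_filter.mp hC).2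
    have h := centralChar_smul_sub hM hb hst hθ u (ConjClasses.mk g)
    rwa [centralChar_eq_of_isConj θ (ConjClasses.mk_eq_mk_iff_isConj.mp
      (Quotient.out_eq (ConjClasses.mk g)))] at h
  have hdefB : IsDefectClass M B (g : G) := by
    refine ⟨(isIntClassFun_blockCoeff hM hB).2 _, hχ₁, fun χ hχ hmem => ?_⟩
    obtain ⟨θ, hθ⟩ := exists_constituent_irr (N := N) χ
    have hθb := hcons χ hχ θ hθ
    rw [← omega_classInd (irr_class χ),
      omega_eq_of_constituent hθ (isClassFunction_classInd _) hsupp] at hmem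
    have := memLocalIdeal_sub hmem (hω θ hθb)
    rw [sub_sub_cancel] at this
    rcases memLocalIdeal_mem_or_mem (memLocalRing_natCast _)
      (centralChar_memLocalRing θ g) this with h | h
    · exact hcard ((memLocalIdeal_natCast_iff hM _).mp h)
    · exact hg.2.2 θ hθb h
  -- compare the class sizes
  have hsize : ((Subgroup.centralizer ({(g : G)} : Set G)).index : ℂ) =
      (F.card : ℂ) * (Subgroup.centralizer ({g} : Set N)).index := by
    have hone : IsClassFunction N (fun _ => (1 : ℂ)) := fun _ _ => rfl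
    have h := sum_eq_sum_classes
      (isIntClassFun_res N (isIntClassFun_classInd (M := M) (g : G))).1 hone
    simp only [mul_one] at h
    have hl : ∑ x : N, res N (classInd (g : G)) x =
        ((Subgroup.centralizer ({(g : G)} : Set G)).index : ℂ) := by
      rw [← natCard_isConj, Nat.card_eq_fintype_card, Fintype.card_subtype, hresK]
      simp only [Finset.sum_boole]
      congr 1
      refine Finset.card_bij (fun x _ => (x : G)) (fun x hx => ?_)
        (fun x _ y _ h => Subtype.ext h) fun y hy => ?_
      · exact Finset.mem_filter.mpr ⟨Finset.mem_univ _,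
          (mem_orbit_iff_isConj g x).mp (Finset.mem_filter.mp hx).2⟩
      · have hy' := (Finset.mem_filter.mp hy).2
        have hyN : y ∈ N := by
          obtain ⟨u, rfl⟩ := isConj_iff.mp hy'
          exact hN.conj_mem _ g.2 u
        exact ⟨⟨y, hyN⟩, Finset.mem_filter.mpr ⟨Finset.mem_univ _,
          (mem_orbit_iff_isConj g ⟨y, hyN⟩).mpr hy'⟩, rfl⟩
    rw [← hl, h, show (F.card : ℂ) * (Subgroup.centralizer ({g} : Set N)).index =
      ∑ C ∈ F, ((Subgroup.centralizer ({g} : Set N)).index : ℂ) by
        rw [Finset.sum_const, nsmul_eq_mul], Finset.sum_filter]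
    refine Finset.sum_congr rfl fun C _ => ?_
    rw [hresK]
    show (if ConjClasses.mk (Quotient.out C) ∈ orb then (1 : ℂ) else 0) * _ = _
    rw [show ConjClasses.mk (Quotient.out C) = C from Quotient.out_eq C]
    split_ifs with hC
    · obtain ⟨u, rfl⟩ := hC
      rw [one_mul, ← natCard_isConj, ← natCard_isConj, Nat.cast_inj]
      have hc1 : IsConj (MulAut.conjNormal u g) (Quotient.out (u • ConjClasses.mk g)) :=
        ((MulAut.conjNormal u : N ≃* N).toMonoidHom.map_isConj
          (ConjClasses.mk_eq_mk_iff_isConj.mp (Quotient.out_eq (ConjClasses.mk g))).symm).trans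
            (isConj_out_smul u _)
      exact (Nat.card_congr ((MulAut.conjNormal u : N ≃* N).toEquiv.subtypeEquiv fun z =>
        ⟨fun hz => hc1.symm.trans ((MulAut.conjNormal u : N ≃* N).toMonoidHom.map_isConj hz),
          fun hz => by
            simpa using (MulAut.conjNormal u : N ≃* N).symm.toMonoidHom.map_isConj
              (hc1.trans hz)⟩)).symm
    · simp
  have hmin : sInf ((fun χ : IrrCharacter G => (charDegree (χ : G → ℂ)).factorization p) '' B) =
      k := by
    rw [hk, ← index_factorization_eq_min hM hB hdefB, ← index_factorization_eq_min hM hb hg]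
    have e : (Subgroup.centralizer ({(g : G)} : Set G)).index =
        F.card * (Subgroup.centralizer ({g} : Set N)).index := by exact_mod_cast hsize
    rw [e, Nat.factorization_mul (fun h0 : F.card = 0 => hcard (by rw [h0]; exact dvd_zero p))
      Subgroup.FiniteIndex.index_ne_zero, Finsupp.add_apply,
      Nat.factorization_eq_zero_of_not_dvd hcard, zero_add]
  obtain ⟨χ, hχ, hχdeg⟩ := Nat.sInf_mem (Set.Nonempty.image
    (fun χ : IrrCharacter G => (charDegree (χ : G → ℂ)).factorization p) ⟨χ₁, mem_blockOf_self χ₁⟩ :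
    ((fun χ : IrrCharacter G => (charDegree (χ : G → ℂ)).factorization p) '' B).Nonempty)
  simp only [hmin] at hχdeg
  -- count the constituents
  have hchar : IsCharacter N (fun n : N => (χ : G → ℂ) n) :=
    CharCore.isCharacter_restrict (CharCore.irr_isCharacter χ) N
  choose m hm using fun θ : IrrCharacter N =>
    CharCore.IsCharacter.exists_classInner_irr_eq_natCast hchar θ
  have hdvd : ∀ θ : IrrCharacter N, m θ ≠ 0 →
      θ ∈ b ∧ p ^ k ∣ charDegree (θ : N → ℂ) := by
    intro θ hθ
    have hmem : θ ∈ b := hcons χ hχ θ (by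
      rw [IsConstituent, hm]; exact Nat.cast_ne_zero.mpr hθ)
    exact ⟨hmem, ((Fact.out : p.Prime).pow_dvd_iff_le_factorization (charDegree_pos θ).ne').mpr
      (Nat.sInf_le ⟨θ, hmem, rfl⟩)⟩
  set d : IrrCharacter N → ℕ := fun θ => m θ * (charDegree (θ : N → ℂ) / p ^ k) with hd
  have htot : charDegree (χ : G → ℂ) = p ^ k * ∑ θ, d θ := by
    have h := congrFun (CharCore.IsCharacter.eq_sum_classInner hchar) 1
    simp only [Finset.sum_apply, Pi.smul_apply, smul_eq_mul, hm, Subgroup.coe_one] at h
    rw [irr_one_eq] at h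
    simp only [irr_one_eq] at h
    have h' : charDegree (χ : G → ℂ) = ∑ θ, m θ * charDegree (θ : N → ℂ) := by exact_mod_cast h
    rw [h', Finset.mul_sum]
    refine Finset.sum_congr rfl fun θ _ => ?_
    by_cases h0 : m θ = 0
    · simp [hd, h0]
    · obtain ⟨c, hc⟩ := (hdvd θ h0).2
      simp only [hd]
      rw [hc, Nat.mul_div_cancel_left _ (pow_pos (Fact.out : p.Prime).pos k)]
      ring
  by_contra hno
  push Not at hno
  let act : MulAction (S : Subgroup G) (IrrCharacter N) :=
    { smul := fun u θ => conjIrr ((u : G))⁻¹ θ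
      one_smul := fun θ => Subtype.ext (by
        show conjFun ((1 : (S : Subgroup G)) : G)⁻¹ _ = _
        rw [Subgroup.coe_one, inv_one, conjFun_one])
      mul_smul := fun u v θ => by
        show conjIrr ((u * v : (S : Subgroup G)) : G)⁻¹ θ =
          conjIrr ((u : G))⁻¹ (conjIrr ((v : G))⁻¹ θ)
        rw [conjIrr_conjIrr, Subgroup.coe_mul, mul_inv_rev] }
  have hdinv : ∀ (u : (S : Subgroup G)) (θ : IrrCharacter N), (d (u • θ) : ℂ) = (d θ : ℂ) := by
    intro u θ
    have e1 : m (conjIrr ((u : G))⁻¹ θ) = m θ := by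
      have := classInner_conjIrr χ ((u : G))⁻¹ θ
      rw [hm, hm] at this
      exact_mod_cast this
    have e2 : charDegree (conjIrr ((u : G))⁻¹ θ : N → ℂ) = charDegree (θ : N → ℂ) := by
      have := irr_one_eq (conjIrr ((u : G))⁻¹ θ)
      rw [show (conjIrr ((u : G))⁻¹ θ : N → ℂ) 1 = (θ : N → ℂ) 1 from
        congrArg (θ : N → ℂ) (map_one (MulAut.conjNormal ((u : G))⁻¹ : N ≃* N)), irr_one_eq] at this
      exact_mod_cast this.symm
    show ((d (conjIrr ((u : G))⁻¹ θ) : ℕ) : ℂ) = _
    simp only [hd, e1, e2]
  have key := memLocalIdeal_sum_sub_fixed hM S.isPGroup' (fun θ => (d θ : ℂ)) hdinv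
    fun θ => memLocalRing_natCast _
  rw [← Nat.cast_sum, ← Nat.cast_sum] at key
  have hfixed : p ∣ ∑ θ ∈ Finset.univ.filter
      (· ∈ MulAction.fixedPoints (S : Subgroup G) (IrrCharacter N)), d θ := by
    refine Finset.dvd_sum fun θ hθ => ?_
    by_cases h0 : m θ = 0
    · simp [hd, h0]
    · obtain ⟨hmem, c, hc⟩ := hdvd θ h0
      by_contra hp
      refine absurd (fun u hu => ?_) (not_forall.mpr (by
        obtain ⟨u, hu, hne⟩ := hno θ hmem ?_
        exact ⟨u, fun h => hne (h hu)⟩) : ¬ ∀ u : G, u ∈ (S : Subgroup G) → conjIrr u θ = θ)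
      · have := (Finset.mem_filter.mp hθ).2 ⟨u⁻¹, inv_mem hu⟩
        have h2 : conjIrr ((u⁻¹)⁻¹) θ = θ := this
        rwa [inv_inv] at h2
      · simp only [hd] at hp
        rw [hc, Nat.mul_div_cancel_left _ (pow_pos (Fact.out : p.Prime).pos k)] at hp
        have hpc : ¬ p ∣ c := fun h => hp (dvd_mul_of_dvd_right h _)
        rw [hc, Nat.factorization_mul (pow_ne_zero _ (Fact.out : p.Prime).ne_zero)
          (fun h : c = 0 => hpc (by rw [h]; exact dvd_zero p)), Finsupp.add_apply, (Fact.out : p.Prime).factorization_pow,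
          Finsupp.single_eq_same, Nat.factorization_eq_zero_of_not_dvd hpc, add_zero]
  have hall : p ∣ ∑ θ, d θ := by
    rw [← memLocalIdeal_natCast_iff hM]
    have := memLocalIdeal_add key ((memLocalIdeal_natCast_iff hM _).mpr hfixed)
    rwa [sub_add_cancel] at this
  obtain ⟨c, hc⟩ := hall
  rw [hc, ← mul_assoc, ← pow_succ] at htot
  have hle : k + 1 ≤ (charDegree (χ : G → ℂ)).factorization p :=
    ((Fact.out : p.Prime).pow_dvd_iff_le_factorization (charDegree_pos χ).ne').mp ⟨c, htot⟩
  omega

end Cfsg.Agent.BC86
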