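import Cfsg.Agent.BC85.Pairs.Maximal
import Cfsg.Agent.BC84.BrauerCount

/-!
# A block of a subgroup containing the centralizer of its defect group
-/

set_option linter.unusedSectionVars false

namespace Cfsg.Agent.BC86

open BlocksCore BlocksDefect BC85

variable {G : Type*} [Group G] [Fintype G] {p : ℕ} [Fact p.Prime] {M : Ideal AlgInt}
  {H : Subgroup G}

local notation "C[" Q "]" => Subgroup.centralizer (Q : Set G)

/-- A block of `H` with defect group `D₀` and `C(D₀) ≤ H` has an induced block, whose defect group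
`D` may be chosen with `D₀ ≤ D` and `Z(D) ≤ D₀`. -/
theorem exists_induced_nested [Fintype H] (hM : IsPModular p M) {b : Set (IrrCharacter H)}
    (hb : IsPBlock M b) {D₀ : Subgroup H} (hD₀ : IsDefectGroup p M b D₀)
    (hC : C[(D₀.map H.subtype : Subgroup G)] ≤ H) :
    ∃ B : Set (IrrCharacter G), IsInducedBlock M H b B ∧ ∃ D : Subgroup G,
      IsDefectGroup p M B D ∧ D₀.map H.subtype ≤ D ∧
      ∀ z ∈ D, (∀ w ∈ D, w * z = z * w) → z ∈ D₀.map H.subtype := by
  classical
  have := isPrime hM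
  set P := D₀.map H.subtype with hP
  have hPp : IsPGroup p P := (isPGroup_of_isDefectGroup hD₀).map _
  have hPH : P ≤ H := Subgroup.map_subtype_le D₀
  have hbu := isBlockUnion_isPBlock hb
  have hbrP := isBrFun_subgroupBlockCoeff hM hbu hPH hC
  obtain ⟨c, hc, hu⟩ := (exists_coeff_mem_centralizer_iff hM hb hD₀
    (isPGroup_of_isDefectGroup hD₀)).mpr (subConj_refl D₀)
  have hcP : (c : G) ∈ C[P] := Subgroup.mem_centralizer_iff.mpr (by
    rintro _ ⟨r, hr, rfl⟩
    exact congrArg Subtype.val (Subgroup.mem_centralizer_iff.mp hc r hr))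
  obtain ⟨e, he, hsub⟩ := exists_block_subset_cset hM hPp hbrP (conv_sub_idem_mod b) hcP
    (by rw [subgroupBlockCoeff_coe]; exact hu)
  obtain ⟨B, hB, -⟩ := existsUnique_block_of_pair hM (P := P) (e := e) ⟨hPp, he⟩
  refine ⟨B, isInducedBlock_of_over hM hPH hC hB hb hsub, ?_⟩
  obtain ⟨a, hmax, hle⟩ := exists_maximal_above hM hB
  have hPD : P ≤ a.1 := subpairLE_le hle
  refine ⟨a.1, isDefectGroup_of_maximal hM hmax, hPD, fun z hz hzc => ?_⟩
  -- the subgroup generated by `P` and `z`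
  have hzP : z ∈ C[P] := Subgroup.mem_centralizer_iff.mpr fun w hw => hzc w (hPD hw)
  set Q := P ⊔ Subgroup.zpowers z with hQ
  have hzl : Subgroup.zpowers z ≤ C[P] := Subgroup.zpowers_le.mpr hzP
  have hQH : Q ≤ H := sup_le hPH (hzl.trans hC)
  have hQD : Q ≤ a.1 := sup_le hPD (Subgroup.zpowers_le.mpr hz)
  have hPQ : P ≤ Q := le_sup_left
  have hQN : Q ≤ Subgroup.normalizer (P : Set G) :=
    sup_le Subgroup.le_normalizer (hzl.trans (BlocksCore.centralizer_le_normalizer' P))
  obtain ⟨g, hg⟩ := exists_below hM hmax.1.1 hQD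
  have hgp : IsBrauerPair p M Q g := subpairLE_isBrauerPair hg hmax.1.1
  obtain ⟨f, hf⟩ := exists_normalSubpair hM hgp hPQ hQN
  have hfa : SubpairLE p M P f a.1 a.2 := Relation.ReflTransGen.head (show NormalSubpairRel p M ⟨P, f⟩ ⟨Q, g⟩ from hf) hg
  obtain rfl : f = e := below_unique hM hmax.1.1 hfa hle
  have hCQ : C[Q] ≤ H := (centralizer_anti hPQ).trans hC
  have hbrQ := isBrFun_subgroupBlockCoeff hM hbu hQH hCQ
  have hgsub := (subset_cset_iff_of_normalSubpair hM hf hbrP hbrQ (conv_sub_idem_mod b)).mpr hsub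
  obtain ⟨d, hd, hdu⟩ := exists_unit_of_subset_cset hM hbrQ (isPBlock_nonempty hgp.2) hgsub
  rw [subgroupBlockCoeff_of_mem H b (hCQ hd)] at hdu
  have hQ' : SubConj (Q.subgroupOf H) D₀ :=
    (exists_coeff_mem_centralizer_iff hM hb hD₀ (isPGroup_subgroupOf hgp.1 H)).mp
      ⟨⟨d, hCQ hd⟩, (mem_centralizer_subgroupOf hQH _).mpr hd, hdu⟩
  have hcard : Nat.card Q ≤ Nat.card P := by
    rw [← Nat.card_congr (Subgroup.subgroupOfEquivOfLe hQH).toEquiv,
      ← Nat.card_congr (Subgroup.equivMapOfInjective D₀ H.subtype H.subtype_injective).toEquiv]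
    exact Nat.le_of_dvd Nat.card_pos hQ'.card_dvd
  rw [Subgroup.eq_of_le_of_card_ge hPQ hcard]
  exact Subgroup.mem_sup_right (Subgroup.mem_zpowers z)

end Cfsg.Agent.BC86
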