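import Mathlib.GroupTheory.Sylow
import Mathlib.GroupTheory.FixedPointFree
import Mathlib.GroupTheory.Perm.Cycle.Type
import Mathlib.GroupTheory.SpecificGroups.Cyclic

/-!
# An involution inverting one `p`-element inverts a Sylow `p`-subgroup

when the centralisers of the nontrivial `p`-elements have odd order.
-/

open scoped Pointwise

namespace Cfsg.Agent.BC86

variable {G : Type*} [Group G] [Finite G] {p : ℕ}

/-- Centralisers of nontrivial `p`-elements have odd order. -/
def OddCentralizers (p : ℕ) (G : Type*) [Group G] : Prop :=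
  ∀ g : G, g ≠ 1 → (∃ k : ℕ, orderOf g = p ^ k) →
    Odd (Nat.card (Subgroup.centralizer ({g} : Set G)))

theorem exists_pow_of_mem [Fact p.Prime] {R : Subgroup G} (hR : IsPGroup p R) {r : G}
    (hr : r ∈ R) : ∃ k : ℕ, orderOf r = p ^ k := by
  obtain ⟨k, hk⟩ := IsPGroup.iff_orderOf.mp hR ⟨r, hr⟩
  exact ⟨k, (Subgroup.orderOf_coe (⟨r, hr⟩ : R)).trans hk⟩

/-- An involution normalising a `p`-subgroup inverts it. -/
theorem inverts_of_normalizes [Fact p.Prime] (hC : OddCentralizers p G) {s : G}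
    (hs : orderOf s = 2) {R : Subgroup G} (hR : IsPGroup p R)
    (hnorm : ∀ r ∈ R, s * r * s⁻¹ ∈ R) : ∀ r ∈ R, s * r * s⁻¹ = r⁻¹ := by
  have hs2 : s * s = 1 := by rw [← pow_two, ← hs, pow_orderOf_eq_one]
  let φ : R →* R :=
    { toFun := fun r => ⟨s * r * s⁻¹, hnorm r r.2⟩
      map_one' := by simp
      map_mul' := fun a b => Subtype.ext (by simp [mul_assoc]) }
  have hfix : MonoidHom.FixedPointFree φ := by
    intro r hr
    have hr' : s * (r : G) * s⁻¹ = r := congrArg Subtype.val hr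
    by_contra hne
    have hne' : (r : G) ≠ 1 := fun h => hne (Subtype.ext h)
    have hodd := hC (r : G) hne' (exists_pow_of_mem hR r.2)
    have hmem : s ∈ Subgroup.centralizer ({(r : G)} : Set G) :=
      Subgroup.mem_centralizer_singleton_iff.mpr (mul_inv_eq_iff_eq_mul.mp hr')
    have h2 : 2 ∣ Nat.card (Subgroup.centralizer ({(r : G)} : Set G)) :=
      hs ▸ Subgroup.orderOf_dvd_natCard _ hmem
    exact (Nat.not_even_iff_odd.mpr hodd) (even_iff_two_dvd.mpr h2)
  have hinv : Function.Involutive φ := fun r => Subtype.ext (by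
    have hs' : s⁻¹ = s := inv_eq_of_mul_eq_one_left hs2
    change s * (s * (r : G) * s⁻¹) * s⁻¹ = r
    rw [hs']
    calc s * (s * (r : G) * s) * s = (s * s) * r * (s * s) := by group
      _ = r := by simp [hs2])
  intro r hr
  exact congrArg Subtype.val (congrFun (hfix.coe_eq_inv_of_involutive hinv) ⟨r, hr⟩)

/-- If `s` inverts `z`, some Sylow `p`-subgroup of the centraliser of `z` is inverted by `s`. -/
theorem exists_sylow_centralizer_inverted [hp : Fact p.Prime] (hC : OddCentralizers p G) {s : G}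
    (hs : orderOf s = 2) {z : G} (hz : z ≠ 1) (hzp : ∃ k : ℕ, orderOf z = p ^ k)
    (hinv : s * z * s⁻¹ = z⁻¹) :
    ∃ R : Subgroup G, IsPGroup p R ∧ z ∈ R ∧ R ≤ Subgroup.centralizer ({z} : Set G) ∧
      (∀ Q : Subgroup G, IsPGroup p Q → Q ≤ Subgroup.centralizer ({z} : Set G) → R ≤ Q → Q = R) ∧
      Nat.card R = p ^ (Nat.card (Subgroup.centralizer ({z} : Set G))).factorization p ∧
      ∀ r ∈ R, s * r * s⁻¹ = r⁻¹ := by
  set C := Subgroup.centralizer ({z} : Set G) with hCdef
  have hs2 : s * s = 1 := by rw [← pow_two, ← hs, pow_orderOf_eq_one]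
  have hs' : s⁻¹ = s := inv_eq_of_mul_eq_one_left hs2
  have hnormC : ∀ c ∈ C, s * c * s⁻¹ ∈ C := fun c hc => by
    rw [hCdef, Subgroup.mem_centralizer_singleton_iff] at hc ⊢
    have hz' : z = s * z⁻¹ * s⁻¹ := by
      conv_lhs => rw [← inv_inv z, ← hinv]
      group
    have hc' : c * z⁻¹ = z⁻¹ * c := (Commute.inv_right hc).eq
    calc s * c * s⁻¹ * z = s * (c * z⁻¹) * s⁻¹ := by
          conv_lhs => rw [hz']
          group
      _ = z * (s * c * s⁻¹) := by
          conv_rhs => rw [hz']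
          rw [hc']
          group
  have hinvo : ∀ c : G, s * (s * c * s⁻¹) * s⁻¹ = c := fun c => by
    rw [hs']
    calc s * (s * c * s) * s = (s * s) * c * (s * s) := by group
      _ = c := by simp [hs2]
  let φ : MulAut C :=
    { toFun := fun c => ⟨s * c * s⁻¹, hnormC c c.2⟩
      invFun := fun c => ⟨s * c * s⁻¹, hnormC c c.2⟩
      left_inv := fun c => Subtype.ext (hinvo c)
      right_inv := fun c => Subtype.ext (hinvo c)
      map_mul' := fun a b => Subtype.ext (by simp [mul_assoc]) }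
  have hφ : φ * φ = 1 := MulEquiv.ext fun c => Subtype.ext (hinvo c)
  obtain ⟨R, hRfix⟩ : ∃ R : Sylow p C, φ • R = R := by
    classical
    have := Fintype.ofFinite (Sylow p C)
    have hodd : ¬ 2 ∣ Fintype.card (Sylow p C) := fun h2 => by
      rw [← Nat.card_eq_fintype_card] at h2
      have h3 : 2 ∣ Nat.card C :=
        h2.trans ((Sylow.card_dvd_index (default : Sylow p C)).trans (Subgroup.index_dvd_card _))
      exact (Nat.not_even_iff_odd.mpr (hC z hz hzp)) (even_iff_two_dvd.mpr h3)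
    have := Fact.mk Nat.prime_two
    exact Equiv.Perm.exists_fixed_point_of_prime (n := 1) hodd
      (σ := MulAction.toPermHom (MulAut C) (Sylow p C) φ)
      (by rw [pow_one, ← map_pow, pow_two, hφ, map_one])
  have hmax : ∀ Q : Subgroup G, IsPGroup p Q → Q ≤ C →
      (R : Subgroup C).map C.subtype ≤ Q → Q = (R : Subgroup C).map C.subtype := by
    intro Q hQ hQC hRQ
    have h1 : Q.subgroupOf C = (R : Subgroup C) :=
      R.is_maximal' (hQ.comap_of_injective C.subtype C.subtype_injective)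
        (Subgroup.map_le_iff_le_comap.mp hRQ)
    rw [← h1, Subgroup.subgroupOf_map_subtype, inf_eq_left.mpr hQC]
  have hRC : (R : Subgroup C).map C.subtype ≤ C := Subgroup.map_subtype_le _
  refine ⟨(R : Subgroup C).map C.subtype, R.2.map _, ?_, hRC, hmax, ?_, ?_⟩
  · have hzC : Subgroup.zpowers z ≤ C := by
      rw [Subgroup.zpowers_le, hCdef]
      exact Subgroup.mem_centralizer_singleton_iff.mpr rfl
    have hzP : IsPGroup p (Subgroup.zpowers z) := by
      obtain ⟨k, hk⟩ := hzp
      exact IsPGroup.of_card (by rw [Nat.card_zpowers, hk])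
    have hnorm : Subgroup.zpowers z ≤
        Subgroup.normalizer (((R : Subgroup C).map C.subtype : Subgroup G) : Set G) := by
      refine le_trans ?_ (Subgroup.centralizer_le_normalizer _)
      rw [Subgroup.zpowers_le, Subgroup.mem_centralizer_iff]
      intro r hr
      exact Subgroup.mem_centralizer_singleton_iff.mp (hRC hr)
    have := hmax _ (((R.2.map _).to_sup_of_normal_left' hzP hnorm)) (sup_le hRC hzC) le_sup_left
    rw [← this]
    exact Subgroup.mem_sup_right (Subgroup.mem_zpowers z)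
  · rw [Subgroup.card_map_of_injective C.subtype_injective, R.card_eq_multiplicity]
  · refine inverts_of_normalizes hC hs (R.2.map _) ?_
    rintro _ ⟨r, hr, rfl⟩
    refine ⟨φ r, ?_, rfl⟩
    have hmem := Subgroup.smul_mem_pointwise_smul r φ _ hr
    rw [← Sylow.pointwise_smul_def, hRfix] at hmem
    exact hmem

/-- A conjugate of `s` inverts all of a given Sylow `p`-subgroup. -/
theorem exists_conj_inverts_sylow [hp : Fact p.Prime] (hC : OddCentralizers p G) {s : G}
    (hs : orderOf s = 2) {z : G} (hz : z ≠ 1) (hzp : ∃ k : ℕ, orderOf z = p ^ k)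
    (hinv : s * z * s⁻¹ = z⁻¹) (P : Sylow p G) :
    ∃ g : G, ∀ r ∈ P, (g * s * g⁻¹) * r * (g * s * g⁻¹)⁻¹ = r⁻¹ := by
  obtain ⟨R, hR, hzR, hRC, hRmax, -, hRinv⟩ :=
    exists_sylow_centralizer_inverted hC hs hz hzp hinv
  obtain ⟨P', hP'⟩ := hR.exists_le_sylow
  have : Nontrivial (P' : Subgroup G) :=
    (Subgroup.nontrivial_iff_exists_ne_one _).mpr ⟨z, hP' hzR, hz⟩
  have hcen : Nontrivial (Subgroup.center (P' : Subgroup G)) := P'.2.center_nontrivial
  obtain ⟨w, hw, hw1⟩ := (Subgroup.nontrivial_iff_exists_ne_one _).mp hcen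
  have hwcomm : ∀ r ∈ P', r * (w : G) = (w : G) * r := fun r hr =>
    congrArg Subtype.val (Subgroup.mem_center_iff.mp hw ⟨r, hr⟩)
  have hwz : Subgroup.zpowers (w : G) ≤ Subgroup.centralizer ({z} : Set G) :=
    Subgroup.zpowers_le.mpr
      (Subgroup.mem_centralizer_singleton_iff.mpr (hwcomm z (hP' hzR)).symm)
  have hnorm : Subgroup.zpowers (w : G) ≤ Subgroup.normalizer (R : Set G) := by
    refine le_trans ?_ (Subgroup.centralizer_le_normalizer _)
    rw [Subgroup.zpowers_le, Subgroup.mem_centralizer_iff]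
    exact fun r hr => hwcomm r (hP' hr)
  have hwR : (w : G) ∈ R := by
    have := hRmax _ (hR.to_sup_of_normal_left'
      (P'.2.to_le (Subgroup.zpowers_le.mpr w.2)) hnorm) (sup_le hRC hwz) le_sup_left
    rw [← this]
    exact Subgroup.mem_sup_right (Subgroup.mem_zpowers _)
  have hw1' : (w : G) ≠ 1 := fun h => hw1 (Subtype.ext h)
  obtain ⟨R₂, hR₂, -, -, -, hR₂card, hR₂inv⟩ := exists_sylow_centralizer_inverted hC hs hw1'
    (exists_pow_of_mem P'.2 w.2) (hRinv _ hwR)
  have hcard : Nat.card R₂ = p ^ (Nat.card G).factorization p := by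
    refine hR₂card.trans (congrArg (p ^ ·) (le_antisymm ?_ ?_))
    · exact (Nat.factorization_le_iff_dvd Nat.card_pos.ne' Nat.card_pos.ne').mpr
        (Subgroup.card_subgroup_dvd_card _) p
    · have hPC : (P' : Subgroup G) ≤ Subgroup.centralizer ({(w : G)} : Set G) := fun r hr =>
        Subgroup.mem_centralizer_singleton_iff.mpr (hwcomm r hr)
      have := (Nat.factorization_le_iff_dvd Nat.card_pos.ne' Nat.card_pos.ne').mpr
        (Subgroup.card_dvd_of_le hPC) p
      rwa [P'.card_eq_multiplicity, hp.out.factorization_pow, Finsupp.single_eq_same] at this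
  obtain ⟨g, hg⟩ := MulAction.exists_smul_eq G (Sylow.ofCard R₂ hcard) P
  refine ⟨g, fun r hr => ?_⟩
  rw [← hg] at hr
  obtain ⟨r₀, hr₀, rfl⟩ := hr
  have hr₀' : r₀ ∈ R₂ := hr₀
  calc g * s * g⁻¹ * (MulAut.conj g r₀) * (g * s * g⁻¹)⁻¹
      = g * (s * r₀ * s⁻¹) * g⁻¹ := by simp [mul_assoc]
    _ = (MulAut.conj g r₀)⁻¹ := by rw [hR₂inv r₀ hr₀']; simp [mul_assoc]

/-- Two involutions with product of odd order are conjugate. -/
theorem isConj_of_odd_mul {s t : G} (hs : s * s = 1) (ht : t * t = 1)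
    (hodd : Odd (orderOf (s * t))) : IsConj s t := by
  obtain ⟨k, hk⟩ := hodd
  set w := s * t
  have hinv : s * w * s⁻¹ = w⁻¹ := by
    simp only [w, mul_inv_rev, inv_eq_of_mul_eq_one_left hs, inv_eq_of_mul_eq_one_left ht]
    calc s * (s * t) * s = (s * s) * t * s := by group
      _ = t * s := by rw [hs, one_mul]
  refine isConj_iff.mpr ⟨w ^ k, ?_⟩
  have h1 : s * (w ^ k)⁻¹ * s⁻¹ = w ^ k := by
    rw [← MulAut.conj_apply, map_inv, map_pow, MulAut.conj_apply, hinv, inv_pow, inv_inv]
  have h2 : w ^ k * w ^ k * s = t := by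
    have h3 : w ^ k * w ^ k * w = 1 := by
      rw [← pow_add, ← pow_succ, ← two_mul, ← hk, pow_orderOf_eq_one]
    rw [eq_inv_of_mul_eq_one_left h3]
    simp only [w, mul_inv_rev, inv_eq_of_mul_eq_one_left hs, inv_eq_of_mul_eq_one_left ht]
    rw [mul_assoc, hs, mul_one]
  calc w ^ k * s * (w ^ k)⁻¹ = w ^ k * (s * (w ^ k)⁻¹ * s⁻¹) * s := by group
    _ = t := by rw [h1, h2]

end Cfsg.Agent.BC86
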