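import Cfsg.Agent.BlkChar.Coeff
import Cfsg.Agent.Blocks88.Basic
import Cfsg.Agent.Lib.BlocksDefect.Induced
import Cfsg.Agent.Lib.BlocksDefect.Central
import Cfsg.Agent.Lib.BlocksCore.PPart
import Cfsg.Agent.BC86.Core
import Cfsg.Prelude.Def_BlockRank
import Mathlib.LinearAlgebra.Trace

/-!
# Brauer's bound for blocks with all heights zero

For a `p`-element `y` with centralizer `H` and a block `b` of `H` inducing `B`, the contribution
matrix of the subsection `(y, b)` is idempotent of trace at most `l(b)`; scaled by the order of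
the defect group it has nonzero algebraic integer entries at height zero characters of `B`.
-/

open scoped ComplexConjugate

namespace Cfsg.Agent.BC86

open BlocksCore BlocksDefect BlkChar

variable {G : Type*} [Group G] [Finite G] {p : ℕ} [Fact p.Prime] {M : Ideal AlgInt}
  {H : Subgroup G} [Fintype H] {y : G}

/-- Elements of a centralizer with conjugate translates by a `p`-element `y`. -/
theorem card_translate (hH : ∀ g : G, g ∈ H ↔ g * y = y * g) (hy : ∃ k : ℕ, orderOf y = p ^ k)
    {x x' : H} (hx : ¬ p ∣ orderOf x) (hx' : ¬ p ∣ orderOf x') [DecidableEq H] :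
    ∑ χ : IrrCharacter G, (χ : G → ℂ) (y * x) * conj ((χ : G → ℂ) (y * x'))
      = ((Finset.univ.filter fun h : H => h * x * h⁻¹ = x').card : ℂ) := by
  have hpp : ∀ z : H, ¬ p ∣ orderOf z → IsPPart p (y * (z : G)) y := fun z hz =>
    ⟨(z : G), rfl, ((hH z).mp z.2).symm, hy, by rwa [Subgroup.orderOf_coe]⟩
  have hmem : ∀ {c : G}, c * (y * (x : G)) * c⁻¹ = y * (x' : G) → c ∈ H := by
    intro c hc
    have h1 := isPPart_conj (hpp x hx) c
    rw [hc] at h1
    have h2 := isPPart_unique (Fact.out : p.Prime) h1 (hpp x' hx')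
    exact (hH c).mpr (mul_inv_eq_iff_eq_mul.mp h2)
  have hiff : ∀ {h : H}, h * x * h⁻¹ = x' ↔ (h : G) * (y * x) * (h : G)⁻¹ = y * x' := by
    intro h
    have hcy := (hH h).mp h.2
    constructor
    · intro e
      rw [← e]
      push_cast
      simp only [← mul_assoc, hcy]
    · intro e
      refine Subtype.ext ?_
      push_cast
      have e' : y * ((h : G) * x * (h : G)⁻¹) = y * x' := by
        rw [← e]; simp only [← mul_assoc, hcy]
      exact mul_left_cancel e'
  rw [col_orth]
  split_ifs with hc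
  · obtain ⟨c, hc⟩ := isConj_iff.mp hc
    set a := y * (x : G) with ha
    congr 1
    rw [← Fintype.card_subtype, ← Nat.card_eq_fintype_card]
    refine Nat.card_congr
      { toFun := fun g => ⟨⟨c * g, hmem (by
          have := Subgroup.mem_centralizer_singleton_iff.mp g.2
          rw [show c * (g : G) * a * (c * (g : G))⁻¹ = c * ((g : G) * a * (g : G)⁻¹) * c⁻¹ by group,
            this, mul_inv_cancel_right, hc])⟩, ?_⟩
        invFun := fun h => ⟨c⁻¹ * (h.1 : G), Subgroup.mem_centralizer_singleton_iff.mpr ?_⟩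
        left_inv := fun g => Subtype.ext (inv_mul_cancel_left c g)
        right_inv := fun h => Subtype.ext (Subtype.ext (mul_inv_cancel_left c _)) }
    · rw [hiff]
      show c * (g : G) * a * (c * (g : G))⁻¹ = _
      have := Subgroup.mem_centralizer_singleton_iff.mp g.2
      rw [show c * (g : G) * a * (c * (g : G))⁻¹ = c * ((g : G) * a * (g : G)⁻¹) * c⁻¹ by group,
        this, mul_inv_cancel_right, hc]
    · have h2 := (hiff.mp h.2 : (h.1 : G) * a * (h.1 : G)⁻¹ = _)
      rw [← hc, mul_inv_eq_iff_eq_mul, mul_assoc c a c⁻¹] at h2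
      rw [mul_assoc c⁻¹, h2]
      group
  · rw [Finset.card_eq_zero.mpr, Nat.cast_zero]
    refine Finset.filter_eq_empty_iff.mpr fun h _ e => hc (isConj_iff.mpr ⟨h, ?_⟩)
    exact hiff.mp e

/-- The `θ`-coordinate of the section at `y` of `χ`. -/
noncomputable def sectionInner (p : ℕ) (y : G) (χ : G → ℂ) (θ : H → ℂ) : ℂ :=
  (Nat.card H : ℂ)⁻¹ * ∑ x : H, if p ∣ orderOf x then 0 else χ (y * (x : G)) * conj (θ x)

/-- The Cartan-inverse type coefficient on `p`-regular elements. -/
noncomputable def regInner (p : ℕ) [Fact p.Prime] (θ φ : IrrCharacter H) : ℂ :=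
  (coeff p θ φ : ℂ) / ((p ^ (Nat.card H).factorization p : ℕ) : ℂ)

theorem regInner_eq (θ φ : IrrCharacter H) :
    regInner p θ φ =
      (Nat.card H : ℂ)⁻¹ * ∑ x : H, if p ∣ orderOf x then 0 else (θ : H → ℂ) x * conj ((φ : H → ℂ) x) := by
  have h0 : ((p ^ (Nat.card H).factorization p : ℕ) : ℂ) ≠ 0 :=
    Nat.cast_ne_zero.mpr (pow_ne_zero _ (Fact.out : p.Prime).ne_zero)
  rw [regInner, ← coeff_spec, classInner, div_eq_iff h0, mul_assoc, Finset.sum_mul]
  congr 1
  refine Finset.sum_congr rfl fun x _ => ?_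
  simp only [regPart]
  split_ifs <;> ring

theorem regInner_symm (θ φ : IrrCharacter H) : regInner p θ φ = regInner p φ θ := by
  rw [regInner, regInner, coeff_symm]

theorem conj_regInner (θ φ : IrrCharacter H) : conj (regInner p θ φ) = regInner p θ φ := by
  simp [regInner]

theorem regInner_eq_zero (hM : IsPModular p M) {b : Set (IrrCharacter H)} (hb : IsPBlock M b)
    {θ φ : IrrCharacter H} (hθ : θ ∈ b) (hφ : φ ∉ b) : regInner p θ φ = 0 := by
  rw [regInner, coeff_eq_zero_of_notMem hM hb hθ hφ, Int.cast_zero, zero_div]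

/-- The regular pairing is idempotent. -/
theorem sum_regInner_mul (θ φ : IrrCharacter H) :
    ∑ ρ : IrrCharacter H, regInner p θ ρ * regInner p ρ φ = regInner p θ φ := by
  have h0 : ((p ^ (Nat.card H).factorization p : ℕ) : ℂ) ≠ 0 :=
    Nat.cast_ne_zero.mpr (pow_ne_zero _ (Fact.out : p.Prime).ne_zero)
  have h := CharCore.classInner_eq_sum (isClassFunction_regPart p θ) (isClassFunction_regPart p φ)
  have h2 : classInner (regPart p (θ : H → ℂ)) (regPart p (φ : H → ℂ)) =
      ((p ^ (Nat.card H).factorization p : ℕ) : ℂ) *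
        classInner (regPart p (θ : H → ℂ)) (φ : H → ℂ) := by
    simp only [classInner, Finset.mul_sum]
    refine Finset.sum_congr rfl fun x _ => ?_
    simp only [regPart]
    split_ifs
    · simp
    · rw [map_mul, Complex.conj_natCast]; ring
  simp only [h2, coeff_spec, map_intCast] at h
  simp only [regInner, div_mul_div_comm, ← Finset.sum_div]
  rw [show ∑ ρ, (coeff p θ ρ : ℂ) * (coeff p ρ φ : ℂ) = ∑ ρ, (coeff p θ ρ : ℂ) * (coeff p φ ρ : ℂ)
    from Finset.sum_congr rfl fun ρ _ => by rw [coeff_symm (p := p) ρ φ], ← h]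
  field_simp

/-- The frame identity of the sections at `y`. -/
theorem frame (hH : ∀ g : G, g ∈ H ↔ g * y = y * g) (hy : ∃ k : ℕ, orderOf y = p ^ k)
    (θ φ : IrrCharacter H) :
    ∑ χ : IrrCharacter G, sectionInner p y (χ : G → ℂ) (θ : H → ℂ) *
        conj (sectionInner p y (χ : G → ℂ) (φ : H → ℂ)) = regInner p φ θ := by
  classical
  rw [regInner_eq]
  set c : ℂ := (Nat.card H : ℂ)⁻¹ with hc
  have hcc : conj c = c := by simp [hc]
  have hterm : ∀ x x' : H,
      ∑ χ : IrrCharacter G,
        (if p ∣ orderOf x then 0 else (χ : G → ℂ) (y * (x : G)) * conj ((θ : H → ℂ) x)) *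
          conj (if p ∣ orderOf x' then 0 else (χ : G → ℂ) (y * (x' : G)) * conj ((φ : H → ℂ) x')) =
      if p ∣ orderOf x then 0 else conj ((θ : H → ℂ) x) *
        ∑ h : H, if h * x * h⁻¹ = x' then (φ : H → ℂ) x' else 0 := by
    intro x x'
    by_cases hx : p ∣ orderOf x
    · simp [hx]
    by_cases hx' : p ∣ orderOf x'
    · simp only [hx', hx, if_false, if_true, map_zero, mul_zero, Finset.sum_const_zero]
      rw [Finset.sum_eq_zero fun h _ => if_neg fun e => hx (by
        rw [← e, orderOf_conjugate] at hx'; exact hx'), mul_zero]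
    · simp only [hx, hx', if_false, map_mul, Complex.conj_conj]
      rw [← Finset.sum_filter, Finset.sum_const, nsmul_eq_mul, ← card_translate hH hy hx hx',
        Finset.sum_mul, Finset.mul_sum]
      exact Finset.sum_congr rfl fun χ _ => by ring
  calc ∑ χ : IrrCharacter G, sectionInner p y (χ : G → ℂ) (θ : H → ℂ) *
        conj (sectionInner p y (χ : G → ℂ) (φ : H → ℂ))
      = c * c * ∑ x : H, ∑ x' : H, ∑ χ : IrrCharacter G,
          (if p ∣ orderOf x then 0 else (χ : G → ℂ) (y * (x : G)) * conj ((θ : H → ℂ) x)) *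
          conj (if p ∣ orderOf x' then 0 else (χ : G → ℂ) (y * (x' : G)) * conj ((φ : H → ℂ) x')) := by
        simp only [sectionInner, ← hc, map_mul, map_sum, hcc]
        rw [Finset.mul_sum, Finset.sum_congr rfl fun χ _ => mul_mul_mul_comm c _ c _,
          ← Finset.mul_sum, ← Finset.mul_sum]
        congr 1
        simp only [Finset.sum_mul_sum]
        rw [Finset.sum_comm]
        exact Finset.sum_congr rfl fun x _ => Finset.sum_comm
    _ = c * c * ∑ x : H, (Nat.card H : ℂ) *
          (if p ∣ orderOf x then 0 else (φ : H → ℂ) x * conj ((θ : H → ℂ) x)) := by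
        congr 1
        refine Finset.sum_congr rfl fun x _ => ?_
        simp only [hterm]
        by_cases hx : p ∣ orderOf x
        · simp [hx]
        simp only [hx, if_false, ← Finset.mul_sum]
        rw [Finset.sum_comm]
        simp only [Finset.sum_ite_eq, Finset.mem_univ, if_true]
        rw [Finset.sum_congr rfl fun h _ => irr_class φ x h, Finset.sum_const, Finset.card_univ,
          nsmul_eq_mul, Nat.card_eq_fintype_card]
        ring
    _ = _ := by
        rw [← Finset.mul_sum, ← mul_assoc, mul_assoc c c, hc,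
          inv_mul_cancel₀ (Nat.cast_ne_zero.mpr Nat.card_pos.ne'), mul_one]

/-- Multiplicity of `θ` in the restriction of `χ`. -/
noncomputable def resMult (χ : IrrCharacter G) (θ : IrrCharacter H) : ℕ :=
  (CharCore.IsCharacter.exists_classInner_irr_eq_natCast
    (CharCore.isCharacter_restrict (CharCore.irr_isCharacter χ) H) θ).choose

theorem resMult_spec (χ : IrrCharacter G) (θ : IrrCharacter H) :
    classInner (fun h : H => (χ : G → ℂ) h) (θ : H → ℂ) = (resMult χ θ : ℂ) :=
  (CharCore.IsCharacter.exists_classInner_irr_eq_natCast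
    (CharCore.isCharacter_restrict (CharCore.irr_isCharacter χ) H) θ).choose_spec

theorem sectionInner_eq (yH : H) (hyH : (yH : G) = y) (hyc : yH ∈ Subgroup.center H)
    (χ : IrrCharacter G) (θ : IrrCharacter H) :
    sectionInner p y (χ : G → ℂ) (θ : H → ℂ) =
      ∑ φ : IrrCharacter H, (resMult χ φ : ℂ) * cval φ yH * regInner p φ θ := by
  have hres : ∀ x : H, (χ : G → ℂ) (y * (x : G)) =
      ∑ φ : IrrCharacter H, (resMult χ φ : ℂ) * cval φ yH * (φ : H → ℂ) x := by
    intro x
    have h := congrFun (CharCore.IsCharacter.eq_sum_classInner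
      (CharCore.isCharacter_restrict (CharCore.irr_isCharacter χ) H)) (x * yH)
    rw [Subgroup.coe_mul, hyH] at h
    have hcm : (x : G) * y = y * (x : G) := by
      rw [← hyH]; exact congrArg Subtype.val (Subgroup.mem_center_iff.mp hyc x)
    rw [← hcm, h, Finset.sum_apply]
    refine Finset.sum_congr rfl fun φ _ => ?_
    rw [Pi.smul_apply, smul_eq_mul, resMult_spec, apply_mul_of_center φ hyc, mul_assoc]
  simp only [sectionInner, regInner_eq, Finset.mul_sum]
  rw [Finset.sum_comm (s := Finset.univ (α := IrrCharacter H))]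
  refine Finset.sum_congr rfl fun x _ => ?_
  by_cases hx : p ∣ orderOf x
  · simp [hx]
  simp only [hx, if_false, hres, Finset.sum_mul, Finset.mul_sum]
  exact Finset.sum_congr rfl fun φ _ => by ring

open scoped Classical in
/-- The trace of the regular pairing on a block is its `p`-regular rank. -/
theorem sum_regInner_self (hM : IsPModular p M) {b : Set (IrrCharacter H)} (hb : IsPBlock M b) :
    ∑ θ ∈ Finset.univ.filter (· ∈ b), regInner p θ θ = (blockRank p b : ℂ) := by
  have h0 : ((p ^ (Nat.card H).factorization p : ℕ) : ℂ) ≠ 0 :=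
    Nat.cast_ne_zero.mpr (pow_ne_zero _ (Fact.out : p.Prime).ne_zero)
  let A : Matrix b b ℂ := fun i j => regInner p (i : IrrCharacter H) (j : IrrCharacter H)
  have hA : A * A = A := by
    ext i j
    rw [Matrix.mul_apply]
    show _ = regInner p (i : IrrCharacter H) (j : IrrCharacter H)
    rw [← sum_regInner_mul (p := p) (i : IrrCharacter H) j]
    rw [← Finset.sum_subset (Finset.subset_univ (Finset.univ.filter (· ∈ b))) fun ρ _ hρ => by
      rw [regInner_eq_zero hM hb i.2 (fun h => hρ (Finset.mem_filter.mpr ⟨Finset.mem_univ _, h⟩)),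
        zero_mul]]
    exact (Finset.sum_subtype _ (fun ρ => by simp)
      (fun ρ => regInner p (i : IrrCharacter H) ρ * regInner p ρ (j : IrrCharacter H))).symm
  set f := Matrix.toLin' A with hf
  have hff : f ∘ₗ f = f := by rw [hf, ← Matrix.toLin'_mul, hA]
  have hproj : LinearMap.IsProj (LinearMap.range f) f :=
    ⟨fun v => LinearMap.mem_range_self f v, by
      rintro v ⟨w, rfl⟩; exact LinearMap.congr_fun hff w⟩
  have htr := hproj.trace
  rw [hf, Matrix.trace_toLin'_eq, ← hf] at htr
  rw [Finset.sum_subtype _ (p := (· ∈ b)) (fun ρ => by simp)]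
  rw [show ∑ θ : b, regInner p (θ : IrrCharacter H) θ = A.trace from rfl, htr]
  congr 1
  set L := Fintype.linearCombination ℂ fun θ : b => ((θ : IrrCharacter H) : H → ℂ) with hL
  have hinj : Function.Injective L :=
    linearIndependent_iff_injective_fintypeLinearCombination.mp
      (CharCore.linearIndependent_irr.comp _ Subtype.val_injective)
  have hrange : (LinearMap.range f).map L =
      Submodule.span ℂ ((fun χ : IrrCharacter H => pRegularPart p (χ : H → ℂ)) '' b) := by
    have hcol : ∀ θ : b, L (f (Pi.single θ 1)) = pRegularPart p ((θ : IrrCharacter H) : H → ℂ) := by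
      intro θ
      funext x
      rw [hf, Matrix.toLin'_apply, Matrix.mulVec_single_one, hL, Fintype.linearCombination_apply,
        Finset.sum_apply]
      have h := congrFun (regPart_eq_sum (p := p) (θ : IrrCharacter H)) x
      rw [Finset.sum_apply, ← Finset.sum_subset (Finset.subset_univ (Finset.univ.filter (· ∈ b)))
        fun ρ _ hρ => by
          rw [coeff_eq_zero_of_notMem hM hb θ.2
            (fun h => hρ (Finset.mem_filter.mpr ⟨Finset.mem_univ _, h⟩))]
          simp,
        Finset.sum_subtype _ (p := (· ∈ b)) (fun ρ => by simp)] at h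
      calc ∑ ρ : b, ((A.col θ) ρ • ((ρ : IrrCharacter H) : H → ℂ)) x
          = (∑ ρ : b, ((coeff p (θ : IrrCharacter H) ρ : ℂ) • ((ρ : IrrCharacter H) : H → ℂ)) x) /
              ((p ^ (Nat.card H).factorization p : ℕ) : ℂ) := by
            rw [Finset.sum_div]
            refine Finset.sum_congr rfl fun ρ _ => ?_
            show regInner p (ρ : IrrCharacter H) θ * _ = _
            rw [regInner_symm, regInner, Pi.smul_apply, smul_eq_mul]
            ring
        _ = _ := by
            rw [← h]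
            by_cases hd : p ∣ orderOf x
            · simp [regPart, pRegularPart, IsPRegular, hd]
            · simp only [regPart, pRegularPart, IsPRegular, hd, if_false, not_false_eq_true, if_true]
              exact mul_div_cancel_left₀ _ h0
    rw [LinearMap.range_eq_map, ← Submodule.map_comp, ← (Pi.basisFun ℂ b).span_eq,
      Submodule.map_span]
    congr 1
    rw [← Set.range_comp, Set.image_eq_range]
    congr 1
    funext θ
    show L (f (Pi.basisFun ℂ b θ)) = _
    rw [Pi.basisFun_apply]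
    exact hcol θ
  rw [(Submodule.equivMapOfInjective L hinj (LinearMap.range f)).finrank_eq, hrange]
  rfl

open scoped Classical in
/-- The bilinear form giving the scaled contributions, as a function of the values at `y`. -/
noncomputable def contribForm (b : Set (IrrCharacter H)) (z : IrrCharacter H → IrrCharacter H → ℤ)
    (v : IrrCharacter H → ℂ) (i : IrrCharacter G × IrrCharacter G) : ℂ :=
  ∑ θ ∈ Finset.univ.filter (· ∈ b), ∑ φ ∈ Finset.univ.filter (· ∈ b),
    ((resMult i.1 θ : ℂ) * v θ) * (z θ φ : ℂ) * ((resMult i.2 φ : ℂ) * conj (v φ))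

theorem map_contribForm (b : Set (IrrCharacter H)) (z : IrrCharacter H → IrrCharacter H → ℤ)
    {v : IrrCharacter H → ℂ} (σ : ℂ →+* ℂ) (hσ : ∀ θ, σ (conj (v θ)) = conj (σ (v θ)))
    (i : IrrCharacter G × IrrCharacter G) :
    σ (contribForm b z v i) = contribForm b z (fun θ => σ (v θ)) i ∧
      σ (conj (contribForm b z v i)) = conj (contribForm b z (fun θ => σ (v θ)) i) := by
  constructor
  · simp only [contribForm, map_sum, map_mul, map_natCast, map_intCast, hσ]
  · simp only [contribForm, map_sum, map_mul, map_natCast, map_intCast, Complex.conj_conj, hσ]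

/-- Brauer's bound. -/
theorem card_sq_le (hM : IsPModular p M) (hH : ∀ g : G, g ∈ H ↔ g * y = y * g)
    (hy : ∃ k : ℕ, orderOf y = p ^ k) {B : Set (IrrCharacter G)}
    (hh : ∀ χ ∈ B, blockHeight p B (χ : G → ℂ) = 0) {b : Set (IrrCharacter H)}
    (hind : IsInducedBlock M H b B) :
    Nat.card B ^ 2 ≤ p ^ (2 * blockDefect p b) * blockRank p b := by
  classical
  have hp : p.Prime := Fact.out
  have := isPrime hM
  have := Fintype.ofFinite G
  obtain ⟨hb, hB⟩ := isPBlock_of_induced hind
  obtain ⟨k, hk⟩ := hy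
  set yH : H := ⟨y, (hH y).mpr rfl⟩ with hyH
  have hyc : yH ∈ Subgroup.center H :=
    Subgroup.mem_center_iff.mpr fun g => Subtype.ext ((hH g).mp g.2)
  set ε : IrrCharacter H → ℂ := fun θ => cval θ yH with hε
  have hεk : ∀ θ, ε θ ^ p ^ k = 1 := fun θ => by
    show cval θ yH ^ p ^ k = 1
    rw [← cval_pow θ hyc, show yH ^ p ^ k = 1 from Subtype.ext (by
      simp [hyH, ← hk, pow_orderOf_eq_one]), cval_one]
  have hpk : p ^ k ≠ 0 := pow_ne_zero _ hp.ne_zero
  have hunit : ∀ w : ℂ, w ^ p ^ k = 1 → conj w = w⁻¹ := fun w hw =>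
    (Complex.inv_eq_conj (Complex.norm_eq_one_of_pow_eq_one hw hpk)).symm
  have hroot : ∀ (σ : ℂ →+* ℂ) θ, σ (conj (ε θ)) = conj (σ (ε θ)) := fun σ θ => by
    rw [hunit _ (hεk θ), hunit _ (by rw [← map_pow, hεk, map_one]), map_inv₀]
  -- degrees
  set T : Finset (IrrCharacter H) := Finset.univ.filter (· ∈ b) with hT
  have hmem : ∀ {θ}, θ ∈ T ↔ θ ∈ b := fun {θ} => by simp [hT]
  set a := (Nat.card H).factorization p with ha
  set e := sInf ((fun θ : IrrCharacter H => (charDegree (θ : H → ℂ)).factorization p) '' b) with he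
  obtain ⟨θ₀, hθ₀, hθ₀h⟩ := exists_height_zero hM hb
  have he0 : (charDegree (θ₀ : H → ℂ)).factorization p = e := factorization_eq_sInf hθ₀ hθ₀h
  have hea : e ≤ a := he0 ▸ factorization_degree_le θ₀
  set d := blockDefect p b with hd
  have hpa : p ^ a = p ^ e * p ^ d := by
    rw [← pow_add]; congr 1; rw [hd, blockDefect]; omega
  -- integral contributions in the centraliser
  set z : IrrCharacter H → IrrCharacter H → ℤ := fun θ φ => coeff p θ φ / ((p ^ e : ℕ) : ℤ) with hz
  have hzc : ∀ θ ∈ b, ∀ φ, coeff p θ φ = ((p ^ e : ℕ) : ℤ) * z θ φ := fun θ hθ φ =>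
    (Int.mul_ediv_cancel' ((Int.natCast_dvd_natCast.mpr
      (pow_dvd_pow p (sInf_le_factorization hθ))).trans (dvd_coeff_left hM θ φ))).symm
  have hpe0 : ((p ^ e : ℕ) : ℂ) ≠ 0 := Nat.cast_ne_zero.mpr (pow_ne_zero _ hp.ne_zero)
  have hpd0 : ((p ^ d : ℕ) : ℂ) ≠ 0 := Nat.cast_ne_zero.mpr (pow_ne_zero _ hp.ne_zero)
  have hzA : ∀ θ ∈ b, ∀ φ, (z θ φ : ℂ) = ((p ^ d : ℕ) : ℂ) * regInner p θ φ := by
    intro θ hθ φ
    rw [regInner, hzc θ hθ φ, ← ha, hpa, Int.cast_mul, Int.cast_natCast,
      Nat.cast_mul (α := ℂ)]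
    field_simp
  have hA0 : ∀ θ ∈ b, ∀ φ, φ ∉ b → regInner p φ θ = 0 := fun θ hθ φ hφ => by
    rw [regInner_symm]; exact regInner_eq_zero hM hb hθ hφ
  set u : IrrCharacter G → IrrCharacter H → ℂ :=
    fun χ θ => sectionInner p y (χ : G → ℂ) (θ : H → ℂ) with hu
  have hu' : ∀ χ, ∀ θ ∈ b, u χ θ = ∑ φ ∈ T, (resMult χ φ : ℂ) * ε φ * regInner p φ θ := by
    intro χ θ hθ
    rw [hu]
    refine (sectionInner_eq yH rfl hyc χ θ).trans (Finset.sum_subset (Finset.subset_univ T) ?_).symm
    intro φ _ hφ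
    rw [hA0 θ hθ φ fun h => hφ (hmem.mpr h), mul_zero]
  set w : IrrCharacter G → IrrCharacter H → ℂ :=
    fun ψ φ => (resMult ψ φ : ℂ) * conj (ε φ) with hw
  have hF : ∀ χ ψ, contribForm b z ε (χ, ψ) = ((p ^ d : ℕ) : ℂ) * ∑ φ ∈ T, u χ φ * w ψ φ := by
    intro χ ψ
    rw [contribForm, Finset.sum_comm, Finset.mul_sum]
    refine Finset.sum_congr rfl fun φ hφ => ?_
    rw [hu' χ φ (hmem.mp hφ), Finset.sum_mul, Finset.mul_sum]
    refine Finset.sum_congr rfl fun θ hθ => ?_
    rw [hzA θ (hmem.mp hθ) φ]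
    simp only [hw]
    ring
  -- the trace identity
  have htrace : ∑ i : IrrCharacter G × IrrCharacter G,
      contribForm b z ε i * conj (contribForm b z ε i) =
        ((p ^ (2 * d) * blockRank p b : ℕ) : ℂ) := by
    calc ∑ i : IrrCharacter G × IrrCharacter G,
        contribForm b z ε i * conj (contribForm b z ε i)
        = ((p ^ d : ℕ) : ℂ) ^ 2 * ∑ ψ : IrrCharacter G, ∑ φ ∈ T, ∑ φ' ∈ T,
            w ψ φ * conj (w ψ φ') * ∑ χ : IrrCharacter G, u χ φ * conj (u χ φ') := by
          rw [Fintype.sum_prod_type, Finset.sum_comm, Finset.mul_sum]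
          refine Finset.sum_congr rfl fun ψ _ => ?_
          simp only [hF, map_mul, map_natCast, map_sum, Finset.mul_sum, Finset.sum_mul]
          rw [Finset.sum_comm]
          conv_lhs => enter [2, φ']; rw [Finset.sum_comm]
          rw [Finset.sum_comm]
          exact Finset.sum_congr rfl fun φ _ => Finset.sum_congr rfl fun φ' _ =>
            Finset.sum_congr rfl fun χ _ => by ring
      _ = ((p ^ d : ℕ) : ℂ) ^ 2 * ∑ ψ : IrrCharacter G, ∑ φ ∈ T, w ψ φ * u ψ φ := by
          congr 1
          refine Finset.sum_congr rfl fun ψ _ => Finset.sum_congr rfl fun φ hφ => ?_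
          rw [hu' ψ φ (hmem.mp hφ), Finset.mul_sum]
          refine Finset.sum_congr rfl fun φ' _ => ?_
          simp only [hu]
          rw [frame hH ⟨k, hk⟩ φ φ']
          simp only [hw, map_mul, map_natCast, Complex.conj_conj]
          ring
      _ = ((p ^ d : ℕ) : ℂ) ^ 2 * ∑ φ ∈ T, regInner p φ φ := by
          congr 1
          calc ∑ ψ : IrrCharacter G, ∑ φ ∈ T, w ψ φ * u ψ φ
              = ∑ ψ : IrrCharacter G, ∑ ρ ∈ T, u ψ ρ * conj (u ψ ρ) := by
                refine Finset.sum_congr rfl fun ψ _ => ?_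
                have hsplit : ∀ φ ∈ T, u ψ φ = ∑ ρ ∈ T, u ψ ρ * regInner p ρ φ := by
                  intro φ hφ
                  rw [Finset.sum_congr rfl fun ρ hρ => by rw [hu' ψ ρ (hmem.mp hρ), Finset.sum_mul],
                    hu' ψ φ (hmem.mp hφ), Finset.sum_comm]
                  refine Finset.sum_congr rfl fun θ _ => ?_
                  simp only [mul_assoc, ← Finset.mul_sum]
                  rw [← sum_regInner_mul θ φ]
                  congr 2
                  exact (Finset.sum_subset (Finset.subset_univ T) fun ρ _ hρ => by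
                    rw [hA0 φ (hmem.mp hφ) ρ fun h => hρ (hmem.mpr h), mul_zero]).symm
                rw [Finset.sum_congr rfl fun φ hφ => by rw [hsplit φ hφ, Finset.mul_sum],
                  Finset.sum_comm]
                refine Finset.sum_congr rfl fun ρ hρ => ?_
                rw [hu' ψ ρ (hmem.mp hρ), map_sum, Finset.mul_sum]
                refine Finset.sum_congr rfl fun φ _ => ?_
                simp only [hw, map_mul, map_natCast, conj_regInner, regInner_symm (p := p) φ ρ,
                  ← hu' ψ ρ (hmem.mp hρ)]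
                ring
            _ = _ := by
                rw [Finset.sum_comm]
                exact Finset.sum_congr rfl fun ρ _ => frame hH ⟨k, hk⟩ ρ ρ
      _ = _ := by
          rw [sum_regInner_self hM hb]
          push_cast
          ring
  -- congruence of the entries
  set s := ordCompl[p] (Nat.card H) with hs
  have hzs : ∀ θ ∈ b, ∀ φ, (z θ φ : ℂ) * (s : ℂ) =
      ((charDegree (θ : H → ℂ) / p ^ e : ℕ) : ℂ) * regPair p (θ : H → ℂ) φ := by
    intro θ hθ φ
    have h := classInner_regPart_mul (p := p) φ θ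
    rw [coeff_spec, coeff_symm, hzc θ hθ φ, ← hs, Int.cast_mul, Int.cast_natCast,
      ← Nat.mul_div_cancel' ((pow_dvd_pow p (sInf_le_factorization hθ)).trans
        (Nat.ordProj_dvd (charDegree (θ : H → ℂ)) p)), ← he,
      Nat.cast_mul (α := ℂ), mul_assoc, mul_assoc] at h
    exact mul_left_cancel₀ hpe0 h
  have hδ₀ : ¬ MemLocalIdeal M ((charDegree (θ₀ : H → ℂ) / p ^ e : ℕ) : ℂ) := by
    rw [memLocalIdeal_natCast_iff hM, ← he0]
    exact Nat.not_dvd_ordCompl hp (charDegree_pos θ₀).ne'
  have hsu : ¬ MemLocalIdeal M (s : ℂ) := by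
    rw [memLocalIdeal_natCast_iff hM]
    exact Nat.not_dvd_ordCompl hp Nat.card_pos.ne'
  set z₀ := z θ₀ θ₀ with hz₀
  have hz₀u : ¬ (p : ℤ) ∣ z₀ := by
    intro hdvd
    have h := hzs θ₀ hθ₀ θ₀
    have h1 : MemLocalIdeal M ((z₀ : ℂ) * (s : ℂ)) := memLocalIdeal_mul_right
      ((memLocalIdeal_intCast_iff hM z₀).mpr hdvd) (memLocalRing_natCast s)
    rw [hz₀, h] at h1
    rcases memLocalIdeal_mem_or_mem (memLocalRing_natCast _) (regPair_memLocalRing θ₀ θ₀) h1 with
      h2 | h2
    · exact hδ₀ h2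
    · exact (regPair_unit_iff hM hb hθ₀ hθ₀).mpr hθ₀h h2
  have hrank1 : ∀ θ ∈ b, ∀ φ, (p : ℤ) ∣ z θ φ * z₀ - z θ θ₀ * z θ₀ φ := by
    intro θ hθ φ
    have key : MemLocalIdeal M
        (((z θ φ * z₀ - z θ θ₀ * z θ₀ φ : ℤ) : ℂ) * ((s : ℂ) * (s : ℂ))) := by
      set δ : ℕ := charDegree (θ : H → ℂ) / p ^ e
      set δ₀ : ℕ := charDegree (θ₀ : H → ℂ) / p ^ e
      have e1 : ((z θ φ * z₀ - z θ θ₀ * z θ₀ φ : ℤ) : ℂ) * ((s : ℂ) * (s : ℂ)) =
          (δ : ℂ) * (δ₀ : ℂ) * ((regPair p (θ : H → ℂ) φ - regPair p (θ₀ : H → ℂ) φ) *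
              regPair p (θ₀ : H → ℂ) θ₀ + (regPair p (θ₀ : H → ℂ) θ₀ - regPair p (θ : H → ℂ) θ₀) *
              regPair p (θ₀ : H → ℂ) φ) := by
        calc _ = ((z θ φ : ℂ) * s) * ((z₀ : ℂ) * s) - ((z θ θ₀ : ℂ) * s) * ((z θ₀ φ : ℂ) * s) := by
              push_cast; ring
          _ = _ := by rw [hz₀, hzs θ hθ φ, hzs θ₀ hθ₀ θ₀, hzs θ hθ θ₀, hzs θ₀ hθ₀ φ]; ring
      rw [e1]
      exact memLocalIdeal_mul_left ((localRing M).mul_mem (memLocalRing_natCast _)
        (memLocalRing_natCast _)) (memLocalIdeal_add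
          (memLocalIdeal_mul_right (regPair_congr hM hb hθ hθ₀ φ) (regPair_memLocalRing θ₀ θ₀))
          (memLocalIdeal_mul_right (regPair_congr hM hb hθ₀ hθ θ₀) (regPair_memLocalRing θ₀ φ)))
    rcases memLocalIdeal_mem_or_mem (memLocalRing_intCast _)
      ((localRing M).mul_mem (memLocalRing_natCast _) (memLocalRing_natCast _)) key with h | h
    · exact (memLocalIdeal_intCast_iff hM _).mp h
    · exact absurd ((memLocalIdeal_mem_or_mem (memLocalRing_natCast _) (memLocalRing_natCast _)
        h).elim id id) hsu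
  set S : IrrCharacter G → ℤ := fun χ => ∑ θ ∈ T, (resMult χ θ : ℤ) * z θ₀ θ with hS
  have hSu : ∀ χ ∈ B, ¬ (p : ℤ) ∣ S χ := by
    intro χ hχ hdvd
    have h1 : MemLocalIdeal M ((S χ : ℂ) * (s : ℂ)) := memLocalIdeal_mul_right
      ((memLocalIdeal_intCast_iff hM _).mpr hdvd) (memLocalRing_natCast s)
    set δ₀ : ℕ := charDegree (θ₀ : H → ℂ) / p ^ e
    have e1 : (S χ : ℂ) * (s : ℂ) =
        (δ₀ : ℂ) * omega (θ₀ : H → ℂ) (res H (regInv p (χ : G → ℂ))) := by
      rw [regPair_res_eq_sum, ← Finset.sum_subset (Finset.subset_univ T) fun θ _ hθ => by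
        rw [regPair_eq_zero hM (fun h => hθ (hmem.mpr (isPBlock_eq_blockOf hb hθ₀ ▸ h))), mul_zero]]
      rw [hS, Int.cast_sum, Finset.sum_mul, Finset.mul_sum]
      refine Finset.sum_congr rfl fun θ _ => ?_
      rw [resMult_spec, Int.cast_mul, Int.cast_natCast, mul_assoc, hzs θ₀ hθ₀ θ]
      ring
    rw [e1] at h1
    rcases memLocalIdeal_mem_or_mem (memLocalRing_natCast _)
      (omega_memLocalRing θ₀ (isIntClassFun_res H (isIntClassFun_regInv χ))) h1 with h2 | h2
    · exact hδ₀ h2
    · refine (regPair_unit_iff hM hB hχ hχ).mpr (hh χ hχ) ?_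
      simpa [regPair] using
        memLocalIdeal_sub h2 (omega_induced hM hind hθ₀ hχ (isIntClassFun_regInv (p := p) χ))
  have hne : ∀ i : IrrCharacter G × IrrCharacter G, i.1 ∈ B → i.2 ∈ B →
      contribForm b z ε i ≠ 0 := by
    rintro ⟨χ, ψ⟩ hχ hψ h0
    set Z : ℤ := ∑ θ ∈ T, ∑ φ ∈ T, (resMult χ θ : ℤ) * z θ φ * (resMult ψ φ : ℤ) with hZ
    have hcong : MemLocalIdeal M (contribForm b z ε (χ, ψ) - (Z : ℂ)) := by
      rw [contribForm, hZ, Int.cast_sum, ← Finset.sum_sub_distrib]
      refine memLocalIdeal_sum fun θ _ => ?_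
      rw [Int.cast_sum, ← Finset.sum_sub_distrib]
      refine memLocalIdeal_sum fun φ _ => ?_
      have e1 : (resMult χ θ : ℂ) * ε θ * (z θ φ : ℂ) * ((resMult ψ φ : ℂ) * conj (ε φ)) -
          (((resMult χ θ : ℤ) * z θ φ * (resMult ψ φ : ℤ) : ℤ) : ℂ) =
          (((resMult χ θ : ℤ) * z θ φ * (resMult ψ φ : ℤ) : ℤ) : ℂ) * (ε θ * conj (ε φ) - 1) := by
        push_cast; ring
      rw [e1]
      exact memLocalIdeal_mul_left (memLocalRing_intCast _)
        (memLocalIdeal_sub_one_of_pow hM (k := k) (by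
          rw [mul_pow, ← map_pow, hεk, hεk, map_one, mul_one]))
    rw [h0, zero_sub] at hcong
    have hZd : (p : ℤ) ∣ Z := (memLocalIdeal_intCast_iff hM Z).mp
      (by simpa using memLocalIdeal_neg hcong)
    have hdiff : (p : ℤ) ∣ Z * z₀ - S χ * S ψ := by
      rw [hS, hZ, Finset.sum_mul, Finset.sum_mul, ← Finset.sum_sub_distrib]
      refine Finset.dvd_sum fun θ hθ => ?_
      rw [Finset.sum_mul, Finset.mul_sum, ← Finset.sum_sub_distrib]
      refine Finset.dvd_sum fun φ _ => ?_
      have hsym : z θ θ₀ = z θ₀ θ := by simp only [hz, coeff_symm (p := p) θ θ₀]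
      have := (hrank1 θ (hmem.mp hθ) φ).mul_left ((resMult χ θ : ℤ) * (resMult ψ φ : ℤ))
      rw [hsym] at this
      convert this using 1
      ring
    have h2 : (p : ℤ) ∣ S χ * S ψ := by simpa using dvd_sub (hZd.mul_right z₀) hdiff
    rcases (Nat.prime_iff_prime_int.mp hp).dvd_or_dvd h2 with h3 | h3
    exacts [hSu χ hχ h3, hSu ψ hψ h3]
  -- averaging over the Galois orbit
  set I : Finset (IrrCharacter G × IrrCharacter G) :=
    (Finset.univ.filter (· ∈ B)) ×ˢ (Finset.univ.filter (· ∈ B)) with hI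
  have hfin : (Set.range fun σ : ℂ →+* ℂ => fun θ => σ (ε θ)).Finite := by
    refine (Set.Finite.pi' fun _ : IrrCharacter H =>
      (Polynomial.nthRootsFinset (p ^ k) (1 : ℂ)).finite_toSet).subset ?_
    rintro _ ⟨σ, rfl⟩ θ
    rw [Finset.mem_coe, Polynomial.mem_nthRootsFinset (pow_pos hp.pos k), ← map_pow, hεk, map_one]
  set 𝒯 := hfin.toFinset with h𝒯
  have h𝒯1 : 1 ≤ 𝒯.card := Finset.card_pos.mpr
    ⟨fun θ => RingHom.id ℂ (ε θ), hfin.mem_toFinset.mpr ⟨RingHom.id ℂ, rfl⟩⟩
  set f : (IrrCharacter H → ℂ) × (IrrCharacter G × IrrCharacter G) → ℂ := fun q =>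
    contribForm b z q.1 q.2 * conj (contribForm b z q.1 q.2) with hf
  have hσconj : ∀ (σ : ℂ →+* ℂ) t, t ∈ 𝒯 → ∀ θ, σ (conj (t θ)) = conj (σ (t θ)) := by
    intro σ t ht θ
    obtain ⟨τ, rfl⟩ := hfin.mem_toFinset.mp ht
    show σ (conj (τ (ε θ))) = _
    rw [← hroot τ θ]
    exact hroot (σ.comp τ) θ
  have hεint : ∀ θ, IsIntegral ℤ (ε θ) := fun θ =>
    IsIntegral.of_pow (pow_pos hp.pos k) (by rw [hεk θ]; exact isIntegral_one)
  have h1 := Blocks88.card_le_sum_norm (𝒯 ×ˢ I) f (fun q hq => ?_) (fun q hq => ?_) fun σ => ?_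
  · have hsum : ∀ t ∈ 𝒯, ∑ i ∈ I, ‖f (t, i)‖ ≤ ((p ^ (2 * d) * blockRank p b : ℕ) : ℝ) := by
      intro t ht
      obtain ⟨σ, rfl⟩ := hfin.mem_toFinset.mp ht
      have h2 := congrArg σ htrace
      simp only [map_sum, map_mul, map_natCast, fun i => (map_contribForm b z σ (hroot σ) i).1,
        fun i => (map_contribForm b z σ (hroot σ) i).2] at h2
      refine (Finset.sum_le_sum_of_subset_of_nonneg (Finset.subset_univ I)
        fun i _ _ => norm_nonneg _).trans (le_of_eq ?_)
      simp only [Complex.mul_conj] at h2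
      rw [← Complex.ofReal_sum] at h2
      calc ∑ i, ‖f (fun θ => σ (ε θ), i)‖
          = ∑ i, Complex.normSq (contribForm b z (fun θ => σ (ε θ)) i) := by
            simp only [hf, norm_mul, Complex.norm_conj, Complex.normSq_eq_norm_sq, sq]
        _ = _ := by exact_mod_cast h2
    rw [Finset.card_product, Finset.sum_product] at h1
    have h3 := h1.trans (Finset.sum_le_sum hsum)
    rw [Finset.sum_const, nsmul_eq_mul, ← Nat.cast_mul, Nat.cast_le] at h3
    have hcardI : I.card = Nat.card B ^ 2 := by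
      rw [hI, Finset.card_product, sq, Nat.card_eq_fintype_card, ← Fintype.card_subtype]
    rw [← hcardI]
    exact Nat.le_of_mul_le_mul_left h3 h𝒯1
  · obtain ⟨t, i⟩ := q
    obtain ⟨σ, rfl⟩ := hfin.mem_toFinset.mp (Finset.mem_product.mp hq).1
    have hiF : IsIntegral ℤ (contribForm b z ε i) := IsIntegral.sum _ fun θ _ =>
      IsIntegral.sum _ fun φ _ => (((isIntegral_natCast _).mul (hεint θ)).mul
        (isIntegral_intCast _)).mul ((isIntegral_natCast _).mul
          ((hεint φ).map (starRingEnd ℂ).toIntAlgHom))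
    have hiC : IsIntegral ℤ (conj (contribForm b z ε i)) :=
      hiF.map (starRingEnd ℂ).toIntAlgHom
    show IsIntegral ℤ (_ * conj _)
    rw [← (map_contribForm b z σ (hroot σ) i).1]
    refine (hiF.map σ.toIntAlgHom).mul ?_
    rw [show conj (σ (contribForm b z ε i)) = σ (conj (contribForm b z ε i)) by
      rw [(map_contribForm b z σ (hroot σ) i).1, (map_contribForm b z σ (hroot σ) i).2]]
    exact hiC.map σ.toIntAlgHom
  · obtain ⟨t, i⟩ := q
    obtain ⟨σ, rfl⟩ := hfin.mem_toFinset.mp (Finset.mem_product.mp hq).1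
    have hi := (Finset.mem_product.mp hq).2
    simp only [hI, Finset.mem_product, Finset.mem_filter, Finset.mem_univ, true_and] at hi
    have h := hne i hi.1 hi.2
    show _ * conj _ ≠ 0
    rw [← (map_contribForm b z σ (hroot σ) i).1]
    simp [h]
  · refine ⟨fun q => (fun θ => σ (q.1 θ), q.2), fun q hq => ?_, fun q _ q' _ hqq' => ?_,
      fun q hq => ?_⟩
    · obtain ⟨τ, hτ⟩ := hfin.mem_toFinset.mp (Finset.mem_product.mp hq).1
      exact Finset.mem_product.mpr ⟨hfin.mem_toFinset.mpr
        ⟨σ.comp τ, funext fun θ => by show σ (τ (ε θ)) = σ (q.1 θ); rw [← hτ]⟩, (Finset.mem_product.mp hq).2⟩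
    · simp only [Prod.mk.injEq] at hqq'
      exact Prod.ext (funext fun θ => σ.injective (congrFun hqq'.1 θ)) hqq'.2
    · have hc := hσconj σ q.1 (Finset.mem_product.mp hq).1
      show σ (_ * conj _) = _ * conj _
      rw [map_mul, (map_contribForm b z σ hc q.2).1, (map_contribForm b z σ hc q.2).2]

end Cfsg.Agent.BC86
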