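import Cfsg.Agent.BC86.Deg
import Cfsg.Agent.Lib.CharClifford.Clifford

/-!
# Sums over cosets of normal subgroups
-/

open scoped ComplexConjugate
open Cfsg.Agent.CharCore

namespace Cfsg.Agent.BC86

variable {G : Type*} [Group G] [Finite G]

theorem sum_normal_eq_zero (χ : Cfsg.IrrCharacter G) (N : Subgroup G) [N.Normal] [Fintype N]
    (hN : ∃ x ∈ N, (χ : G → ℂ) x ≠ (χ : G → ℂ) 1) : ∑ n : N, (χ : G → ℂ) n = 0 := by
  classical
  have := Fintype.ofFinite G
  by_contra hne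
  obtain ⟨x, hx, hx1⟩ := hN
  refine hx1 ?_
  have hres := isCharacter_restrict (irr_isCharacter χ) N
  have h1 : Cfsg.classInner (fun h : N => (χ : G → ℂ) h) (1 : N → ℂ) ≠ 0 := by
    simp [Cfsg.classInner, hne]
  have hall : ∀ θ : Cfsg.IrrCharacter N,
      Cfsg.classInner (fun h : N => (χ : G → ℂ) h) (θ : N → ℂ) ≠ 0 → (θ : N → ℂ) = 1 := by
    intro θ hθ
    obtain ⟨a, ha⟩ := CharClifford.exists_conjFun_eq_of_constituents N χ.2 isIrrCharacter_one θ.2
      h1 hθ
    rw [ha]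
    funext h
    rfl
  have hconst : ∀ h : N, (χ : G → ℂ) h =
      Cfsg.classInner (fun h : N => (χ : G → ℂ) h) (1 : N → ℂ) := by
    intro h
    have := congrFun (IsCharacter.eq_sum_classInner hres) h
    rw [this, Finset.sum_apply, Finset.sum_eq_single ⟨1, isIrrCharacter_one⟩]
    · simp
    · intro θ _ hθ
      by_cases hc : Cfsg.classInner (fun h : N => (χ : G → ℂ) h) (θ : N → ℂ) = 0
      · simp [hc]
      · exact absurd (Subtype.ext (hall θ hc)) hθ
    · exact fun h => absurd (Finset.mem_univ _) h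
  exact (hconst ⟨x, hx⟩).trans (hconst 1).symm

theorem sum_coset_eq_zero (χ : Cfsg.IrrCharacter G) (N : Subgroup G) [N.Normal] [Fintype N]
    (hN : ∃ x ∈ N, (χ : G → ℂ) x ≠ (χ : G → ℂ) 1) (g : G) :
    ∑ n : N, (χ : G → ℂ) (g * n) = 0 := by
  classical
  have := Fintype.ofFinite G
  have key : ∀ a : G, ∑ n : N, (χ : G → ℂ) (a * g * a⁻¹ * n)
      = ∑ n : N, (χ : G → ℂ) (g * n) := fun a =>
    Fintype.sum_equiv (MulAut.conjNormal a⁻¹).toEquiv _ _ fun n => by
      rw [MulEquiv.toEquiv_eq_coe, MulEquiv.coe_toEquiv, MulAut.conjNormal_apply,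
        ← irr_isClassFunction χ (a * g * a⁻¹ * n) a⁻¹]
      simp only [inv_inv]
      congr 1
      group
  have h : (χ : G → ℂ) 1 * ∑ a : G, ∑ n : N, (χ : G → ℂ) (a * g * a⁻¹ * n)
      = (Nat.card G : ℂ) * ((χ : G → ℂ) g * ∑ n : N, (χ : G → ℂ) n) := by
    rw [Finset.sum_comm, Finset.mul_sum]
    rw [Finset.mul_sum, Finset.mul_sum]
    exact Finset.sum_congr rfl fun n _ => sum_conj_mul χ g n
  rw [sum_normal_eq_zero χ N hN, mul_zero, mul_zero] at h
  simpa [key, irr_apply_one_ne_zero χ, Fintype.card_ne_zero] using h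

end Cfsg.Agent.BC86
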