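import Cfsg.Agent.BC86.NoDefectZero
import Cfsg.Agent.Lib.Thompson.PSolvable

/-!
# `p`-solvable groups without elements linking `p` and `q`
-/

namespace Cfsg.Agent.BC86

variable {G : Type*} [Group G] [Finite G] {p q : ℕ}

/-- Nontrivial `p`-elements have centralisers of order prime to `q`. -/
def Unlinked (p q : ℕ) (G : Type*) [Group G] : Prop :=
  ∀ g : G, g ≠ 1 → (∃ k : ℕ, orderOf g = p ^ k) →
    ¬ q ∣ Nat.card (Subgroup.centralizer ({g} : Set G))

theorem Unlinked.symm (hp : p.Prime) (hq : q.Prime) (hC : Unlinked p q G) : Unlinked q p G := by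
  intro z hz ⟨k, hk⟩ hdvd
  have := Fact.mk hp
  obtain ⟨w, hw⟩ := exists_prime_orderOf_dvd_card' p hdvd
  have hwG : orderOf (w : G) = p := (Subgroup.orderOf_coe w).trans hw
  have hw1 : (w : G) ≠ 1 := fun h => hp.ne_one (by simpa [h] using hwG.symm)
  have hmem : z ∈ Subgroup.centralizer ({(w : G)} : Set G) :=
    Subgroup.mem_centralizer_singleton_iff.mpr
      (Subgroup.mem_centralizer_singleton_iff.mp w.2).symm
  have hqz : q ∣ orderOf z := by
    rw [hk]
    exact dvd_pow_self q fun h => hz (orderOf_eq_one_iff.mp (by rw [hk, h, pow_zero]))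
  exact hC _ hw1 ⟨1, by rw [hwG, pow_one]⟩ (hqz.trans (Subgroup.orderOf_dvd_natCard _ hmem))

/-- A normal subgroup of order prime to `p` and divisible by `q` gives `p`-defect zero. -/
theorem hasDefectZero_of_normal (hp : p.Prime) (hq : q.Prime) (hC : Unlinked p q G)
    {M : Subgroup G} (hMn : M.Normal) (hMp : ¬ p ∣ Nat.card M) (hMq : q ∣ Nat.card M) :
    HasDefectZero p G := by
  by_contra hno
  have := Fact.mk hp
  have := Fact.mk hq
  obtain ⟨z, hz⟩ := exists_prime_orderOf_dvd_card' q hMq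
  have hzG : orderOf (z : G) = q := (Subgroup.orderOf_coe z).trans hz
  have hz1 : (z : G) ≠ 1 := fun h => hq.ne_one (by simpa [h] using hzG.symm)
  obtain ⟨g, k, hmem, hne⟩ := exists_conj_quot_mem hp hno (z : G)
    (hC.symm hp hq (z : G) hz1 ⟨1, by rw [hzG, pow_one]⟩) (default : Sylow p G)
  obtain ⟨m, hm⟩ := exists_pow_of_mem (default : Sylow p G).2 hmem
  have hM : g * (z : G) * g⁻¹ * (k * (z : G)⁻¹ * k⁻¹) ∈ M :=
    M.mul_mem (hMn.conj_mem _ z.2 g) (hMn.conj_mem _ (M.inv_mem z.2) k)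
  have hdvd := Subgroup.orderOf_dvd_natCard _ hM
  rw [hm] at hdvd
  exact hMp ((dvd_pow_self p fun h => hne (orderOf_eq_one_iff.mp (by rw [hm, h, pow_zero]))).trans hdvd)

/-- In a `p`-solvable group in which `p` and `q` are unlinked, there is a character of `p`-defect
zero or one of `q`-defect zero. -/
theorem hasDefectZero_or_of_isPSolvable (hp : p.Prime) (hq : q.Prime) (hpq : p ≠ q)
    (hpG : p ∣ Nat.card G) (hC : Unlinked p q G) (hsolv : Cfsg.IsPSolvable p G) :
    HasDefectZero p G ∨ HasDefectZero q G := by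
  have := Fact.mk hp
  obtain ⟨N, ⟨hNn, hNp, hNq⟩, hNmax⟩ := (Set.toFinite
      {N : Subgroup G | N.Normal ∧ ¬ p ∣ Nat.card N ∧ ¬ q ∣ Nat.card N}).exists_maximal
    ⟨⊥, inferInstance, by simp [hp.ne_one], by simp [hq.ne_one]⟩
  have hNtop : N ≠ ⊤ := fun h => hNp (by rwa [h, Subgroup.card_top])
  have : Nontrivial (G ⧸ N) := by
    rw [← Finite.one_lt_card_iff_nontrivial]
    exact (Subgroup.one_lt_index_of_ne_top hNtop : 1 < N.index)
  obtain ⟨R, hRn, hRne, hR⟩ :=
    Thompson.exists_minimal_step_of_isPSolvable (Thompson.isPSolvable_quotient N hsolv)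
  set M := R.comap (QuotientGroup.mk' N)
  have hMn : M.Normal := hRn.comap _
  have hNM : N ≤ M := QuotientGroup.le_comap_mk' N R
  have hcard : Nat.card M = Nat.card R * Nat.card N := Thompson.card_comap_quotient N R |>.trans (by ring)
  have hlt : ¬ (¬ p ∣ Nat.card M ∧ ¬ q ∣ Nat.card M) := fun h => hRne (by
    have hMN : M = N := le_antisymm (hNmax ⟨hMn, h.1, h.2⟩ hNM) hNM
    have h1 : Nat.card R * Nat.card N = 1 * Nat.card N := by rw [one_mul, ← hcard, hMN]
    exact Subgroup.card_eq_one.mp (Nat.eq_of_mul_eq_mul_right Nat.card_pos h1))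
  rcases hR with hR | hR
  · right
    obtain ⟨m, hm⟩ := IsPGroup.iff_card.mp hR
    have hMq : ¬ q ∣ Nat.card M := by
      rw [hcard, hm]
      intro h
      rcases hq.dvd_mul.mp h with h | h
      · exact hpq ((Nat.prime_dvd_prime_iff_eq hq hp).mp (hq.dvd_of_dvd_pow h)).symm
      · exact hNq h
    exact hasDefectZero_of_normal hq hp (hC.symm hp hq) hMn hMq
      (by_contra fun h => hlt ⟨h, hMq⟩)
  · left
    have hMp : ¬ p ∣ Nat.card M := by
      rw [hcard]
      intro h
      rcases hp.dvd_mul.mp h with h | h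
      · exact (hp.coprime_iff_not_dvd.mp hR.symm) h
      · exact hNp h
    exact hasDefectZero_of_normal hp hq hC hMn hMp (by_contra fun h => hlt ⟨hMp, h⟩)

end Cfsg.Agent.BC86
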