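import Cfsg.Agent.Lib.CharInd.Brauer
import Cfsg.Agent.Lib.CharCore.Complete
import Cfsg.Agent.Lib.CharCore.Virtual
import Cfsg.Agent.Lib.Transfer.Hall
import Cfsg.Agent.BC86.Core
import Cfsg.Agent.BC86.Invert

/-!
# `p^a` times the indicator of the `p`-regular elements is a generalized character
-/

open scoped ComplexConjugate
open Cfsg.Agent.CharCore

namespace Cfsg.Agent.BC86

variable {p : ℕ}

/-- With a normal Sylow `p`-subgroup commuting with all `p`-regular elements, the `p`-regular
elements form a normal subgroup of `p`-power index. -/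
theorem exists_pRegular_subgroup {E : Type*} [Group E] [Finite E] [hp : Fact p.Prime]
    (P : Sylow p E) [(P : Subgroup E).Normal]
    (hcomm : ∀ u ∈ (P : Subgroup E), ∀ g : E, ¬ p ∣ orderOf g → Commute u g) :
    ∃ K : Subgroup E, K.Normal ∧ (∀ g, g ∈ K ↔ ¬ p ∣ orderOf g) ∧ ¬ p ∣ Nat.card K ∧
      Nat.card K * Nat.card P = Nat.card E := by
  obtain ⟨K, hK⟩ := Subgroup.exists_right_complement'_of_coprime P.card_coprime_index
  have hmul : Nat.card P * Nat.card K = Nat.card E := hK.card_mul
  have hKcard : Nat.card K = (P : Subgroup E).index :=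
    Nat.eq_of_mul_eq_mul_left Nat.card_pos (hmul.trans (Subgroup.card_mul_index _).symm)
  have hKp : ¬ p ∣ Nat.card K := hKcard ▸ P.not_dvd_index
  have hKn : K.Normal := by
    refine ⟨fun c hc g => ?_⟩
    obtain ⟨⟨⟨u, hu⟩, ⟨k, hk⟩⟩, hg⟩ := hK.2 g
    simp only at hg
    subst hg
    have hc' : k * c * k⁻¹ ∈ K := K.mul_mem (K.mul_mem hk hc) (K.inv_mem hk)
    have := hcomm u hu _ (fun h => hKp (h.trans (Subgroup.orderOf_dvd_natCard _ hc')))
    rw [show u * k * c * (u * k)⁻¹ = u * (k * c * k⁻¹) * u⁻¹ by group, this.eq, mul_inv_cancel_right]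
    exact hc'
  refine ⟨K, hKn, fun g => ⟨fun hg h => hKp (h.trans (Subgroup.orderOf_dvd_natCard _ hg)), fun hg => ?_⟩,
    hKp, by rw [mul_comm]; exact hmul⟩
  obtain ⟨n, hn⟩ := IsPGroup.iff_card.mp P.2
  have hidx : K.index = p ^ n :=
    Nat.eq_of_mul_eq_mul_left (Nat.card_pos (α := K))
      ((Subgroup.card_mul_index K).trans (by rw [← hmul, hn, mul_comm]))
  have h1 : orderOf (QuotientGroup.mk g : E ⧸ K) ∣ p ^ n := by
    rw [← hidx]; exact orderOf_dvd_natCard _
  have h2 : orderOf (QuotientGroup.mk g : E ⧸ K) ∣ orderOf g :=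
    orderOf_map_dvd (QuotientGroup.mk' K) g
  have h3 : orderOf (QuotientGroup.mk g : E ⧸ K) ∣ 1 :=
    (Nat.Coprime.pow_left n (hp.out.coprime_iff_not_dvd.mpr hg)).gcd_eq_one ▸ Nat.dvd_gcd h1 h2
  exact (QuotientGroup.eq_one_iff g).mp (orderOf_eq_one_iff.mp (Nat.dvd_one.mp h3))

variable (p) in
open scoped Classical in
/-- The class function `p ^ a` on `p`-regular elements, `0` elsewhere. -/
noncomputable def regFun (a : ℕ) (G : Type*) [Group G] : G → ℂ :=
  fun g => if p ∣ orderOf g then 0 else (p : ℂ) ^ a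

theorem isClassFunction_regFun (a : ℕ) (G : Type*) [Group G] :
    Cfsg.IsClassFunction G (regFun p a G) := fun g h => by
  simp only [regFun, show orderOf (h * g * h⁻¹) = orderOf g from MulEquiv.orderOf_eq (MulAut.conj h) g]

theorem isGeneralizedCharacter_regFun_nilpotent {E : Type*} [Group E] [Finite E] [hp : Fact p.Prime]
    (hE : Group.IsNilpotent E) {a : ℕ} (ha : (Nat.card E).factorization p ≤ a) :
    Cfsg.IsGeneralizedCharacter E (regFun p a E) := by
  classical
  have := Fintype.ofFinite E
  let P : Sylow p E := default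
  have := Transfer.nilpotent_sylow_normal hE P
  obtain ⟨K, hKn, hK, hKp, hcard⟩ := exists_pRegular_subgroup P fun u hu g hg => by
    obtain ⟨k, hk⟩ := exists_pow_of_mem P.2 hu
    exact Transfer.nilpotent_commute_of_coprime hE
      (hk ▸ (hp.out.coprime_iff_not_dvd.mpr hg).pow_left k)
  have hchar : Cfsg.IsCharacter E (Cfsg.indFun K (fun _ : K => (1 : ℂ))) :=
    CharInd.isCharacter_indFun K CharCore.isCharacter_one
  have heq : regFun p a E = (p ^ (a - (Nat.card E).factorization p) : ℕ) •
      Cfsg.indFun K (fun _ : K => (1 : ℂ)) := by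
    funext g
    rw [Pi.smul_apply, nsmul_eq_mul, CharInd.indFun_apply]
    have hKc : (Nat.card K : ℂ) ≠ 0 := Nat.cast_ne_zero.mpr Nat.card_pos.ne'
    by_cases hg : p ∣ orderOf g
    · have hmem : ∀ x : E, x⁻¹ * g * x ∉ K := fun x hx => by
        have h := (hK _).mp hx
        rw [show x⁻¹ * g * x = MulAut.conj x⁻¹ g by simp [MulAut.conj_apply],
          MulEquiv.orderOf_eq] at h
        exact h hg
      simp [regFun, hg, CharInd.extendByZero_notMem _ (hmem _)]
    · have hmem : ∀ x : E, x⁻¹ * g * x ∈ K := fun x => by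
        have := hKn.conj_mem g ((hK g).mpr hg) x⁻¹
        rwa [inv_inv] at this
      simp only [regFun, hg, if_false, CharInd.extendByZero_mem _ (hmem _), Finset.sum_const,
        Finset.card_univ, nsmul_eq_mul, mul_one, ← Nat.card_eq_fintype_card]
      have hE' : (Nat.card E : ℂ) = (Nat.card K : ℂ) * (Nat.card P : ℂ) := by
        exact_mod_cast hcard.symm
      rw [hE', ← mul_assoc (Nat.card K : ℂ)⁻¹, inv_mul_cancel₀ hKc, one_mul, ← Nat.cast_mul,
        P.card_eq_multiplicity, ← pow_add, Nat.sub_add_cancel ha, Nat.cast_pow]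
  rw [heq]
  exact CharCore.IsCharacter.isGeneralized (CharCore.isCharacter_nsmul hchar _)

variable {G : Type*} [Group G] [Finite G]

theorem isGeneralizedCharacter_regFun [hp : Fact p.Prime] :
    Cfsg.IsGeneralizedCharacter G (regFun p ((Nat.card G).factorization p) G) := by
  have := Fintype.ofFinite G
  refine CharInd.isGeneralizedCharacter_of_elementary (isClassFunction_regFun _ G) fun E q hq hE => ?_
  have h : (fun e : E => regFun p ((Nat.card G).factorization p) G (e : G))
      = regFun p ((Nat.card G).factorization p) E := by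
    funext e
    simp [regFun, Subgroup.orderOf_coe]
  rw [h]
  exact isGeneralizedCharacter_regFun_nilpotent (CharInd.isNilpotent_of_isElementary hq hE)
    ((Nat.factorization_le_iff_dvd Nat.card_pos.ne' Nat.card_pos.ne').mpr
      (Subgroup.card_subgroup_dvd_card E) p)

/-- The number of `p`-regular elements is prime to `p`. -/
theorem not_dvd_card_pRegular [hp : Fact p.Prime] :
    ¬ p ∣ Nat.card {g : G // ¬ p ∣ orderOf g} := by
  classical
  let P : Sylow p G := default
  let C := Subgroup.centralizer ((P : Subgroup G) : Set G)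
  let S : Sylow p C := default
  have hSP : ∀ u ∈ (S : Subgroup C), (u : G) ∈ P := by
    intro u hu
    have hp' : IsPGroup p ((S : Subgroup C).map C.subtype) := S.2.map _
    have hnorm : (S : Subgroup C).map C.subtype ≤ Subgroup.normalizer ((P : Subgroup G) : Set G) :=
      (Subgroup.map_subtype_le _).trans (Subgroup.centralizer_le_normalizer _)
    have := P.is_maximal' (P.2.to_sup_of_normal_left' hp' hnorm) le_sup_left
    show (u : G) ∈ (P : Subgroup G)
    rw [← this]
    exact Subgroup.mem_sup_right ⟨u, hu, rfl⟩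
  have hScomm : ∀ u ∈ (S : Subgroup C), ∀ c : C, Commute u c := fun u hu c =>
    Subtype.ext (Subgroup.mem_centralizer_iff.mp c.2 (u : G) (hSP u hu))
  have : (S : Subgroup C).Normal := ⟨fun u hu c => by
    rwa [(hScomm u hu c).symm.eq, mul_inv_cancel_right]⟩
  obtain ⟨K, -, hK, hKp, -⟩ := exists_pRegular_subgroup S fun u hu g _ => hScomm u hu g
  let X := {g : G // ¬ p ∣ orderOf g}
  let act : MulAction (P : Subgroup G) X :=
    { smul := fun u g => ⟨(u : G) * g.1 * (u : G)⁻¹, by
        rw [show orderOf ((u : G) * g.1 * (u : G)⁻¹) = orderOf g.1 from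
          MulEquiv.orderOf_eq (MulAut.conj (u : G)) g.1]
        exact g.2⟩
      one_smul := fun g => Subtype.ext (by
        change ((1 : (P : Subgroup G)) : G) * g.1 * ((1 : (P : Subgroup G)) : G)⁻¹ = g.1
        simp)
      mul_smul := fun u v g => Subtype.ext (by
        change ((u * v : (P : Subgroup G)) : G) * g.1 * ((u * v : (P : Subgroup G)) : G)⁻¹
          = (u : G) * ((v : G) * g.1 * (v : G)⁻¹) * (u : G)⁻¹
        simp [mul_assoc]) }
  have hmod := IsPGroup.card_modEq_card_fixedPoints (α := X) P.2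
  have hfix : Nat.card (MulAction.fixedPoints (P : Subgroup G) X) = Nat.card K := by
    refine Nat.card_congr
      { toFun := fun g => ⟨⟨g.1.1, Subgroup.mem_centralizer_iff.mpr fun u hu => ?_⟩, ?_⟩
        invFun := fun k => ⟨⟨(k.1 : G), ?_⟩, ?_⟩
        left_inv := fun g => rfl
        right_inv := fun k => rfl }
    · have := congrArg Subtype.val (g.2 ⟨u, hu⟩)
      change u * g.1.1 * u⁻¹ = g.1.1 at this
      exact mul_inv_eq_iff_eq_mul.mp this
    · refine (hK _).mpr ?_
      rw [← Subgroup.orderOf_coe]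
      exact g.1.2
    · have := (hK _).mp k.2
      rwa [← Subgroup.orderOf_coe] at this
    · intro u
      refine Subtype.ext ?_
      change (u : G) * (k.1 : G) * (u : G)⁻¹ = (k.1 : G)
      exact mul_inv_eq_iff_eq_mul.mpr (Subgroup.mem_centralizer_iff.mp k.1.2 (u : G) u.2)
  intro h
  rw [hfix] at hmod
  exact hKp (Nat.modEq_zero_iff_dvd.mp (hmod.symm.trans (Nat.modEq_zero_iff_dvd.mpr h)))

end Cfsg.Agent.BC86
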