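import Cfsg.Agent.BC85.Pairs.Maximal
import Cfsg.Agent.BC84.BrauerCount
import Cfsg.Agent.BGSigma.PiCore

/-!
# `π'`-cores in the kernels of Brauer pairs

For a set `π` of primes without `p`, the property that `O_π(C(Q))` lies in the kernel of the
block `e` of a Brauer pair `(Q, e)` passes downwards along inclusions of pairs, is invariant
under conjugation, and passes upwards when `O_π(C(P)) ≤ O_π(C(Q))`.
-/

set_option linter.unusedSectionVars false

namespace Cfsg.Agent.BC86

open BlocksCore BlocksDefect BC85 BGSigma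
open scoped Classical

variable {G : Type*} [Group G] [Fintype G] {p : ℕ} [Fact p.Prime] {M : Ideal AlgInt} {π : Set ℕ}

local notation "C[" Q "]" => Subgroup.centralizer (Q : Set G)

theorem not_dvd_card_piSub (hp : p ∉ π) {K : Subgroup G} (hK : IsPiSub π K) :
    ¬ p ∣ Nat.card K :=
  fun h => hp (hK p Fact.out h)

theorem not_dvd_card_inf (hp : p ∉ π) {K : Subgroup G} (hK : IsPiSub π K) (H : Subgroup G) :
    ¬ p ∣ Nat.card (K.subgroupOf H) :=
  fun h => hp ((hK.subgroupOf (K := H)) p Fact.out h)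

theorem isClassFunction_res_subInd {H K : Subgroup G}
    (hn : H ≤ Subgroup.normalizer (K : Set G)) : IsClassFunction H (res H (subInd K)) := by
  intro g h
  have hh := Subgroup.mem_normalizer_iff.mp (hn h.2) (g : G)
  simp only [res, Subgroup.coe_mul, Subgroup.coe_inv]
  by_cases hg : (g : G) ∈ K
  · rw [subInd_apply_of_mem hg, subInd_apply_of_mem (hh.mp hg)]
  · rw [subInd_apply_of_notMem hg, subInd_apply_of_notMem fun h' => hg (hh.mpr h')]

theorem memLocalRing_subInd (hM : IsPModular p M) (hp : p ∉ π) {K : Subgroup G}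
    (hK : IsPiSub π K) (x : G) : MemLocalRing M (subInd K x) := by
  have := isPrime hM
  by_cases hx : x ∈ K
  · rw [subInd_apply_of_mem hx]; exact memLocalRing_natCast_inv hM (not_dvd_card_piSub hp hK)
  · rw [subInd_apply_of_notMem hx]; exact memLocalRing_of_mem (zero_mem _)

theorem conv_subInd_sub [M.IsPrime] (K : Subgroup G) (g : G) :
    MemLocalIdeal M (conv (subInd K) (subInd K) g - subInd K g) := by
  rw [conv_subInd_self, sub_self]; exact memLocalIdeal_zero

theorem isBrFun_subInd (hM : IsPModular p M) (hp : p ∉ π) {K P : Subgroup G}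
    (hK : IsPiSub π K) (hP : P ≤ Subgroup.normalizer (K : Set G))
    (hC : C[P] ≤ Subgroup.normalizer (K : Set G)) : IsBrFun M P (subInd K) := by
  have hinv : ∀ u ∈ Subgroup.normalizer (K : Set G), ∀ y, subInd K (u * y * u⁻¹) = subInd K y := by
    intro u hu y
    have hh := Subgroup.mem_normalizer_iff.mp hu y
    by_cases hy : y ∈ K
    · rw [subInd_apply_of_mem hy, subInd_apply_of_mem (hh.mp hy)]
    · rw [subInd_apply_of_notMem hy, subInd_apply_of_notMem fun h' => hy (hh.mpr h')]
  exact ⟨memLocalRing_subInd hM hp hK, fun u hu => hinv u (hP hu), fun u hu => hinv u (hC hu)⟩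

/-- The central character at the normalised sum of `K` detects whether `K ∩ H` is in the kernel. -/
theorem omega_res_subInd_unit_iff (hM : IsPModular p M) (hp : p ∉ π) {H K : Subgroup G}
    [Fintype H] (hK : IsPiSub π K) (hn : H ≤ Subgroup.normalizer (K : Set G))
    (θ : IrrCharacter H) :
    ¬ MemLocalIdeal M (omega (θ : H → ℂ) (res H (subInd K))) ↔
      ∀ h : H, (h : G) ∈ K → (θ : H → ℂ) h = (θ : H → ℂ) 1 := by
  have := isPrime hM
  set K' := K.subgroupOf H with hK'
  haveI : K'.Normal := ⟨fun k hk h => (Subgroup.mem_normalizer_iff.mp (hn h.2) (k : G)).mp hk⟩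
  set r : ℂ := (Nat.card K' : ℂ) * (Nat.card K : ℂ)⁻¹ with hr
  have h0 : (Nat.card K' : ℂ) ≠ 0 := Nat.cast_ne_zero.mpr Nat.card_pos.ne'
  have h0' : (Nat.card K : ℂ) ≠ 0 := Nat.cast_ne_zero.mpr Nat.card_pos.ne'
  have he : res H (subInd K) = r • subInd K' := funext fun h => by
    show subInd K (h : G) = r * subInd K' h
    by_cases hh : (h : G) ∈ K
    · rw [subInd_apply_of_mem hh, subInd_apply_of_mem (show h ∈ K' from hh), hr]
      field_simp
    · rw [subInd_apply_of_notMem hh, subInd_apply_of_notMem (show h ∉ K' from hh), mul_zero]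
  have hru : ¬ MemLocalIdeal M r := fun h => by
    refine not_memLocalIdeal_one (M := M) ?_
    have e : r * ((Nat.card K : ℂ) * (Nat.card K' : ℂ)⁻¹) = 1 := by rw [hr]; field_simp
    rw [← e]
    exact memLocalIdeal_mul_right h ((localRing M).mul_mem
      (memLocalRing_natCast _)
      (memLocalRing_natCast_inv hM (not_dvd_card_inf hp hK H)))
  rw [he, omega_smul]
  have hiff := omega_subInd_eq_one_iff θ K'
  rcases omega_subInd_zero_or_one θ K' with h | h
  · rw [h, mul_zero]
    refine ⟨fun hc => absurd memLocalIdeal_zero hc, fun hc => ?_⟩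
    have := hiff.mpr fun n hn => hc n hn
    rw [h] at this
    exact absurd this zero_ne_one
  · rw [h, mul_one]
    exact ⟨fun _ n hn => hiff.mp h n hn, fun _ => hru⟩

theorem subset_cset_subInd_iff (hM : IsPModular p M) (hp : p ∉ π) {P K : Subgroup G}
    (hK : IsPiSub π K) (hn : C[P] ≤ Subgroup.normalizer (K : Set G))
    (e : Set (IrrCharacter C[P])) :
    e ⊆ cset M P (subInd K) ↔
      ∀ ξ ∈ e, ∀ c : C[P], (c : G) ∈ K → (ξ : C[P] → ℂ) c = (ξ : C[P] → ℂ) 1 :=
  forall₂_congr fun ξ _ => omega_res_subInd_unit_iff hM hp hK hn ξ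

/-- `K` lies in the kernel of a block above a pair exactly when `K ∩ C(P)` does in that of the pair. -/
theorem over_kernel_iff (hM : IsPModular p M) (hp : p ∉ π) {H P K : Subgroup G} [Fintype H]
    (hP : IsPGroup p P) (hPH : P ≤ H) (hCH : C[P] ≤ H) (hK : IsPiSub π K)
    (hn : H ≤ Subgroup.normalizer (K : Set G)) {E : Set (IrrCharacter H)} (hE : IsPBlock M E)
    {e : Set (IrrCharacter C[P])} (he : IsPBlock M e)
    (hsub : e ⊆ cset M P (subgroupBlockCoeff H E)) :
    (∀ θ ∈ E, ∀ h : H, (h : G) ∈ K → (θ : H → ℂ) h = (θ : H → ℂ) 1) ↔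
      ∀ ξ ∈ e, ∀ c : C[P], (c : G) ∈ K → (ξ : C[P] → ℂ) c = (ξ : C[P] → ℂ) 1 := by
  have := isPrime hM
  have ha : IsIntClassFun M (res H (subInd K)) :=
    ⟨isClassFunction_res_subInd hn, fun h => memLocalRing_subInd hM hp hK h⟩
  have key : ∀ θ ∈ E, ∀ ξ ∈ e, (¬ MemLocalIdeal M (omega (θ : H → ℂ) (res H (subInd K)))) ↔
      ¬ MemLocalIdeal M (omega (ξ : C[P] → ℂ) (res C[P] (subInd K))) := by
    intro θ hθ ξ hξ
    have hξ' := hsub hξ
    rw [cset_subgroupBlockCoeff hCH] at hξ'
    have h := brSet_rel hM (isPGroup_subgroupOf hP H) (isCentHom_inclusion hPH hCH) hE hξ' hθ ha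
    rw [show pullFun (Subgroup.inclusion hCH) (res H (subInd K)) = res C[P] (subInd K) from rfl]
      at h
    refine not_congr ⟨fun h1 => ?_, fun h1 => ?_⟩
    · simpa using memLocalIdeal_add h h1
    · simpa using memLocalIdeal_sub h1 h
  obtain ⟨θ₀, hθ₀⟩ := isPBlock_nonempty hE
  obtain ⟨ξ₀, hξ₀⟩ := isPBlock_nonempty he
  constructor
  · exact fun h ξ hξ => (omega_res_subInd_unit_iff hM hp hK (hCH.trans hn) ξ).mp
      ((key θ₀ hθ₀ ξ hξ).mp ((omega_res_subInd_unit_iff hM hp hK hn θ₀).mpr (h θ₀ hθ₀)))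
  · exact fun h θ hθ => (omega_res_subInd_unit_iff hM hp hK hn θ).mp
      ((key θ hθ ξ₀ hξ₀).mpr
        ((omega_res_subInd_unit_iff hM hp hK (hCH.trans hn) ξ₀).mpr (h ξ₀ hξ₀)))

/-- `O_π(C(P))` lies in the kernel of the block of the pair. -/
def CoreInKer (π : Set ℕ) (a : BrauerPairIdx G) : Prop :=
  ∀ ξ ∈ a.2, ∀ c : C[a.1], (c : G) ∈ piCoreOf π C[a.1] →
    (ξ : C[a.1] → ℂ) c = (ξ : C[a.1] → ℂ) 1

theorem normalizer_le_normalizer_core (Q : Subgroup G) :
    Subgroup.normalizer (Q : Set G) ≤ Subgroup.normalizer (piCoreOf π C[Q] : Set G) :=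
  (normalizer_le_normalizer_centralizer Q).trans (piCoreOf_normalized _)

theorem inf_le_piCoreOf {K X : Subgroup G} (hK : IsPiSub π K)
    (hn : X ≤ Subgroup.normalizer (K : Set G)) : K ⊓ X ≤ piCoreOf π X := by
  refine le_piCoreOf inf_le_right ?_ (hK.mono_le inf_le_left)
  intro x hx
  rw [Subgroup.mem_normalizer_iff]
  intro z
  simp only [Subgroup.mem_inf]
  exact and_congr (Subgroup.mem_normalizer_iff.mp (hn hx) z)
    ⟨fun h => X.mul_mem (X.mul_mem hx h) (X.inv_mem hx),
      fun h => by simpa [mul_assoc] using X.mul_mem (X.mul_mem (X.inv_mem hx) h) hx⟩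

theorem coreInKer_iff_of_normalSubpair (hM : IsPModular p M) (hp : p ∉ π) {a b : BrauerPairIdx G}
    (h : NormalSubpairRel p M a b) :
    CoreInKer π a ↔
      ∀ ξ ∈ b.2, ∀ c : C[b.1], (c : G) ∈ piCoreOf π C[a.1] →
        (ξ : C[b.1] → ℂ) c = (ξ : C[b.1] → ℂ) 1 := by
  have := isPrime hM
  obtain ⟨-, -, hle, hN, -⟩ := (isNormalSubpair_iff hM).mp h
  have hK : IsPiSub π (piCoreOf π C[a.1]) := isPiSub_piCoreOf _
  have hCa : C[a.1] ≤ Subgroup.normalizer (piCoreOf π C[a.1] : Set G) :=
    Subgroup.le_normalizer.trans (piCoreOf_normalized _)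
  have hCb : C[b.1] ≤ Subgroup.normalizer (piCoreOf π C[a.1] : Set G) :=
    (centralizer_anti hle).trans hCa
  have hbrQ := isBrFun_subInd hM hp hK
    ((Subgroup.le_normalizer (H := a.1)).trans (normalizer_le_normalizer_core a.1)) hCa
  have hbrP := isBrFun_subInd hM hp hK (hN.trans (normalizer_le_normalizer_core a.1)) hCb
  exact (subset_cset_subInd_iff hM hp hK hCa a.2).symm.trans
    ((subset_cset_iff_of_normalSubpair hM h hbrQ hbrP (conv_subInd_sub _)).symm.trans
      (subset_cset_subInd_iff hM hp hK hCb b.2))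

/-- The property passes downwards. -/
theorem coreInKer_down (hM : IsPModular p M) (hp : p ∉ π) {a b : BrauerPairIdx G}
    (h : Relation.ReflTransGen (NormalSubpairRel p M) a b) (hb : CoreInKer π b) :
    CoreInKer π a := by
  induction h using Relation.ReflTransGen.head_induction_on with
  | refl => exact hb
  | @head a c hac _ ih =>
    refine (coreInKer_iff_of_normalSubpair hM hp hac).mpr fun ξ hξ x hx => ih ξ hξ x ?_
    exact inf_le_piCoreOf (isPiSub_piCoreOf _)
      ((centralizer_anti hac.2.2.1).trans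
        (Subgroup.le_normalizer.trans (piCoreOf_normalized _))) ⟨hx, x.2⟩

/-- The property passes upwards when the cores decrease. -/
theorem coreInKer_up (hM : IsPModular p M) (hp : p ∉ π) {a b : BrauerPairIdx G}
    (h : Relation.ReflTransGen (NormalSubpairRel p M) a b) (ha : CoreInKer π a)
    (hcore : ∀ X : Subgroup G, a.1 ≤ X → piCoreOf π C[X] ≤ piCoreOf π C[a.1]) :
    CoreInKer π b := by
  induction h with
  | refl => exact ha
  | @tail c b hac hcb ih =>
    intro ξ hξ x hx
    refine (coreInKer_iff_of_normalSubpair hM hp hcb).mp ih ξ hξ x ?_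
    have hle : a.1 ≤ c.1 := subpairLE_le (Q := a.1) (f := a.2) hac
    refine inf_le_piCoreOf (isPiSub_piCoreOf C[a.1]) ((centralizer_anti hle).trans
      (Subgroup.le_normalizer.trans (piCoreOf_normalized _))) ⟨hcore b.1 (hle.trans hcb.2.2.1) hx, ?_⟩
    exact centralizer_anti hcb.2.2.1 x.2

theorem coreInKer_conj (x : G) {a : BrauerPairIdx G} (ha : CoreInKer π a) :
    CoreInKer π (conjPair x a) := by
  intro ξ' hξ' c' hc'
  obtain ⟨Q, e⟩ := a
  rw [show (conjPair x ⟨Q, e⟩).2 = conjSet (mem_centralizer_map_conj Q x) e from conjBlock_eq Q x e]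
    at hξ'
  obtain ⟨ξ, hξ, rfl⟩ := hξ'
  refine (ha ξ hξ (conjIso C[Q] _ x (mem_centralizer_map_conj Q x) c') ?_).trans
    (congrArg (ξ : C[Q] → ℂ) (map_one (conjIso C[Q] _ x (mem_centralizer_map_conj Q x))).symm)
  set f := (MulAut.conj x⁻¹).toMonoidHom with hf
  set Y := C[(Q.map (MulAut.conj x).toMonoidHom : Subgroup G)] with hY
  set N := (piCoreOf π Y).map f with hN
  have hC : Y.map f = C[Q] := by
    ext z
    constructor
    · rintro ⟨w, hw, rfl⟩
      have := (mem_centralizer_map_conj Q x w).mp hw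
      simpa [hf, mul_assoc] using this
    · intro hz
      refine ⟨x * z * x⁻¹, (mem_centralizer_map_conj Q x _).mpr (by simpa [mul_assoc] using hz), ?_⟩
      simp [hf, mul_assoc]
  have hNle : N ≤ piCoreOf π C[Q] := by
    refine le_piCoreOf (hC ▸ Subgroup.map_mono (piCoreOf_le _)) ?_ ((isPiSub_piCoreOf _).map _)
    rw [← hC]
    exact (Subgroup.map_mono (Subgroup.le_normalizer.trans (piCoreOf_normalized _))).trans
      (Subgroup.le_normalizer_map f)
  exact hNle ⟨(c' : G), hc', by simp [hf]; rfl⟩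

/-- A block with `C(D₀) ≤ H` covers a pair of the block it induces. -/
theorem exists_pair_over (hM : IsPModular p M) {H P : Subgroup G} [Fintype H] (hP : IsPGroup p P)
    (hPH : P ≤ H) (hCH : C[P] ≤ H) {b : Set (IrrCharacter H)} {B : Set (IrrCharacter G)}
    (hind : IsInducedBlock M H b B)
    (hu : ∃ c ∈ C[P], ¬ MemLocalIdeal M (subgroupBlockCoeff H b c)) :
    ∃ e : Set (IrrCharacter C[P]), IsBrauerPairOf p M B P e ∧
      e ⊆ cset M P (subgroupBlockCoeff H b) := by
  have := isPrime hM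
  obtain ⟨c, hc, hu⟩ := hu
  obtain ⟨e, he, hsub⟩ := exists_block_subset_cset hM hP
    (isBrFun_subgroupBlockCoeff hM (isBlockUnion_isPBlock hind.1) hPH hCH) (conv_sub_idem_mod b)
    hc hu
  obtain ⟨B', hB', -⟩ := existsUnique_block_of_pair hM (P := P) (e := e) ⟨hP, he⟩
  have := BC84.induced_unique hM hind (isInducedBlock_of_over hM hPH hCH hB' hind.1 hsub)
  exact ⟨e, this ▸ hB', hsub⟩

/-- With the Brauer correspondent, kernels of normalizer and maximal pair agree. -/
theorem coreInKer_maximal_iff (hM : IsPModular p M) (hp : p ∉ π) {B : Set (IrrCharacter G)}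
    {D : Subgroup G} (hBD : IsDefectGroup p M B D)
    {B₁ : Set (IrrCharacter (Subgroup.normalizer (D : Set G)))}
    (hB₁ : IsInducedBlock M (Subgroup.normalizer (D : Set G)) B₁ B)
    (hB₁D : IsDefectGroup p M B₁ (D.subgroupOf (Subgroup.normalizer (D : Set G))))
    {e : Set (IrrCharacter C[D])} (he : IsBrauerPairOf p M B D e) :
    CoreInKer π (⟨D, e⟩ : BrauerPairIdx G) ↔
      ∀ n : Subgroup.normalizer (D : Set G), n ∈ piCore π (Subgroup.normalizer (D : Set G)) →
        n ∈ blockKer B₁ := by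
  have := isPrime hM
  have hD : IsPGroup p D := he.1.1
  have hmax := isMaximal_of_defect hM hBD he
  obtain ⟨E, hE, hsub⟩ := exists_block_over hM hD (H := (Subgroup.normalizer (D : Set G))) Subgroup.le_normalizer
    (BlocksCore.centralizer_le_normalizer' D) he.1.2
  obtain rfl : E = B₁ := inducing_normalizer_unique hM hD (over_maximal_defect hM hmax hE hsub)
    hB₁D (isInducedBlock_of_over hM Subgroup.le_normalizer
      (BlocksCore.centralizer_le_normalizer' D) he hE hsub) hB₁
  have hK : IsPiSub π (piCoreOf π C[D]) := isPiSub_piCoreOf _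
  have key := over_kernel_iff hM hp hD Subgroup.le_normalizer
    (BlocksCore.centralizer_le_normalizer' D) hK (normalizer_le_normalizer_core D) hE he.1.2 hsub
  have hcore : piCoreOf π C[D] = piCoreOf π (Subgroup.normalizer (D : Set G)) := by
    refine le_antisymm (le_piCoreOf ((piCoreOf_le _).trans
      (BlocksCore.centralizer_le_normalizer' D)) (normalizer_le_normalizer_core D) hK) ?_
    have hcent : piCoreOf π (Subgroup.normalizer (D : Set G)) ≤ C[D] := by
      intro k hk
      rw [Subgroup.mem_centralizer_iff]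
      intro d hd
      have hk' := piCoreOf_le (π := π) (Subgroup.normalizer (D : Set G)) hk
      have h1 : k * d * k⁻¹ * d⁻¹ ∈ D :=
        D.mul_mem ((Subgroup.mem_normalizer_iff.mp hk' d).mp hd) (D.inv_mem hd)
      have h2 : k * (d * k⁻¹ * d⁻¹) ∈ piCoreOf π (Subgroup.normalizer (D : Set G)) :=
        Subgroup.mul_mem _ hk ((Subgroup.mem_normalizer_iff.mp (piCoreOf_normalized (Subgroup.normalizer (D : Set G))
          (Subgroup.le_normalizer (Subgroup.le_normalizer (H := D) hd))) k⁻¹).mp (inv_mem hk))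
      have h3 : piCoreOf π (Subgroup.normalizer (D : Set G)) ⊓ D = ⊥ := isPiSub_inf_eq_bot (ρ := {p}) (isPiSub_piCoreOf (Subgroup.normalizer (D : Set G)))
        (fun q hq hqd => by
          obtain ⟨j, hj⟩ := hD.exists_card_eq
          rw [hj] at hqd
          exact (Nat.prime_dvd_prime_iff_eq hq Fact.out).mp (hq.dvd_of_dvd_pow hqd))
        fun q _ hq hqp => hp (Set.mem_singleton_iff.mp hqp ▸ hq)
      have h4 : k * d * k⁻¹ * d⁻¹ ∈ piCoreOf π (Subgroup.normalizer (D : Set G)) ⊓ D :=
        ⟨by simpa [mul_assoc] using h2, h1⟩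
      rw [h3, Subgroup.mem_bot, mul_inv_eq_one, mul_inv_eq_iff_eq_mul] at h4
      exact h4.symm
    refine le_piCoreOf hcent ?_ (isPiSub_piCoreOf (Subgroup.normalizer (D : Set G)))
    exact (BlocksCore.centralizer_le_normalizer' D).trans
      (Subgroup.le_normalizer.trans (piCoreOf_normalized (Subgroup.normalizer (D : Set G))))
  have hmem : ∀ n : (Subgroup.normalizer (D : Set G)), (n : G) ∈ piCoreOf π C[D] ↔ n ∈ piCore π (Subgroup.normalizer (D : Set G)) := fun n => by
    rw [hcore, ← subgroupOf_piCoreOf (Subgroup.normalizer (D : Set G))]; rfl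
  refine key.symm.trans ⟨fun h n hn θ hθ => h θ hθ n ((hmem n).mpr hn),
    fun h θ hθ n hn => h n ((hmem n).mp hn) θ hθ⟩

/-- If the normalizer block kills the core, so do all pairs of the block. -/
theorem coreInKer_of_correspondent (hM : IsPModular p M) (hp : p ∉ π) {B : Set (IrrCharacter G)}
    {D : Subgroup G} (hBD : IsDefectGroup p M B D)
    {B₁ : Set (IrrCharacter (Subgroup.normalizer (D : Set G)))}
    (hB₁ : IsInducedBlock M (Subgroup.normalizer (D : Set G)) B₁ B)
    (hB₁D : IsDefectGroup p M B₁ (D.subgroupOf (Subgroup.normalizer (D : Set G))))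
    (hker : ∀ n : Subgroup.normalizer (D : Set G),
      n ∈ piCore π (Subgroup.normalizer (D : Set G)) → n ∈ blockKer B₁)
    {Q : Subgroup G} {f : Set (IrrCharacter C[Q])} (hf : IsBrauerPairOf p M B Q f) :
    CoreInKer π (⟨Q, f⟩ : BrauerPairIdx G) := by
  have := isPrime hM
  obtain ⟨e, he⟩ := exists_pairOf_of_subConj hM hf.2.1 hBD (isPGroup_of_isDefectGroup hBD)
    (subConj_refl D)
  obtain ⟨x, hx⟩ := exists_conj_below hM (isMaximal_of_defect hM hBD he) hf
  have h := coreInKer_conj x⁻¹ (coreInKer_down hM hp hx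
    ((coreInKer_maximal_iff hM hp hBD hB₁ hB₁D he).mpr hker))
  rwa [conjPair_conjPair, inv_mul_cancel, conjPair_one] at h

end Cfsg.Agent.BC86
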