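import Cfsg.Agent.BC86.OneBlock
import Cfsg.Agent.Lib.BlocksCore.WeakOrth
import Cfsg.Agent.Blocks88.Basic

/-!
# A characterisation of the principal block
-/

open scoped ComplexConjugate
open Cfsg.Agent.CharCore Cfsg.Agent.BlocksCore

namespace Cfsg.Agent.BC86

variable {G : Type*} [Group G] [Finite G] {p : ℕ} {M : Ideal Cfsg.AlgInt}

/-- The principal block consists of the characters with nonzero sum on `p`-regular elements. -/
theorem mem_principalBlock_iff [Fintype G] (hM : Cfsg.IsPModular p M) (ψ : Cfsg.IrrCharacter G) :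
    ψ ∈ Cfsg.principalBlock M G ↔
      ∑ g : G, (if p ∣ orderOf g then 0 else (ψ : G → ℂ) g) ≠ 0 := by
  classical
  have := isPrime hM
  refine ⟨sum_pRegular_ne_zero hM, fun hne => ?_⟩
  by_contra hn
  let one : Cfsg.IrrCharacter G := ⟨fun _ => 1, isIrrCharacter_one⟩
  have h := sum_pRegular_mul_conj hM ψ one fun hs => hn (sameBlock_symm hs)
  rw [finsum_mem_def, finsum_eq_sum_of_fintype] at h
  refine hne (Eq.trans ?_ h)
  refine Finset.sum_congr rfl fun g _ => ?_
  by_cases hg : p ∣ orderOf g <;> simp [Set.indicator, hg, one]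

/-- The principal block is stable under field automorphisms. -/
theorem galoisIrr_mem_principalBlock (hM : Cfsg.IsPModular p M) (σ : ℂ →+* ℂ)
    {ψ : Cfsg.IrrCharacter G} (hψ : ψ ∈ Cfsg.principalBlock M G) :
    Blocks88.galoisIrr σ ψ ∈ Cfsg.principalBlock M G := by
  classical
  have := Fintype.ofFinite G
  rw [mem_principalBlock_iff hM] at hψ ⊢
  intro h
  apply hψ
  refine σ.injective ?_
  rw [map_zero, map_sum]
  refine Eq.trans ?_ h
  exact Finset.sum_congr rfl fun g _ => by split_ifs <;> simp [Blocks88.galoisIrr]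

end Cfsg.Agent.BC86
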