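import Cfsg.Prelude.Def_Characters
import Cfsg.Agent.BC87.Basic
import Cfsg.Agent.Lib.CharCore.Linear
import Cfsg.Agent.Lib.CharClifford.Eigen
import Cfsg.Agent.Lib.CharClifford.Clifford
import Cfsg.Agent.Lib.CharClifford.Central

/-!
# Characters that are sums of all nontrivial linear characters on an abelian normal subgroup
-/

set_option autoImplicit false

namespace Cfsg.Agent.BC86.RootValues

open Finset
open scoped ComplexConjugate

variable {G : Type*} [Group G] [Finite G] (χ : Cfsg.IrrCharacter G)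

theorem mem_center_of_normSq (hfaith : ∀ g : G, (χ : G → ℂ) g = (χ : G → ℂ) 1 → g = 1) {g : G}
    (h : ‖(χ : G → ℂ) g‖ = ‖(χ : G → ℂ) 1‖) : g ∈ Subgroup.center G := by
  obtain ⟨n, ρ, hρ, hρχ⟩ := χ.2
  obtain ⟨c, hc⟩ := CharClifford.exists_scalar_of_norm_character_eq ρ g (by
    rw [hρχ, h, ← hρχ, Representation.char_one]; simp)
  rw [Subgroup.mem_center_iff]
  intro y
  have he : ρ (y * g) = ρ (g * y) := by
    rw [map_mul, map_mul, hc]; simp
  have h1 : ρ ((g * y)⁻¹ * (y * g)) = 1 := by
    rw [map_mul, he, ← map_mul, inv_mul_cancel, map_one]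
  have := hfaith ((g * y)⁻¹ * (y * g)) (by
    rw [← hρχ]; simp only [Representation.character, h1, map_one])
  exact (inv_mul_eq_one.1 this).symm

theorem normSq_of_mem_center {z : G} (hz : z ∈ Subgroup.center G) :
    ‖(χ : G → ℂ) z‖ = ‖(χ : G → ℂ) 1‖ := by
  obtain ⟨n, ρ, hρ, hρχ⟩ := χ.2
  obtain ⟨c, hc⟩ := CharClifford.exists_scalar_of_mem_center ρ hz
  have hd : (Module.finrank ℂ (Fin n → ℂ) : ℂ) ≠ 0 := by
    rw [← Representation.char_one ρ, hρχ]; exact CharCore.irr_apply_one_ne_zero χ
  have hck : c ^ orderOf z = 1 := by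
    have h := congrArg (LinearMap.trace ℂ (Fin n → ℂ)) (map_pow ρ z (orderOf z))
    rw [pow_orderOf_eq_one, map_one, hc, smul_pow, one_pow, map_smul, LinearMap.trace_one,
      smul_eq_mul] at h
    exact (mul_eq_right₀ hd).1 h.symm
  rw [← hρχ, Representation.char_one]
  simp only [Representation.character]
  rw [CharClifford.scalar_eq_of_trace hc, norm_mul,
    Complex.norm_eq_one_of_pow_eq_one hck (orderOf_pos z).ne', one_mul]

variable (V : Subgroup G) [V.Normal] [Fintype V] (hab : ∀ u v : V, u * v = v * u)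

/-- The commutator `u (x u⁻¹ x⁻¹)` as an element of `V`. -/
def comm (x : G) (u : V) : V :=
  u * ⟨x * (u : G)⁻¹ * x⁻¹, (inferInstance : V.Normal).conj_mem _ (inv_mem u.2) x⟩

include hab in
theorem hom_of_irr (φ : Cfsg.IrrCharacter V) :
    ∃ f : V →* ℂˣ, (φ : V → ℂ) = fun v => (f v : ℂ) :=
  CharCore.IsCharacter.exists_hom_of_degree_one (CharCore.irr_isCharacter φ)
    (BC87.apply_one_eq_one_of_comm hab φ)

variable (hm : ∀ φ : Cfsg.IrrCharacter V, Cfsg.classInner (fun v : V => (χ : G → ℂ) v) φ =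
  if (φ : V → ℂ) = 1 then 0 else 1)

include hab hm in
open scoped Classical in
/-- The norm of `χ` on the coset `V x` counts the nontrivial linear characters fixed by `x`. -/
theorem sum_coset_mul_conj (x : G) :
    ∑ v : V, (χ : G → ℂ) (v * x) * conj ((χ : G → ℂ) (v * x)) =
      (Nat.card V : ℂ) * ((univ.filter fun φ : Cfsg.IrrCharacter V =>
        (φ : V → ℂ) ≠ 1 ∧ CharClifford.conjFun V x (φ : V → ℂ) = (φ : V → ℂ)).card : ℂ) := by
  classical
  obtain ⟨n, ρ, hρ, hρχ⟩ := χ.2
  set h : V → ℂ := fun v => (χ : G → ℂ) (v * x) with hdef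
  have hcl : Cfsg.IsClassFunction V h := fun a b => by
    rw [show b * a * b⁻¹ = a by rw [hab b a, mul_inv_cancel_right]]
  have hpars := CharCore.classInner_eq_sum hcl hcl
  rw [CharCore.classInner_def, inv_mul_eq_iff_eq_mul₀ (Nat.cast_ne_zero.2 Nat.card_pos.ne')] at hpars
  rw [show ∑ v : V, (χ : G → ℂ) (v * x) * conj ((χ : G → ℂ) (v * x)) = ∑ v, h v * conj (h v) from rfl,
    hpars, Finset.natCast_card_filter]
  congr 1
  refine sum_congr rfl fun φ _ => ?_
  obtain ⟨f, hf⟩ := hom_of_irr V hab φ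
  by_cases hfix : CharClifford.conjFun V x (φ : V → ℂ) = (φ : V → ℂ)
  swap
  · rw [if_neg fun hh => hfix hh.2]
    suffices hS : Cfsg.classInner h φ = 0 by rw [hS, zero_mul]
    obtain ⟨u, hu⟩ := Function.ne_iff.1 hfix
    set δ : V := comm V x u
    have hper : ∀ v : V, h (v * δ) = h v := fun v => by
      have e : ((v * δ : V) : G) * x = u * ((v : G) * x) * (u : G)⁻¹ := by
        simp only [δ, comm, Subgroup.coe_mul, inv_mul_cancel_right]
        have hc := congrArg Subtype.val (hab v u)
        simp only [Subgroup.coe_mul] at hc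
        rw [show (v : G) * ((u : G) * (x * (u : G)⁻¹ * x⁻¹)) * x = (v : G) * u * x * (u : G)⁻¹ by group,
          hc]
        group
      simp only [hdef]
      rw [e, CharCore.irr_isClassFunction χ]
    have hne : (f δ : ℂ) ≠ 1 := by
      intro hδ
      apply hu
      have e : comm V x u = u * (⟨x * (u : G) * x⁻¹,
          (inferInstance : V.Normal).conj_mem _ u.2 x⟩ : V)⁻¹ :=
        congrArg (u * ·) (Subtype.ext (by simp [mul_assoc]))
      rw [CharClifford.conjFun_apply, hf]
      simp only [δ, e, map_mul, map_inv] at hδ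
      exact congrArg Units.val (mul_inv_eq_one.1 (Units.ext hδ)).symm
    have hS : Cfsg.classInner h φ = (f δ : ℂ) * Cfsg.classInner h φ := by
      have hsum : ∑ v : V, h v * conj (f v : ℂ) = (f δ : ℂ) * ∑ v : V, h v * conj (f v : ℂ) := by
        conv_lhs => rw [← Fintype.sum_equiv (Equiv.mulRight δ) (fun v => h (v * δ) * conj (f (v * δ) : ℂ))
          (fun v => h v * conj (f v : ℂ)) fun v => rfl]
        have hnorm : (f δ : ℂ) * conj (f δ : ℂ) = 1 := by
          rw [Complex.mul_conj', CharCore.norm_hom_apply]; simp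
        rw [mul_sum]
        have hhalf : ∑ v : V, h (v * δ) * conj (f (v * δ) : ℂ) =
            conj (f δ : ℂ) * ∑ v : V, h v * conj (f v : ℂ) := by
          rw [mul_sum]
          exact sum_congr rfl fun v _ => by rw [hper, map_mul, Units.val_mul, map_mul]; ring
        rw [hhalf]
        have hsum2 : conj (f δ : ℂ) * ∑ v : V, h v * conj (f v : ℂ) =
            ∑ v : V, h v * conj (f v : ℂ) := by
          rw [← hhalf]
          exact Fintype.sum_equiv (Equiv.mulRight δ) _ _ fun v => rfl
        rw [hsum2, ← mul_sum]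
        calc ∑ v : V, h v * conj (f v : ℂ)
            = ((f δ : ℂ) * conj (f δ : ℂ)) * ∑ v : V, h v * conj (f v : ℂ) := by rw [hnorm, one_mul]
          _ = _ := by rw [mul_assoc, hsum2]
      rw [CharCore.classInner_def, hf]
      calc _ = (Nat.card V : ℂ)⁻¹ * ((f δ : ℂ) * ∑ v : V, h v * conj (f v : ℂ)) := by rw [← hsum]
        _ = _ := by ring
    by_contra hne0
    exact hne ((mul_eq_right₀ hne0).1 hS.symm)
  -- the fixed case
  set E : Module.End ℂ (Fin n → ℂ) := (Nat.card V : ℂ)⁻¹ • ∑ v : V, conj (f v : ℂ) • ρ v with hE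
  have hV0 : (Nat.card V : ℂ) ≠ 0 := Nat.cast_ne_zero.2 Nat.card_pos.ne'
  have hEv : ∀ w : V, ρ w * E = (f w : ℂ) • E := fun w => by
    simp only [hE, mul_smul_comm, Finset.mul_sum, ← map_mul, smul_comm (f w : ℂ)]
    congr 1
    rw [Finset.smul_sum]
    refine Fintype.sum_equiv (Equiv.mulLeft w) _ _ fun v => ?_
    simp only [Equiv.coe_mulLeft, Subgroup.coe_mul, map_mul, Units.val_mul, smul_smul]
    congr 1
    have hnorm : (f w : ℂ) * conj (f w : ℂ) = 1 := by
      rw [Complex.mul_conj', CharCore.norm_hom_apply]; simp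
    linear_combination (-conj (f v : ℂ)) * hnorm
  have hEE : E * E = E := by
    conv_lhs => arg 1; rw [hE]
    rw [smul_mul_assoc, Finset.sum_mul,
      sum_congr rfl (g := fun _ => E) fun v _ => by
        rw [smul_mul_assoc, hEv, smul_smul, mul_comm, Complex.mul_conj', CharCore.norm_hom_apply]
        simp,
      Finset.sum_const, Finset.card_univ, ← Nat.cast_smul_eq_nsmul ℂ, smul_smul,
      ← Nat.card_eq_fintype_card, inv_mul_cancel₀ hV0, one_smul]
  have hfx : ∀ v : V, (f ⟨x * (v : G) * x⁻¹, (inferInstance : V.Normal).conj_mem _ v.2 x⟩ : ℂ) = f v :=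
    fun v => by
      have := congrFun hfix v
      rwa [CharClifford.conjFun_apply, hf] at this
  have hEx : ρ x * E = E * ρ x := by
    simp only [hE, mul_smul_comm, smul_mul_assoc, Finset.mul_sum, Finset.sum_mul, ← map_mul]
    congr 1
    refine Fintype.sum_equiv (MulAut.conjNormal (H := V) x).toEquiv _ _ fun v => ?_
    rw [show (f ((MulAut.conjNormal (H := V) x).toEquiv v) : ℂ) = f v from
      (congrArg (fun w => (f w : ℂ)) (Subtype.ext rfl)).trans (hfx v)]
    congr 2
    simp [mul_assoc]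
  have hc : Cfsg.classInner h φ = LinearMap.trace ℂ (Fin n → ℂ) (E * ρ x) := by
    rw [CharCore.classInner_def]
    simp only [hE, smul_mul_assoc, Finset.sum_mul, ← map_mul, map_smul, map_sum, smul_eq_mul,
      hdef, hf, ← hρχ]
    congr 1
    exact sum_congr rfl fun v _ => mul_comm _ _
  have htrE : LinearMap.trace ℂ (Fin n → ℂ) E = if (φ : V → ℂ) = 1 then 0 else 1 := by
    rw [← hm φ, CharCore.classInner_def]
    simp only [hE, map_smul, map_sum, smul_eq_mul, hf, ← hρχ]
    congr 1
    exact sum_congr rfl fun v _ => mul_comm _ _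
  have hrank : (Module.finrank ℂ (LinearMap.range E) : ℂ) = if (φ : V → ℂ) = 1 then 0 else 1 := by
    rw [← htrE]
    exact ((LinearMap.isProj_range_iff_isIdempotentElem _).mpr hEE).trace.symm
  by_cases hφ1 : (φ : V → ℂ) = 1
  · rw [if_pos hφ1] at hrank
    have hE0 : E = 0 := LinearMap.range_eq_bot.1 (Submodule.finrank_eq_zero.1 (Nat.cast_eq_zero.1 hrank))
    rw [hc, if_neg fun hh => hh.1 hφ1, hE0]
    simp
  · rw [if_pos ⟨hφ1, hfix⟩]
    rw [if_neg hφ1] at hrank
    obtain ⟨⟨u₀, hu₀⟩, hu0, hspan⟩ := finrank_eq_one_iff'.1 (Nat.cast_eq_one.1 hrank)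
    have hEu : E u₀ = u₀ := by
      obtain ⟨w, rfl⟩ := hu₀
      exact congrArg (fun T : Module.End ℂ (Fin n → ℂ) => T w) hEE
    have hxu : ρ x u₀ ∈ LinearMap.range E := ⟨ρ x u₀, by
      have := congrArg (fun T : Module.End ℂ (Fin n → ℂ) => T u₀) hEx
      simp only [Module.End.mul_apply, hEu] at this
      exact this.symm⟩
    obtain ⟨c, hcu⟩ := hspan ⟨_, hxu⟩
    have hcu' : ρ x u₀ = c • u₀ := (congrArg Subtype.val hcu).symm
    have hck : c ^ orderOf x = 1 := by
      have hpow : ∀ k : ℕ, (ρ x ^ k) u₀ = c ^ k • u₀ := fun k => by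
        induction k with
        | zero => simp
        | succ k ih => rw [pow_succ', Module.End.mul_apply, ih, map_smul, hcu', smul_smul, pow_succ]
      have := hpow (orderOf x)
      rw [← map_pow, pow_orderOf_eq_one, map_one, Module.End.one_apply] at this
      have hu0' : u₀ ≠ 0 := fun e => hu0 (Subtype.ext e)
      exact (smul_left_injective ℂ hu0' (by simp only [one_smul]; exact this)).symm
    have hcomp : E * ρ x = c • E := by
      rw [← hEx]
      refine LinearMap.ext fun y => ?_
      obtain ⟨a, ha⟩ := hspan ⟨E y, ⟨y, rfl⟩⟩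
      have ha' : E y = a • u₀ := (congrArg Subtype.val ha).symm
      change ρ x (E y) = c • E y
      rw [ha', map_smul, hcu', smul_comm]
    rw [hc, hcomp, map_smul, htrE, if_neg hφ1, smul_eq_mul, mul_one, Complex.mul_conj',
      Complex.norm_eq_one_of_pow_eq_one hck (orderOf_pos x).ne']
    simp

end Cfsg.Agent.BC86.RootValues
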