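import Cfsg.Agent.BC86.Deg
import Cfsg.Agent.Char2x2.SLEven
import Cfsg.Agent.Char2x2.SLOddTable

/-!
# Degrees of `SL₂(q)` and its central quotient
-/

open Cfsg.Agent.Char2x2

namespace Cfsg.Agent.BC86

variable {F : Type*} [Field F] [Fintype F] [DecidableEq F]

local notation "SL2" => Matrix.SpecialLinearGroup (Fin 2) F

theorem exists_sq_eq_one_of_mem_center {z : SL2} (hz : z ∈ Subgroup.center SL2) :
    ∃ r : F, r ^ 2 = 1 ∧ sm z = !![r, 0; 0, r] := by
  obtain ⟨r, hr, hr'⟩ := Matrix.SpecialLinearGroup.mem_center_iff.mp hz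
  refine ⟨r, by simpa using hr, ?_⟩
  rw [show sm z = Matrix.scalar (Fin 2) r from hr'.symm]
  ext i j
  fin_cases i <;> fin_cases j <;> simp

theorem stS_of_mem_center {z : SL2} (hz : z ∈ Subgroup.center SL2) :
    stS z = (Fintype.card F : ℂ) := by
  obtain ⟨r, hr, hm⟩ := exists_sq_eq_one_of_mem_center hz
  have hr0 : IsUnit r := isUnit_iff_ne_zero.mpr fun h => by simp [h] at hr
  simp only [stS, trivS, Pi.sub_apply, Pi.one_apply, psS_apply, hm]
  simp [fixRoot, MulChar.one_apply hr0]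

/-- Only the Steinberg character of `SL₂(q)` has degree divisible by `p`, for `q ≥ 4`. -/
theorem eq_stIrr_of_dvd (p : ℕ) [Fact p.Prime] [CharP F p] (hq : 4 ≤ Fintype.card F)
    (χ : Cfsg.IrrCharacter SL2) (h : p ∣ Cfsg.charDegree (χ : SL2 → ℂ)) : χ = stIrr := by
  have hp : p.Prime := Fact.out
  obtain ⟨n, -, hn⟩ := FiniteField.card F p
  have hpq : p ∣ Fintype.card F := hn ▸ dvd_pow_self p n.ne_zero
  have h1 : ∀ m, 2 * m + 1 = Fintype.card F ∨ 2 * m = Fintype.card F + 1 ∨ m = 1 ∨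
      m = Fintype.card F + 1 ∨ m + 1 = Fintype.card F → ¬ p ∣ m := by
    intro m hm hd
    refine hp.ne_one (Nat.dvd_one.mp ?_)
    rcases hm with e | e | e | e | e
    · exact (Nat.dvd_add_right (hd.mul_left 2)).mp (e ▸ hpq)
    · exact (Nat.dvd_add_right hpq).mp (e ▸ hd.mul_left 2)
    · exact e ▸ hd
    · exact (Nat.dvd_add_right hpq).mp (e ▸ hd)
    · exact (Nat.dvd_add_right hd).mp (e ▸ hpq)
  have key : ∀ m : ℕ, (χ : SL2 → ℂ) 1 = (m : ℂ) → p ∣ m := fun m hm => by
    simpa [Cfsg.charDegree, hm] using h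
  by_cases h2 : p = 2
  · subst h2
    rcases sl_even_cases χ with ⟨-, e⟩ | ⟨e, -⟩ | ⟨-, e, -⟩ | ⟨-, e, -⟩
    · exact absurd (key 1 (by rw [e, Nat.cast_one])) (h1 1 (by omega))
    · exact e
    · exact absurd (key _ (by rw [e]; push_cast; rfl)) (h1 (Fintype.card F + 1) (by omega))
    · exact absurd (key _ (by rw [e, Nat.cast_sub (by omega), Nat.cast_one]))
        (h1 (Fintype.card F - 1) (by omega))
  · have hodd : Odd (Fintype.card F) := hn ▸ (hp.odd_of_ne_two h2).pow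
    obtain ⟨j, hj⟩ := id hodd
    rcases sl_odd_cases hodd χ with ⟨-, e⟩ | ⟨e, -⟩ | ⟨-, e⟩ | ⟨-, e⟩ | ⟨-, e⟩ | ⟨-, e⟩
    · exact absurd (key _ e) (h1 _ (by omega))
    · exact e
    · exact absurd (key _ e) (h1 _ (by omega))
    · exact absurd (key _ e) (h1 _ (by omega))
    · exact absurd (key _ e) (h1 _ (by omega))
    · exact absurd (key _ e) (h1 _ (by omega))

/-- The element `-1` of `SL₂`. -/
def negOne : SL2 := scalarSL ⟨-1, by ring⟩

theorem negOne_mul_self : (negOne : SL2) * negOne = 1 := by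
  refine Subtype.ext ?_
  show ((-1 : F) • (1 : Matrix (Fin 2) (Fin 2) F)) * ((-1 : F) • 1) = 1
  simp

theorem negOne_mem_center : (negOne : SL2) ∈ Subgroup.center SL2 :=
  Subgroup.mem_center_iff.mpr fun g => Subtype.ext (by
    show (g : Matrix (Fin 2) (Fin 2) F) * ((-1 : F) • 1) = ((-1 : F) • 1) * g
    simp)

theorem negOne_ne_one (h2 : (2 : F) ≠ 0) : (negOne : SL2) ≠ 1 := fun h => h2 (by
  have h0 : sm (negOne : SL2) 0 0 = sm (1 : SL2) 0 0 := by rw [h]
  simp [negOne, scalarSL, sm] at h0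
  linear_combination -h0)

theorem eq_one_or_negOne_of_mem_center {z : SL2} (hz : z ∈ Subgroup.center SL2) :
    z = 1 ∨ z = negOne := by
  obtain ⟨r, hr, hr'⟩ := Matrix.SpecialLinearGroup.mem_center_iff.mp hz
  have hr2 : r * r = 1 := by simpa [sq] using hr
  rcases mul_self_eq_one_iff.mp hr2 with rfl | rfl
  · exact Or.inl (Subtype.ext (by rw [← hr']; simp))
  · refine Or.inr (Subtype.ext ?_)
    rw [← hr']
    ext i j
    fin_cases i <;> fin_cases j <;> simp [negOne, scalarSL]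

theorem psS_negOne (α : MulChar F ℂ) :
    psS α negOne = α (-1) * ((Fintype.card F : ℂ) + 1) := by
  have hm : sm (negOne : SL2) = !![-1, 0; 0, -1] := by
    ext i j
    fin_cases i <;> fin_cases j <;> simp [negOne, scalarSL, sm]
  simp only [psS_apply, hm]
  simp [fixRoot]
  ring

/-- A central involution acts by a sign. -/
theorem apply_central_involution {G : Type*} [Group G] [Finite G] (χ : Cfsg.IrrCharacter G)
    {z : G} (hz : z ∈ Subgroup.center G) (hz2 : z * z = 1) :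
    (χ : G → ℂ) z = (χ : G → ℂ) 1 ∨ (χ : G → ℂ) z = -(χ : G → ℂ) 1 := by
  have hinv : z⁻¹ = z := inv_eq_of_mul_eq_one_right hz2
  obtain ⟨n, ρ, hirr, hρ⟩ := χ.2
  obtain ⟨c, hc⟩ := CharClifford.exists_scalar_of_mem_center ρ hz
  have h1 : (χ : G → ℂ) z = c * (χ : G → ℂ) 1 := by
    rw [← hρ, Representation.char_one]
    exact CharClifford.scalar_eq_of_trace hc
  have h2 : (χ : G → ℂ) 1 = c * c * (χ : G → ℂ) 1 := by
    rw [← hρ, Representation.char_one]
    refine (Eq.trans ?_ (CharClifford.scalar_eq_of_trace (c := c * c) (f := ρ (z * z)) ?_))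
    · rw [hz2, map_one, LinearMap.trace_one]
    · rw [map_mul, hc, smul_mul_smul_comm, mul_one]
  have h3 : c * c = 1 := (mul_eq_right₀ (CharCore.irr_apply_one_ne_zero χ)).mp h2.symm
  rcases mul_self_eq_one_iff.mp h3 with h | h
  · exact Or.inl (by rw [h1, h, one_mul])
  · exact Or.inr (by rw [h1, h, neg_one_mul])

/-- Twice the sum of the signs of the principal series. -/
theorem sum_psSetS_negOne (hodd : Odd (Fintype.card F)) :
    ∑ χ ∈ psSetS (F := F), (χ : SL2 → ℂ) 1 * (χ : SL2 → ℂ) negOne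
      = -(1 + etaC (-1 : F)) * ((Fintype.card F : ℂ) + 1) ^ 2 / 2 := by
  classical
  obtain ⟨ε, hε⟩ := exists_not_isSquare hodd
  set S := Finset.univ.filter fun α : MulChar F ℂ => α ^ 2 ≠ 1 with hS
  let f : MulChar F ℂ → Cfsg.IrrCharacter SL2 := fun α =>
    if h : α ^ 2 ≠ 1 then ⟨_, (isIrrCharacter_psS_iff α).mpr h⟩ else trivIrr
  have hf : ∀ α ∈ S, ((f α : Cfsg.IrrCharacter SL2) : SL2 → ℂ) = psS α := by
    intro α hα
    have h : α ^ 2 ≠ 1 := (Finset.mem_filter.mp hα).2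
    simp [f, h]
  have hmaps : ∀ α ∈ S, f α ∈ psSetS (F := F) := fun α hα =>
    mem_psSetS.mpr ⟨α, (Finset.mem_filter.mp hα).2, hf α hα⟩
  have hfib : ∑ α ∈ S, psS α 1 * psS α negOne
      = 2 * ∑ χ ∈ psSetS (F := F), (χ : SL2 → ℂ) 1 * (χ : SL2 → ℂ) negOne := by
    rw [← Finset.sum_fiberwise_of_maps_to hmaps, Finset.mul_sum]
    refine Finset.sum_congr rfl fun χ hχ => ?_
    obtain ⟨α, hα, e⟩ := mem_psSetS.mp hχ
    rw [Finset.sum_congr rfl fun β hβ => show psS β 1 * psS β negOne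
      = (χ : SL2 → ℂ) 1 * (χ : SL2 → ℂ) negOne by
        rw [← (Finset.mem_filter.mp hβ).2, hf β (Finset.mem_filter.mp hβ).1],
      Finset.sum_const, nsmul_eq_mul]
    congr 1
    rw [show (2 : ℂ) = ((2 : ℕ) : ℂ) by norm_num]
    congr 1
    rw [Finset.card_eq_two]
    refine ⟨α, α⁻¹, (mulChar_sq_ne_one_iff α).mp hα, ?_⟩
    ext β
    simp only [Finset.mem_filter, Finset.mem_insert, Finset.mem_singleton]
    constructor
    · rintro ⟨hβ, h⟩
      exact psS_eq_iff.mp (e.symm.trans (h ▸ hf β hβ))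
    · intro h
      have hβ : β ∈ S := by
        refine Finset.mem_filter.mpr ⟨Finset.mem_univ _, ?_⟩
        rcases h with rfl | rfl
        · exact hα
        · rwa [inv_pow, ne_eq, inv_eq_one]
      refine ⟨hβ, Subtype.ext ?_⟩
      rw [hf β hβ, e]
      exact (psS_eq_iff.mpr h).symm
  have hall : ∑ α : MulChar F ℂ, α (-1 : F) = 0 := by
    have h2 : (2 : F) ≠ 0 := two_ne_zero_of_odd hodd
    have := sum_mulChar (F := F) (-1 : Fˣ)
    rw [if_neg (fun h => h2 (by
      have := congrArg Units.val h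
      simp at this
      linear_combination -this))] at this
    simpa using this
  have hsplit : ∑ α ∈ S, α (-1 : F) = -(1 + etaC (-1 : F)) := by
    have hT : Finset.univ.filter (fun α : MulChar F ℂ => ¬ α ^ 2 ≠ 1) = {1, etaC} := by
      ext α
      simp only [ne_eq, not_not, Finset.mem_filter, Finset.mem_univ, true_and, Finset.mem_insert,
        Finset.mem_singleton]
      refine ⟨fun h => (eq_or_ne α 1).imp id (eq_etaC h), ?_⟩
      rintro (rfl | rfl)
      exacts [one_pow 2, etaC_sq_one]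
    have h := Finset.sum_filter_add_sum_filter_not Finset.univ
      (fun α : MulChar F ℂ => α ^ 2 ≠ 1) (fun α => α (-1 : F))
    rw [hall, hT, Finset.sum_pair (etaC_ne_one hε).symm, MulChar.one_apply isUnit_one.neg] at h
    linear_combination h
  rw [Finset.sum_congr rfl fun α _ => by rw [psS_one_apply, psS_negOne],
    ← Finset.mul_sum, ← Finset.sum_mul, hsplit] at hfib
  linear_combination (-1 / 2 : ℂ) * hfib

/-- For odd `q > 3` some cuspidal character of degree `q - 1` is trivial on the centre. -/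
theorem exists_full_cusp_even (hodd : Odd (Fintype.card F)) (hq : 3 < Fintype.card F) :
    ∃ χ ∈ cuspSetS (F := F), χ ∉ halfSetS ∧ (χ : SL2 → ℂ) negOne = (χ : SL2 → ℂ) 1 := by
  classical
  obtain ⟨ε, hε⟩ := exists_not_isSquare hodd
  by_contra hcon
  push Not at hcon
  obtain ⟨c1, c2, c3⟩ := half_casts hodd
  have h0 : ∑ χ : Cfsg.IrrCharacter SL2, (χ : SL2 → ℂ) 1 * (χ : SL2 → ℂ) negOne = 0 :=
    (CharCore.sum_degree_mul_apply _).trans (if_neg (negOne_ne_one (two_ne_zero_of_odd hodd)))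
  rw [sum_split, sum_psSetS_negOne hodd] at h0
  have hpair : ∑ χ ∈ pairSetS (F := F), (χ : SL2 → ℂ) 1 * (χ : SL2 → ℂ) negOne
      = etaC (-1 : F) * ((Fintype.card F : ℂ) + 1) ^ 2 / 2 := by
    rw [Finset.sum_congr rfl (g := fun χ : Cfsg.IrrCharacter SL2 =>
        ((Fintype.card F : ℂ) + 1) / 2 * (χ : SL2 → ℂ) negOne)
        (fun χ hχ => by rw [← (pair_data hε χ hχ).1]; ring),
      ← Finset.mul_sum, sum_pairSetS hε, psS_negOne]
    ring
  obtain ⟨hcard, -, hfull⟩ := half_data hodd hε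
  have hhalf : halfSetS (F := F) ⊆ cuspSetS := fun χ hχ => (mem_halfSetS.mp hχ).1
  rw [← Finset.sum_sdiff hhalf, hpair] at h0
  set m : ℝ := (Fintype.card F : ℝ) - 1 with hm
  have hmc : (m : ℂ) = (Fintype.card F : ℂ) - 1 := by rw [hm]; push_cast; rfl
  have hfull' : ∑ χ ∈ cuspSetS (F := F) \ halfSetS, (χ : SL2 → ℂ) 1 * (χ : SL2 → ℂ) negOne
      = -(((Fintype.card F - 1) / 2 : ℕ) : ℂ) * (m : ℂ) ^ 2 := by
    have hterm : ∀ χ ∈ cuspSetS (F := F) \ halfSetS,
        (χ : SL2 → ℂ) 1 * (χ : SL2 → ℂ) negOne = -(m : ℂ) ^ 2 := by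
      intro χ hχ
      obtain ⟨h1, h2⟩ := Finset.mem_sdiff.mp hχ
      rw [(apply_central_involution χ negOne_mem_center negOne_mul_self).resolve_left
        (hcon χ h1 h2), (hfull χ h1 h2).1, hmc]
      ring
    rw [Finset.sum_congr rfl hterm, Finset.sum_const, card_fullSetS hodd hε, nsmul_eq_mul]
    ring
  rw [hfull'] at h0
  have hbound : (∑ χ ∈ halfSetS (F := F), (χ : SL2 → ℂ) 1 * (χ : SL2 → ℂ) negOne).re
      ≤ m ^ 2 / 2 := by
    rw [Complex.re_sum]
    refine (Finset.sum_le_sum (g := fun _ => m ^ 2 / 4) fun χ hχ => ?_).trans (le_of_eq ?_)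
    · have hd : (χ : SL2 → ℂ) 1 = ((m / 2 : ℝ) : ℂ) := by
        push_cast; rw [hmc, ← (mem_halfSetS.mp hχ).2]; ring
      rcases apply_central_involution χ negOne_mem_center negOne_mul_self with e | e <;>
        rw [e, hd]
      · rw [← Complex.ofReal_mul, Complex.ofReal_re]; nlinarith
      · rw [mul_neg, ← Complex.ofReal_mul, ← Complex.ofReal_neg, Complex.ofReal_re]
        nlinarith [sq_nonneg m]
    · rw [Finset.sum_const, hcard, nsmul_eq_mul]; push_cast; ring
  have hre := congrArg Complex.re (show (∑ χ ∈ halfSetS (F := F),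
      (χ : SL2 → ℂ) 1 * (χ : SL2 → ℂ) negOne)
        = (((((Fintype.card F - 1) / 2 : ℕ) : ℝ) * m ^ 2 - m ^ 2 / 2 : ℝ) : ℂ) by
    simp only [trivIrr, stIrr, trivS, Pi.one_apply, one_mul, stS_one,
      stS_of_mem_center negOne_mem_center] at h0
    push_cast
    rw [hmc] at h0 ⊢
    linear_combination h0)
  rw [Complex.ofReal_re] at hre
  have h2 : (2 : ℝ) ≤ (((Fintype.card F - 1) / 2 : ℕ) : ℝ) := by
    obtain ⟨j, hj⟩ := hodd
    exact_mod_cast (show 2 ≤ (Fintype.card F - 1) / 2 by omega)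
  have hm0 : 0 < m ^ 2 := by
    have : (3 : ℝ) < (Fintype.card F : ℝ) := by exact_mod_cast hq
    have : 0 < m := by rw [hm]; linarith
    positivity
  nlinarith

/-- For odd `q > 5` some principal series character is trivial on the centre. -/
theorem exists_ps_even (hodd : Odd (Fintype.card F)) (hq : 5 < Fintype.card F) :
    ∃ χ ∈ psSetS (F := F), (χ : SL2 → ℂ) negOne = (χ : SL2 → ℂ) 1 := by
  obtain ⟨β, hβ⟩ := MulChar.exists_mulChar_orderOf F (R := ℂ) (n := Fintype.card F - 1) dvd_rfl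
    (Complex.isPrimitiveRoot_exp _ (by omega))
  have hα : (β ^ 2) ^ 2 ≠ 1 := by
    intro h
    rw [← pow_mul, ← orderOf_dvd_iff_pow_eq_one, hβ] at h
    have := Nat.le_of_dvd (by norm_num) h
    omega
  refine ⟨⟨_, (isIrrCharacter_psS_iff _).mpr hα⟩, mem_psSetS.mpr ⟨_, hα, rfl⟩, ?_⟩
  show psS (β ^ 2) negOne = psS (β ^ 2) 1
  rw [psS_negOne, psS_one_apply, MulChar.pow_apply' _ two_ne_zero, ← map_pow, neg_one_sq,
    map_one, one_mul]

end Cfsg.Agent.BC86
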