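import Cfsg.Agent.BC86.KBound
import Cfsg.Agent.BC84.Subsection
import Cfsg.Agent.Lib.CharCore.BlockCount

/-!
# Sections at an element of the centre of a defect group

For a major subsection `(y, b)` the coordinates of the section at `y` of a character of height `h`
are divisible by `p ^ h`, one of them exactly; over a set of non-conjugate `p`-elements the squared
norms of the sections add up to at most the norm of the character.
-/

open scoped ComplexConjugate

namespace Cfsg.Agent.BC86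

open BlocksCore BlocksDefect BlkChar

variable {G : Type*} [Group G] [Finite G] {p : ℕ} [Fact p.Prime] {M : Ideal AlgInt}

noncomputable local instance fintypeSub (H : Subgroup G) : Fintype H := Fintype.ofFinite _

local notation "C[" y "]" => Subgroup.centralizer ({y} : Set G)

theorem sectionInner_eq_inner (y : G) (f : G → ℂ) (θ : C[y] → ℂ) :
    sectionInner p y f θ =
      classInner (fun c : C[y] => f (y * (c : G))) (pRegularPart p θ) := by
  simp only [sectionInner, classInner]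
  congr 1
  refine Finset.sum_congr rfl fun c _ => ?_
  simp only [pRegularPart, IsPRegular]
  by_cases hc : p ∣ orderOf c <;> simp [hc]

/-- The squared coordinates of a section sum to its norm. -/
theorem sum_sectionInner_normSq {y : G} {f : G → ℂ} (hf : IsClassFunction G f) :
    ∑ ρ : IrrCharacter C[y], Complex.normSq (sectionInner p y f (ρ : C[y] → ℂ)) =
      ((Nat.card C[y] : ℝ))⁻¹ *
        ∑ c ∈ Finset.univ.filter (fun c : C[y] => ¬ p ∣ orderOf c),
          Complex.normSq (f (y * (c : G))) := by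
  set F : C[y] → ℂ := pRegularPart p fun c : C[y] => f (y * (c : G)) with hF
  have hFc : IsClassFunction C[y] F := by
    intro g t
    show pRegularPart p _ _ = pRegularPart p _ _
    unfold pRegularPart
    by_cases hg : p ∣ orderOf g
    · rw [if_neg (by simpa [IsPRegular, orderOf_conjugate] using hg),
        if_neg (by simpa [IsPRegular] using hg)]
    · rw [if_pos (by simpa [IsPRegular, orderOf_conjugate] using hg),
        if_pos (by simpa [IsPRegular] using hg)]
      exact BC84.isClassFunction_translate_of y hf g t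
  have hu : ∀ ρ : IrrCharacter C[y],
      classInner F (ρ : C[y] → ℂ) = sectionInner p y f (ρ : C[y] → ℂ) := by
    intro ρ
    simp only [sectionInner, classInner, hF, pRegularPart, IsPRegular]
    congr 1
    refine Finset.sum_congr rfl fun c _ => ?_
    by_cases hc : p ∣ orderOf c <;> simp [hc]
  have h := CharCore.classInner_eq_sum hFc hFc
  simp only [hu, Complex.mul_conj] at h
  apply Complex.ofReal_injective
  push_cast
  rw [← h, classInner]
  congr 1
  rw [Finset.sum_filter]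
  refine Finset.sum_congr rfl fun c _ => ?_
  simp only [hF, pRegularPart, IsPRegular]
  by_cases hc : p ∣ orderOf c <;> simp [hc, Complex.mul_conj]

/-- Bessel's inequality for the sections at non-conjugate `p`-elements. -/
theorem sum_sections_le {f : G → ℂ} (hf : IsClassFunction G f) (X : Finset G)
    (hX : ∀ x ∈ X, ∃ k : ℕ, orderOf x = p ^ k) (hinj : ∀ x ∈ X, ∀ x' ∈ X, IsConj x x' → x = x') :
    ∑ x ∈ X, ∑ ρ : IrrCharacter C[x], Complex.normSq (sectionInner p x f (ρ : C[x] → ℂ)) ≤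
      (Nat.card G : ℝ)⁻¹ * ∑ᶠ g : G, Complex.normSq (f g) := by
  classical
  have := Fintype.ofFinite G
  rw [finsum_eq_sum_of_fintype]
  set S : G → Finset G := fun x => Finset.univ.filter fun g => ∃ z, IsPPart p g z ∧ IsConj z x
    with hS
  have hsec : ∀ x ∈ X, ∑ ρ : IrrCharacter C[x],
      Complex.normSq (sectionInner p x f (ρ : C[x] → ℂ)) =
        (Nat.card G : ℝ)⁻¹ * ∑ g ∈ S x, Complex.normSq (f g) := by
    intro x hx
    have h := CharCore.BlockSections.sum_one_section (F := fun g => ((Complex.normSq (f g) : ℝ) : ℂ))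
      (Fact.out : p.Prime) (fun g t => by simp only [hf g t]) (hX x hx) (S x)
      (fun g => by simp [hS])
    have h' : (Nat.card C[x] : ℝ) * ∑ g ∈ S x, Complex.normSq (f g) =
        (Nat.card G : ℝ) * ∑ c ∈ Finset.univ.filter (fun c : C[x] => ¬ p ∣ orderOf c),
          Complex.normSq (f (x * (c : G))) := Complex.ofReal_injective (by push_cast; exact h)
    rw [sum_sectionInner_normSq hf]
    have hC : (Nat.card C[x] : ℝ) ≠ 0 := Nat.cast_ne_zero.mpr Nat.card_pos.ne'
    have hG : (Nat.card G : ℝ) ≠ 0 := Nat.cast_ne_zero.mpr Nat.card_pos.ne'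
    field_simp
    linear_combination -h'
  rw [Finset.sum_congr rfl hsec, ← Finset.mul_sum, ← Finset.sum_biUnion]
  · exact mul_le_mul_of_nonneg_left (Finset.sum_le_sum_of_subset_of_nonneg (Finset.subset_univ _)
      fun g _ _ => Complex.normSq_nonneg _) (by positivity)
  · intro x hx x' hx' hne
    refine Finset.disjoint_left.mpr fun g hg hg' => hne ?_
    obtain ⟨z, hz, hzx⟩ := (Finset.mem_filter.mp hg).2
    obtain ⟨z', hz', hzx'⟩ := (Finset.mem_filter.mp hg').2
    rw [isPPart_unique (Fact.out : p.Prime) hz hz'] at hzx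
    exact hinj x hx x' hx' (hzx.symm.trans hzx')

variable {y : G}

/-- `p ^ d` times a coordinate of the section. -/
noncomputable def scaledCoord (p d : ℕ) (y : G) (f : G → ℂ) (θ : C[y] → ℂ) : ℂ :=
  ((p ^ d : ℕ) : ℂ) * sectionInner p y f θ

open scoped Classical in
/-- The squared norm of the `b`-part of a section, in multiplicities. -/
theorem sum_sq_eq (hM : IsPModular p M) {b : Set (IrrCharacter C[y])} (hb : IsPBlock M b)
    (yC : C[y]) (hyC : (yC : G) = y) (hyc : yC ∈ Subgroup.center C[y]) (χ : IrrCharacter G) :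
    ∑ ρ ∈ Finset.univ.filter (· ∈ b), sectionInner p y (χ : G → ℂ) (ρ : C[y] → ℂ) *
        conj (sectionInner p y (χ : G → ℂ) (ρ : C[y] → ℂ)) =
      ∑ ρ ∈ Finset.univ.filter (· ∈ b), sectionInner p y (χ : G → ℂ) (ρ : C[y] → ℂ) *
        conj ((resMult χ ρ : ℂ) * cval ρ yC) := by
  set T := Finset.univ.filter (· ∈ b) with hT
  set u : IrrCharacter C[y] → ℂ := fun ρ => sectionInner p y (χ : G → ℂ) (ρ : C[y] → ℂ) with hu
  set v : IrrCharacter C[y] → ℂ := fun ρ => (resMult χ ρ : ℂ) * cval ρ yC with hv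
  have hmem : ∀ {θ}, θ ∈ T ↔ θ ∈ b := fun {θ} => by simp [hT]
  have hA0 : ∀ θ ∈ b, ∀ φ, φ ∉ b → regInner p φ θ = 0 := fun θ hθ φ hφ => by
    rw [regInner_symm]; exact regInner_eq_zero hM hb hθ hφ
  have hu' : ∀ θ ∈ T, u θ = ∑ φ ∈ T, v φ * regInner p φ θ := by
    intro θ hθ
    refine (sectionInner_eq yC hyC hyc χ θ).trans (Finset.sum_subset (Finset.subset_univ T) ?_).symm
    intro φ _ hφ
    rw [hA0 θ (hmem.mp hθ) φ fun h => hφ (hmem.mpr h), mul_zero]
  have hsplit : ∀ φ ∈ T, u φ = ∑ ρ ∈ T, u ρ * regInner p ρ φ := by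
    intro φ hφ
    rw [Finset.sum_congr rfl fun ρ hρ => by rw [hu' ρ hρ, Finset.sum_mul], hu' φ hφ, Finset.sum_comm]
    refine Finset.sum_congr rfl fun θ _ => ?_
    simp only [mul_assoc, ← Finset.mul_sum]
    rw [← sum_regInner_mul θ φ]
    congr 1
    exact (Finset.sum_subset (Finset.subset_univ T) fun ρ _ hρ => by
      rw [hA0 φ (hmem.mp hφ) ρ fun h => hρ (hmem.mpr h), mul_zero]).symm
  calc ∑ ρ ∈ T, u ρ * conj (u ρ)
      = ∑ ρ ∈ T, ∑ φ ∈ T, u ρ * regInner p ρ φ * conj (v φ) := by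
        refine Finset.sum_congr rfl fun ρ hρ => ?_
        conv_lhs => arg 2; rw [hu' ρ hρ]
        rw [map_sum, Finset.mul_sum]
        refine Finset.sum_congr rfl fun φ _ => ?_
        rw [map_mul, conj_regInner, regInner_symm φ ρ]
        ring
    _ = ∑ φ ∈ T, u φ * conj (v φ) := by
        rw [Finset.sum_comm]
        exact Finset.sum_congr rfl fun φ hφ => by rw [← Finset.sum_mul, ← hsplit φ hφ]

/-- Values of the spread of an irreducible character on `p`-regular elements are integral. -/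
theorem isIntegral_spread (hy : ∃ k : ℕ, orderOf y = p ^ k) (θ : IrrCharacter C[y]) (g : G) :
    IsIntegral ℤ (BC84.spread y (pRegularPart p (θ : C[y] → ℂ)) g) := by
  obtain ⟨k, hk⟩ := hy
  obtain ⟨x', r, e, hc, ⟨k', hk'⟩, hr, -, -⟩ := exists_isPPart (Fact.out : p.Prime) g
  have hw : IsClassFunction C[y] (pRegularPart p (θ : C[y] → ℂ)) := fun a t => by
    by_cases ha : p ∣ orderOf a
    · rw [BC85.pRegularPart_neg ha, BC85.pRegularPart_neg (by rwa [orderOf_conjugate])]
    · rw [BC85.pRegularPart_pos ha, BC85.pRegularPart_pos (by rwa [orderOf_conjugate]),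
        irr_class θ a t]
  have hw0 : ∀ c : C[y], p ∣ orderOf c → pRegularPart p (θ : C[y] → ℂ) c = 0 :=
    fun c hc => BC85.pRegularPart_neg hc
  rw [← e]
  by_cases hconj : IsConj x' y
  · obtain ⟨t, ht⟩ := isConj_iff.mp hconj
    have hr' : ¬ p ∣ orderOf (t * r * t⁻¹) := by rwa [orderOf_conjugate]
    have hc' : Commute y (t * r * t⁻¹) := ht ▸ hc.map (MulAut.conj t).toMonoidHom
    rw [← BC84.isClassFunction_spread y _ (x' * r) t,
      show t * (x' * r) * t⁻¹ = y * (t * r * t⁻¹) by rw [← ht]; group,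
      (BC84.spread_apply hk hk hw hw0 hr' hc').2 rfl
        (Subgroup.mem_centralizer_singleton_iff.mpr hc'.eq.symm),
      BC85.pRegularPart_pos (by rwa [Subgroup.orderOf_mk])]
    exact isIntegral_irr θ _
  · rw [(BC84.spread_apply hk hk' hw hw0 hr hc).1 hconj]
    exact isIntegral_zero

/-- The coordinates of the section at `y` of a character of height `h` are `p ^ h` times algebraic
integers, and one of them is exactly so. -/
theorem scaledCoord_spec (hM : IsPModular p M) (hy : ∃ k : ℕ, orderOf y = p ^ k)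
    {B : Set (IrrCharacter G)} {b : Set (IrrCharacter C[y])}
    (hind : IsInducedBlock M C[y] b B) (hd : blockDefect p b = blockDefect p B)
    {χ : IrrCharacter G} (hχ : χ ∈ B) :
    (∀ ρ ∈ b, ∃ r : ℂ, IsIntegral ℤ r ∧
      scaledCoord p (blockDefect p b) y (χ : G → ℂ) (ρ : C[y] → ℂ) =
        ((p ^ blockHeight p B (χ : G → ℂ) : ℕ) : ℂ) * r) ∧
    ∃ ρ ∈ b, sectionInner p y (χ : G → ℂ) (ρ : C[y] → ℂ) ≠ 0 := by
  classical
  have hp : p.Prime := Fact.out
  have := isPrime hM
  have := Fintype.ofFinite G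
  obtain ⟨hb, hB⟩ := isPBlock_of_induced hind
  set yC : C[y] := ⟨y, Subgroup.mem_centralizer_singleton_iff.mpr rfl⟩ with hyC
  have hyc : yC ∈ Subgroup.center C[y] := Subgroup.mem_center_iff.mpr fun g =>
    Subtype.ext (Subgroup.mem_centralizer_singleton_iff.mp g.2)
  obtain ⟨k, hk⟩ := hy
  set d := blockDefect p b with hdd
  set a := (Nat.card C[y]).factorization p with ha
  set e := sInf ((fun θ : IrrCharacter C[y] => (charDegree (θ : C[y] → ℂ)).factorization p) '' b)
    with he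
  obtain ⟨θ₀, hθ₀, hθ₀h⟩ := exists_height_zero hM hb
  have he0 : (charDegree (θ₀ : C[y] → ℂ)).factorization p = e := factorization_eq_sInf hθ₀ hθ₀h
  have hea : e ≤ a := he0 ▸ factorization_degree_le θ₀
  have hpa : p ^ a = p ^ e * p ^ d := by
    rw [← pow_add]; congr 1; rw [hdd, blockDefect]; omega
  have hpe0 : ((p ^ e : ℕ) : ℂ) ≠ 0 := Nat.cast_ne_zero.mpr (pow_ne_zero _ hp.ne_zero)
  have hpd0 : ((p ^ d : ℕ) : ℂ) ≠ 0 := Nat.cast_ne_zero.mpr (pow_ne_zero _ hp.ne_zero)
  have hzc : ∀ θ ∈ b, ∀ φ, ((p ^ e : ℕ) : ℤ) ∣ coeff p θ φ := fun θ hθ φ =>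
    (Int.natCast_dvd_natCast.mpr (pow_dvd_pow p (sInf_le_factorization hθ))).trans
      (dvd_coeff_left hM θ φ)
  choose! z hz using hzc
  have hzA : ∀ θ ∈ b, ∀ φ, (z θ φ : ℂ) = ((p ^ d : ℕ) : ℂ) * regInner p φ θ := by
    intro θ hθ φ
    rw [regInner_symm, regInner, hz θ hθ φ, ← ha, hpa, Int.cast_mul, Int.cast_natCast,
      Nat.cast_mul (α := ℂ)]
    field_simp
  have hX : ∀ (ψ : IrrCharacter G), ∀ ρ ∈ b, scaledCoord p d y (ψ : G → ℂ) (ρ : C[y] → ℂ) =
      ∑ φ : IrrCharacter C[y], (resMult ψ φ : ℂ) * cval φ yC * (z ρ φ : ℂ) := by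
    intro ψ ρ hρ
    rw [scaledCoord, sectionInner_eq yC rfl hyc ψ ρ, Finset.mul_sum]
    exact Finset.sum_congr rfl fun φ _ => by rw [hzA ρ hρ φ]; ring
  have hεk : ∀ θ : IrrCharacter C[y], cval θ yC ^ p ^ k = 1 := fun θ => by
    rw [← cval_pow θ hyc, show yC ^ p ^ k = 1 from Subtype.ext (by
      simp [hyC, ← hk, pow_orderOf_eq_one]), cval_one]
  have hεint : ∀ θ : IrrCharacter C[y], IsIntegral ℤ (cval θ yC) := fun θ =>
    IsIntegral.of_pow (pow_pos hp.pos k) (by rw [hεk θ]; exact isIntegral_one)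
  have hXint : ∀ (ψ : IrrCharacter G), ∀ ρ ∈ b,
      IsIntegral ℤ (scaledCoord p d y (ψ : G → ℂ) (ρ : C[y] → ℂ)) := fun ψ ρ hρ => by
    rw [hX ψ ρ hρ]
    exact IsIntegral.sum _ fun φ _ =>
      ((isIntegral_natCast _).mul (hεint φ)).mul (isIntegral_intCast _)
  -- the section as a central character value
  set N := (Nat.card G).factorization p with hN
  set eB := sInf ((fun ψ : IrrCharacter G => (charDegree (ψ : G → ℂ)).factorization p) '' B)
    with heB
  have heBN : eB + d = N := by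
    have h1 := (sInf_le_factorization (p := p) hχ).trans (factorization_degree_le χ)
    rw [← heB, ← hN] at h1
    rw [hd, blockDefect, ← heB, ← hN]
    omega
  set s := ordCompl[p] (Nat.card G) with hs
  have hs0 : ¬ p ∣ s := Nat.not_dvd_ordCompl hp Nat.card_pos.ne'
  set A : IrrCharacter C[y] → G → ℂ :=
    fun ρ g => conj (BC84.spread y (pRegularPart p (ρ : C[y] → ℂ)) g) with hA
  have hAint : ∀ ρ, IsIntClassFun M (A ρ) := fun ρ =>
    ⟨fun g t => congrArg conj (BC84.isClassFunction_spread y _ g t), fun g =>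
      memLocalRing_of_isIntegral ((isIntegral_spread ⟨k, hk⟩ ρ g).map
        (starRingEnd ℂ).toIntAlgHom)⟩
  have hΩint : ∀ (ψ : IrrCharacter G) ρ, IsIntegral ℤ (omega (ψ : G → ℂ) (A ρ)) := by
    intro ψ ρ
    have : Finite (ConjClasses G) := Finite.of_surjective _ ConjClasses.mk_surjective
    have := Fintype.ofFinite (ConjClasses G)
    rw [BlocksCore.omega_eq_sum_classes _ (hAint ρ).1]
    refine IsIntegral.sum _ fun C _ => ?_
    rw [omega_classInd (irr_class ψ)]
    exact ((isIntegral_spread ⟨k, hk⟩ ρ _).map (starRingEnd ℂ).toIntAlgHom).mul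
      (BlocksCore.isIntegral_centralChar ψ _)
  have hkey : ∀ ψ ∈ B, ∀ ρ : IrrCharacter C[y],
      (s : ℂ) * scaledCoord p d y ((ψ : IrrCharacter G) : G → ℂ) (ρ : C[y] → ℂ) =
        ((p ^ blockHeight p B (ψ : G → ℂ) : ℕ) : ℂ) *
          (((ordCompl[p] (charDegree (ψ : G → ℂ)) : ℕ) : ℂ) * omega (ψ : G → ℂ) (A ρ)) := by
    intro ψ hψ ρ
    have hsum : sectionInner p y (ψ : G → ℂ) (ρ : C[y] → ℂ) =
        (Nat.card G : ℂ)⁻¹ * ((charDegree (ψ : G → ℂ) : ℂ) * omega (ψ : G → ℂ) (A ρ)) := by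
      rw [sectionInner_eq_inner, ← BC84.classInner_spread y (irr_class ψ), classInner, omega_eq_sum,
        ← irr_one_eq, mul_div_cancel₀ _ (irr_one_ne_zero ψ)]
      congr 1
      exact Finset.sum_congr rfl fun g _ => mul_comm _ _
    have hdeg : charDegree (ψ : G → ℂ) = p ^ eB * p ^ blockHeight p B (ψ : G → ℂ) *
        ordCompl[p] (charDegree (ψ : G → ℂ)) := by
      rw [← pow_add]
      conv_lhs => rw [← Nat.ordProj_mul_ordCompl_eq_self (charDegree (ψ : G → ℂ)) p]
      congr 2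
      have := sInf_le_factorization (p := p) hψ
      simp only [blockHeight, ← heB] at this ⊢
      omega
    have hG : Nat.card G = p ^ eB * p ^ d * s := by
      rw [← pow_add, heBN, hs, hN, Nat.ordProj_mul_ordCompl_eq_self]
    rw [scaledCoord, hsum]
    conv_lhs => rw [hG, hdeg]
    have hpeB : ((p ^ eB : ℕ) : ℂ) ≠ 0 := Nat.cast_ne_zero.mpr (pow_ne_zero _ hp.ne_zero)
    have hsC : (s : ℂ) ≠ 0 := Nat.cast_ne_zero.mpr (Nat.ordCompl_pos p Nat.card_pos.ne').ne'
    push_cast at hpeB hpd0 ⊢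
    field_simp
  refine ⟨fun ρ hρ => ?_, ?_⟩
  · set h := blockHeight p B (χ : G → ℂ)
    obtain ⟨u, v, huv⟩ := (Nat.Coprime.isCoprime (m := s) (n := p ^ h)
      ((hp.coprime_iff_not_dvd.mpr hs0).symm.pow_right h))
    refine ⟨(u : ℂ) * (((ordCompl[p] (charDegree (χ : G → ℂ)) : ℕ) : ℂ) * omega (χ : G → ℂ) (A ρ)) +
      (v : ℂ) * scaledCoord p d y (χ : G → ℂ) (ρ : C[y] → ℂ), ?_, ?_⟩
    · exact ((isIntegral_intCast _).mul ((isIntegral_natCast _).mul (hΩint χ ρ))).add
        ((isIntegral_intCast _).mul (hXint χ ρ hρ))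
    · have h1 : (u : ℂ) * (s : ℂ) + (v : ℂ) * ((p ^ h : ℕ) : ℂ) = 1 := by exact_mod_cast huv
      linear_combination -scaledCoord p d y (χ : G → ℂ) (ρ : C[y] → ℂ) * h1 +
        (u : ℂ) * hkey χ hχ ρ
  · refine ⟨θ₀, hθ₀, fun hu0 => ?_⟩
    obtain ⟨χ₀, hχ₀, hχ₀h⟩ := exists_height_zero hM hB
    -- at height zero the coordinate is a unit
    have hz' : ∀ φ, (z θ₀ φ : ℂ) * (((ordCompl[p] (Nat.card C[y]) : ℕ)) : ℂ) =
        ((charDegree (θ₀ : C[y] → ℂ) / p ^ e : ℕ) : ℂ) * regPair p (θ₀ : C[y] → ℂ) φ := by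
      intro φ
      have h := classInner_regPart_mul (p := p) φ θ₀
      rw [coeff_spec, coeff_symm, hz θ₀ hθ₀ φ, Int.cast_mul, Int.cast_natCast,
        ← Nat.mul_div_cancel' ((pow_dvd_pow p he0.ge).trans
          (Nat.ordProj_dvd (charDegree (θ₀ : C[y] → ℂ)) p)), Nat.cast_mul (α := ℂ), mul_assoc,
        mul_assoc] at h
      exact mul_left_cancel₀ hpe0 h
    have hunit : ¬ MemLocalIdeal M (∑ φ : IrrCharacter C[y], (resMult χ₀ φ : ℂ) * (z θ₀ φ : ℂ)) := by
      intro hI
      have h1 := memLocalIdeal_mul_right hI (memLocalRing_natCast (ordCompl[p] (Nat.card C[y])))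
      have e1 : (∑ φ : IrrCharacter C[y], (resMult χ₀ φ : ℂ) * (z θ₀ φ : ℂ)) *
          (((ordCompl[p] (Nat.card C[y]) : ℕ)) : ℂ) =
          ((charDegree (θ₀ : C[y] → ℂ) / p ^ e : ℕ) : ℂ) *
            omega (θ₀ : C[y] → ℂ) (res C[y] (regInv p (χ₀ : G → ℂ))) := by
        rw [regPair_res_eq_sum, Finset.sum_mul, Finset.mul_sum]
        refine Finset.sum_congr rfl fun φ _ => ?_
        rw [resMult_spec, mul_assoc, hz' φ]
        ring
      rw [e1] at h1
      rcases memLocalIdeal_mem_or_mem (memLocalRing_natCast _)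
        (omega_memLocalRing θ₀ (isIntClassFun_res C[y] (isIntClassFun_regInv χ₀))) h1 with h2 | h2
      · rw [memLocalIdeal_natCast_iff hM, ← he0] at h2
        exact Nat.not_dvd_ordCompl hp (charDegree_pos θ₀).ne' h2
      · refine (regPair_unit_iff hM hB hχ₀ hχ₀).mpr hχ₀h ?_
        simpa [regPair] using
          memLocalIdeal_sub h2 (omega_induced hM hind hθ₀ hχ₀ (isIntClassFun_regInv (p := p) χ₀))
    have hΩ₀ : ¬ MemLocalIdeal M (omega (χ₀ : G → ℂ) (A θ₀)) := by
      intro hI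
      have h1 := hkey χ₀ hχ₀ θ₀
      rw [hχ₀h, pow_zero, Nat.cast_one, one_mul] at h1
      have h2 : MemLocalIdeal M ((s : ℂ) * scaledCoord p d y (χ₀ : G → ℂ) (θ₀ : C[y] → ℂ)) := by
        rw [h1]; exact memLocalIdeal_mul_left (memLocalRing_natCast _) hI
      have h3 := (memLocalIdeal_mem_or_mem (memLocalRing_natCast _)
        (memLocalRing_of_isIntegral (hXint χ₀ θ₀ hθ₀)) h2).resolve_left
        fun h => hs0 ((memLocalIdeal_natCast_iff hM _).mp h)
      have h4 : MemLocalIdeal M (scaledCoord p d y (χ₀ : G → ℂ) (θ₀ : C[y] → ℂ) -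
          ∑ φ : IrrCharacter C[y], (resMult χ₀ φ : ℂ) * (z θ₀ φ : ℂ)) := by
        rw [hX χ₀ θ₀ hθ₀, ← Finset.sum_sub_distrib]
        refine memLocalIdeal_sum fun φ _ => ?_
        rw [show (resMult χ₀ φ : ℂ) * cval φ yC * (z θ₀ φ : ℂ) - (resMult χ₀ φ : ℂ) * (z θ₀ φ : ℂ) =
          (resMult χ₀ φ : ℂ) * (z θ₀ φ : ℂ) * (cval φ yC - 1) by ring]
        exact memLocalIdeal_mul_left ((localRing M).mul_mem (memLocalRing_natCast _)
          (memLocalRing_intCast _)) (memLocalIdeal_sub_one_of_pow hM (hεk φ))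
      exact hunit (by simpa using memLocalIdeal_sub h3 h4)
    have hΩ : ¬ MemLocalIdeal M (omega (χ : G → ℂ) (A θ₀)) := fun h => hΩ₀ (by
      simpa using memLocalIdeal_sub h
        (omega_sub_memLocalIdeal (sameBlock_of_mem hB hχ hχ₀) (hAint θ₀)))
    have h1 := hkey χ hχ θ₀
    rw [scaledCoord, hu0, mul_zero, mul_zero, eq_comm, mul_eq_zero, mul_eq_zero] at h1
    rcases h1 with h | h | h
    · exact pow_ne_zero _ hp.ne_zero (Nat.cast_eq_zero.mp h)
    · exact (Nat.ordCompl_pos p (charDegree_pos χ).ne').ne' (Nat.cast_eq_zero.mp h)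
    · exact hΩ (h ▸ memLocalIdeal_zero)

end Cfsg.Agent.BC86
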