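import Cfsg.Agent.BC86.Count
import Cfsg.Agent.BC86.Invert
import Cfsg.Agent.Lib.BlocksDefect.Basic
import Mathlib.LinearAlgebra.Matrix.NonsingularInverse

/-!
# Classes whose quotients contain no nontrivial `p`-element, and blocks
-/

open scoped ComplexConjugate Matrix
open Cfsg.Agent.CharCore Cfsg.Agent.BlocksCore

namespace Cfsg.Agent.BC86

variable {G : Type*} [Group G] [Finite G] {p : ℕ} {M : Ideal Cfsg.AlgInt}

theorem pairCount_inv_one_of_not_isConj {x y : G} (h : ¬ IsConj x y) : pairCount x y⁻¹ 1 = 0 := by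
  rw [pairCount, Nat.card_eq_zero]
  refine Or.inl ⟨fun ab => h (isConj_iff.mpr ⟨ab.1.2⁻¹ * ab.1.1, ?_⟩)⟩
  have e : ab.1.1 * x * ab.1.1⁻¹ = (ab.1.2 * y⁻¹ * ab.1.2⁻¹)⁻¹ := eq_inv_of_mul_eq_one_left ab.2
  calc ab.1.2⁻¹ * ab.1.1 * x * (ab.1.2⁻¹ * ab.1.1)⁻¹
      = ab.1.2⁻¹ * (ab.1.1 * x * ab.1.1⁻¹) * ab.1.2 := by group
    _ = y := by rw [e]; group

/-- The `p`-part of a degree and the cofactor. -/
theorem degree_eq_pow_mul (hp : p.Prime) (χ : Cfsg.IrrCharacter G) :
    ∃ e : ℕ, ¬ p ∣ e ∧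
      (χ : G → ℂ) 1 = (p : ℂ) ^ (Cfsg.charDegree (χ : G → ℂ)).factorization p * (e : ℂ) := by
  refine ⟨_, Nat.not_dvd_ordCompl hp (charDegree_ne_zero χ), ?_⟩
  rw [← charDegree_cast, ← Nat.cast_pow, ← Nat.cast_mul, Nat.ordProj_mul_ordCompl_eq_self]

variable (hM : Cfsg.IsPModular p M)
include hM

theorem index_centralizer_eq (x : G) {d : ℕ}
    (hd : (Nat.card (Subgroup.centralizer ({x} : Set G))).factorization p = d) :
    ∃ u : ℕ, ¬ p ∣ u ∧ d ≤ (Nat.card G).factorization p ∧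
      ((Subgroup.centralizer ({x} : Set G)).index : ℂ) =
        (p : ℂ) ^ ((Nat.card G).factorization p - d) * (u : ℂ) := by
  set C := Subgroup.centralizer ({x} : Set G)
  have hi : C.index ≠ 0 := Subgroup.index_ne_zero_of_finite
  have h1 : C.index.factorization p + d = (Nat.card G).factorization p := by
    rw [← Subgroup.index_mul_card C, Nat.factorization_mul hi Nat.card_pos.ne', Finsupp.add_apply, hd]
  refine ⟨_, Nat.not_dvd_ordCompl hM.1 hi, by omega, ?_⟩
  rw [show (Nat.card G).factorization p - d = C.index.factorization p by omega, ← Nat.cast_pow,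
    ← Nat.cast_mul, Nat.ordProj_mul_ordCompl_eq_self]

/-- The central character of a character of too small degree vanishes on the class. -/
theorem centralChar_mem_of_lt (χ : Cfsg.IrrCharacter G) (x : G) {d : ℕ}
    (hd : (Nat.card (Subgroup.centralizer ({x} : Set G))).factorization p = d)
    (hlt : (Cfsg.charDegree (χ : G → ℂ)).factorization p < (Nat.card G).factorization p - d) :
    Cfsg.MemLocalIdeal M (Cfsg.centralChar (χ : G → ℂ) x) := by
  have := isPrime hM
  obtain ⟨u, -, -, hu⟩ := index_centralizer_eq hM x hd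
  obtain ⟨e, he, hχ⟩ := degree_eq_pow_mul hM.1 χ
  obtain ⟨j, hj⟩ := Nat.exists_eq_add_of_lt hlt
  have hp0 : (p : ℂ) ≠ 0 := Nat.cast_ne_zero.mpr hM.1.ne_zero
  have he0 : (e : ℂ) ≠ 0 := Nat.cast_ne_zero.mpr (fun h => he (by rw [h]; exact dvd_zero p))
  have key : Cfsg.centralChar (χ : G → ℂ) x
      = ((p ^ (j + 1) * u : ℕ) : ℂ) * ((χ : G → ℂ) x * (e : ℂ)⁻¹) := by
    rw [Cfsg.centralChar, hu, hχ, hj]
    push_cast
    field_simp
    ring
  rw [key]
  exact memLocalIdeal_mul_right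
    ((memLocalIdeal_natCast_iff hM _).mpr (dvd_mul_of_dvd_left (dvd_pow_self p (by omega)) u))
    ((localRing M).mul_mem (memLocalRing_of_isIntegral (IsCharacter.isIntegral (irr_isCharacter χ) x))
      (memLocalRing_natCast_inv hM he))

/-- The value at an element of a character of too large degree vanishes. -/
theorem apply_mem_of_lt (χ : Cfsg.IrrCharacter G) (x : G) {d : ℕ}
    (hd : (Nat.card (Subgroup.centralizer ({x} : Set G))).factorization p = d)
    (hlt : (Nat.card G).factorization p - d < (Cfsg.charDegree (χ : G → ℂ)).factorization p) :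
    Cfsg.MemLocalIdeal M ((χ : G → ℂ) x) := by
  have := isPrime hM
  obtain ⟨u, hu0, -, hu⟩ := index_centralizer_eq hM x hd
  obtain ⟨e, -, hχ⟩ := degree_eq_pow_mul hM.1 χ
  obtain ⟨j, hj⟩ := Nat.exists_eq_add_of_lt hlt
  have hp0 : (p : ℂ) ≠ 0 := Nat.cast_ne_zero.mpr hM.1.ne_zero
  have hu1 : (u : ℂ) ≠ 0 := Nat.cast_ne_zero.mpr (fun h => hu0 (by rw [h]; exact dvd_zero p))
  have key : (χ : G → ℂ) x
      = ((p ^ (j + 1) * e : ℕ) : ℂ) * (Cfsg.centralChar (χ : G → ℂ) x * (u : ℂ)⁻¹) := by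
    have h0 : Cfsg.centralChar (χ : G → ℂ) x * (χ : G → ℂ) 1 =
        ((Subgroup.centralizer ({x} : Set G)).index : ℂ) * (χ : G → ℂ) x := by
      rw [Cfsg.centralChar, div_mul_cancel₀ _ (irr_apply_one_ne_zero χ)]
    rw [hu, hχ, hj] at h0
    push_cast
    rw [← mul_assoc, eq_mul_inv_iff_mul_eq₀ hu1]
    refine mul_left_cancel₀ (pow_ne_zero ((Nat.card G).factorization p - d) hp0) ?_
    linear_combination -h0
  rw [key]
  exact memLocalIdeal_mul_right
    ((memLocalIdeal_natCast_iff hM _).mpr (dvd_mul_of_dvd_left (dvd_pow_self p (by omega)) e))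
    ((localRing M).mul_mem (memLocalRing_of_isIntegral (isIntegral_centralChar χ x))
      (memLocalRing_natCast_inv hM hu0))

/-- At the critical degree the central character is the value times a unit. -/
theorem centralChar_eq_of_eq (χ : Cfsg.IrrCharacter G) (x : G) {d : ℕ}
    (hd : (Nat.card (Subgroup.centralizer ({x} : Set G))).factorization p = d)
    (heq : (Cfsg.charDegree (χ : G → ℂ)).factorization p = (Nat.card G).factorization p - d) :
    ∃ u e : ℕ, ¬ p ∣ u ∧ ¬ p ∣ e ∧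
      ((Subgroup.centralizer ({x} : Set G)).index : ℂ) =
        (p : ℂ) ^ ((Nat.card G).factorization p - d) * (u : ℂ) ∧
      (χ : G → ℂ) 1 = (p : ℂ) ^ ((Nat.card G).factorization p - d) * (e : ℂ) ∧
      Cfsg.centralChar (χ : G → ℂ) x = (u : ℂ) * (e : ℂ)⁻¹ * (χ : G → ℂ) x := by
  obtain ⟨u, hu0, -, hu⟩ := index_centralizer_eq hM x hd
  obtain ⟨e, he0, hχ⟩ := degree_eq_pow_mul hM.1 χ
  rw [heq] at hχ
  refine ⟨u, e, hu0, he0, hu, hχ, ?_⟩
  have hp0 : (p : ℂ) ≠ 0 := Nat.cast_ne_zero.mpr hM.1.ne_zero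
  have he1 : (e : ℂ) ≠ 0 := Nat.cast_ne_zero.mpr (fun h => he0 (by rw [h]; exact dvd_zero p))
  rw [Cfsg.centralChar, hu, hχ]
  field_simp

variable [Fact p.Prime] {r d : ℕ} (x : Fin r → G)
  (hxd : ∀ i, (Nat.card (Subgroup.centralizer ({x i} : Set G))).factorization p = d)
  (hx : ∀ i j : Fin r, IsConj (x i) (x j) → i = j)
  (hsep : ∀ i j : Fin r, ∀ g h : G, IsConj (x i) g → IsConj (x j) h → ∀ k : ℕ, 0 < k →
    orderOf (g * h⁻¹) ≠ p ^ k)
include hxd hx hsep

/-- The characters of the critical degree have a nonsingular matrix of values modulo `M`. -/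
theorem congr_diag :
    ∃ (c : Cfsg.IrrCharacter G → ℂ), (∀ χ, Cfsg.MemLocalRing M (c χ)) ∧ ∀ i j, ∃ z : ℕ, ¬ p ∣ z ∧
      Cfsg.MemLocalIdeal M ((if i = j then (z : ℂ) else 0) -
        ∑ χ : Cfsg.IrrCharacter G,
          if (Cfsg.charDegree (χ : G → ℂ)).factorization p = (Nat.card G).factorization p - d
          then (χ : G → ℂ) (x i) * (c χ * (χ : G → ℂ) (x j)⁻¹) else 0) := by
  classical
  have := Fintype.ofFinite G
  have := isPrime hM
  have hp := hM.1
  set A := (Nat.card G).factorization p with hA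
  let P : Subgroup G := (default : Sylow p G)
  have hP : Nat.card P = p ^ A := (default : Sylow p G).card_eq_multiplicity
  have hm : ∀ χ : Cfsg.IrrCharacter G, ∃ m : ℕ,
      ∑ z : P, conj ((χ : G → ℂ) z) = (p ^ A : ℕ) * (m : ℂ) := fun χ => by
    obtain ⟨m, hm⟩ := IsCharacter.exists_classInner_eq_natCast (isCharacter_one (G := P))
      (isCharacter_restrict (irr_isCharacter χ) P)
    refine ⟨m, ?_⟩
    rw [← hm, classInner_def, ← hP, ← mul_assoc,
      mul_inv_cancel₀ (Nat.cast_ne_zero.mpr Nat.card_pos.ne'), one_mul]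
    simp
  choose m hm using hm
  choose e he hχe using fun χ : Cfsg.IrrCharacter G => degree_eq_pow_mul hp χ
  refine ⟨fun χ => (m χ : ℂ) * (e χ : ℂ)⁻¹, fun χ => (localRing M).mul_mem
    (memLocalRing_natCast (m χ)) (memLocalRing_natCast_inv hM (he χ)), fun i j => ?_⟩
  have hdA : d ≤ A := by
    obtain ⟨-, -, h, -⟩ := index_centralizer_eq hM (x i) (hxd i)
    exact h
  set Ci := Nat.card (Subgroup.centralizer ({x i} : Set G)) with hCi
  refine ⟨Ci / p ^ d, by rw [← hxd i]; exact Nat.not_dvd_ordCompl hp Nat.card_pos.ne', ?_⟩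
  have hsum : ∑ z : P, pairCount (x i) (x j)⁻¹ (z : G) = pairCount (x i) (x j)⁻¹ 1 := by
    rw [Finset.sum_eq_single (1 : P), OneMemClass.coe_one]
    · intro z _ hz
      rw [pairCount, Nat.card_eq_zero]
      refine Or.inl ⟨fun ab => ?_⟩
      obtain ⟨k, hk⟩ := exists_pow_of_mem (default : Sylow p G).2 z.2
      refine hsep i j _ _ (isConj_iff.mpr ⟨ab.1.1, rfl⟩) (isConj_iff.mpr ⟨ab.1.2, rfl⟩) k
        (Nat.pos_of_ne_zero fun h => hz (Subtype.ext (orderOf_eq_one_iff.mp (by rw [hk, h, pow_zero])))) ?_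
      rw [show ab.1.1 * x i * ab.1.1⁻¹ * (ab.1.2 * x j * ab.1.2⁻¹)⁻¹ = (z : G) from
        (by group : _ = ab.1.1 * x i * ab.1.1⁻¹ * (ab.1.2 * (x j)⁻¹ * ab.1.2⁻¹)).trans ab.2]
      exact hk
    · simp
  have hval : (pairCount (x i) (x j)⁻¹ 1 : ℂ) =
      (Nat.card G : ℂ) * ((p : ℂ) ^ d * (if i = j then ((Ci / p ^ d : ℕ) : ℂ) else 0)) := by
    split_ifs with h
    · subst h
      have h2 : p ^ d * (Ci / p ^ d) = Ci := by
        rw [← hxd i, ← hCi, Nat.ordProj_mul_ordCompl_eq_self]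
      rw [pairCount_inv_one, ← hCi, Nat.cast_mul]
      congr 1
      exact_mod_cast h2.symm
    · rw [pairCount_inv_one_of_not_isConj (fun hc => h (hx i j hc))]
      simp
  have key : (if i = j then ((Ci / p ^ d : ℕ) : ℂ) else 0) = ∑ χ : Cfsg.IrrCharacter G,
      (p : ℂ) ^ (A - d) * ((χ : G → ℂ) (x i) * (χ : G → ℂ) (x j)⁻¹ * (m χ : ℂ)) / (χ : G → ℂ) 1 := by
    have hpd : (p : ℂ) ^ d ≠ 0 := pow_ne_zero _ (Nat.cast_ne_zero.mpr hp.ne_zero)
    refine mul_left_cancel₀ hpd (mul_left_cancel₀ (Nat.cast_ne_zero.mpr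
      (Nat.card_pos (α := G)).ne') ?_)
    rw [← hval, ← hsum, Nat.cast_sum]
    simp only [pairCount_eq]
    rw [← Finset.mul_sum, Finset.sum_comm, Finset.mul_sum (a := (p : ℂ) ^ d)]
    congr 1
    refine Finset.sum_congr rfl fun χ _ => ?_
    rw [← Finset.sum_div, ← Finset.mul_sum, hm, Nat.cast_pow,
      show (p : ℂ) ^ A = (p : ℂ) ^ d * (p : ℂ) ^ (A - d) by rw [← pow_add, Nat.add_sub_cancel' hdA]]
    ring
  rw [key, ← Finset.sum_sub_distrib]
  refine memLocalIdeal_sum fun χ _ => ?_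
  have hp0 : (p : ℂ) ≠ 0 := Nat.cast_ne_zero.mpr hp.ne_zero
  have he1 : (e χ : ℂ) ≠ 0 := Nat.cast_ne_zero.mpr (fun h => he χ (by rw [h]; exact dvd_zero p))
  have hint : ∀ g, Cfsg.MemLocalRing M ((χ : G → ℂ) g) := fun g =>
    memLocalRing_of_isIntegral (IsCharacter.isIntegral (irr_isCharacter χ) g)
  split_ifs with hv
  · convert memLocalIdeal_zero (M := M) using 1
    rw [hχe χ, hv]
    field_simp
    ring
  · rw [sub_zero]
    rcases Nat.lt_or_gt_of_ne hv with hlt | hgt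
    · obtain ⟨k, hk⟩ := Nat.exists_eq_add_of_lt hlt
      have e1 : (p : ℂ) ^ (A - d) * ((χ : G → ℂ) (x i) * (χ : G → ℂ) (x j)⁻¹ * (m χ : ℂ)) /
          (χ : G → ℂ) 1 = ((p ^ (k + 1) : ℕ) : ℂ) *
            ((χ : G → ℂ) (x i) * (χ : G → ℂ) (x j)⁻¹ * (m χ : ℂ) * (e χ : ℂ)⁻¹) := by
        rw [hχe χ, hk]
        push_cast
        field_simp
        ring
      rw [e1]
      exact memLocalIdeal_mul_right ((memLocalIdeal_natCast_iff hM _).mpr (dvd_pow_self p (by omega)))
        ((localRing M).mul_mem ((localRing M).mul_mem ((localRing M).mul_mem (hint _) (hint _))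
          (memLocalRing_natCast _)) (memLocalRing_natCast_inv hM (he χ)))
    · have hinv : (Nat.card (Subgroup.centralizer ({(x j)⁻¹} : Set G))).factorization p = d := by
        rw [← hxd j]
        congr 2
        refine congrArg (fun S : Subgroup G => Nat.card S) ?_
        ext g
        rw [Subgroup.mem_centralizer_singleton_iff, Subgroup.mem_centralizer_singleton_iff]
        exact Commute.inv_right_iff
      obtain ⟨u, hu0, -, hu⟩ := index_centralizer_eq hM (x i) (hxd i)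
      have hu1 : (u : ℂ) ≠ 0 := Nat.cast_ne_zero.mpr (fun h => hu0 (by rw [h]; exact dvd_zero p))
      have e1 : (p : ℂ) ^ (A - d) * ((χ : G → ℂ) (x i) * (χ : G → ℂ) (x j)⁻¹ * (m χ : ℂ)) /
          (χ : G → ℂ) 1 = (χ : G → ℂ) (x j)⁻¹ *
            (Cfsg.centralChar (χ : G → ℂ) (x i) * (u : ℂ)⁻¹ * (m χ : ℂ)) := by
        rw [Cfsg.centralChar, hu, ← hA]
        field_simp [irr_apply_one_ne_zero χ]
      rw [e1]
      exact memLocalIdeal_mul_right (apply_mem_of_lt hM χ _ hinv hgt)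
        ((localRing M).mul_mem ((localRing M).mul_mem
          (memLocalRing_of_isIntegral (isIntegral_centralChar χ _))
          (memLocalRing_natCast_inv hM hu0)) (memLocalRing_natCast _))

end Cfsg.Agent.BC86
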