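import Cfsg.Agent.BC86.Separated
import Mathlib.LinearAlgebra.Matrix.Basis
import Mathlib.LinearAlgebra.Dimension.Finite

/-!
# The blocks attached to separated classes
-/

open scoped ComplexConjugate Matrix
open Cfsg.Agent.CharCore Cfsg.Agent.BlocksCore Cfsg.Agent.BlocksDefect

namespace Cfsg.Agent.BC86

/-- From a right inverse, choose columns with nonzero determinant. -/
theorem exists_det_ne_zero_of_mul_eq_one {K : Type*} [Field K] {r : ℕ} {S : Type*} [Fintype S]
    (A : Matrix (Fin r) S K) (B : Matrix S (Fin r) K) (h : A * B = 1) :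
    ∃ φ : Fin r → S, (Matrix.of fun i k => A i (φ k)).det ≠ 0 := by
  classical
  have hspan : Submodule.span K (Set.range A.col) = ⊤ := by
    rw [← Matrix.range_mulVecLin, LinearMap.range_eq_top]
    exact fun y => ⟨B *ᵥ y, by rw [Matrix.mulVecLin_apply, Matrix.mulVec_mulVec, h, Matrix.one_mulVec]⟩
  obtain ⟨b, hb, hspanb, hli⟩ := exists_linearIndependent K (Set.range A.col)
  rw [hspan] at hspanb
  let bb : Module.Basis b K (Fin r → K) := Module.Basis.mk hli (by rw [Subtype.range_coe]; exact hspanb.ge)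
  let e : b ≃ Fin r := bb.indexEquiv (Pi.basisFun K (Fin r))
  choose φ hφ using fun k : Fin r => hb (e.symm k).2
  refine ⟨φ, fun h0 => ?_⟩
  have hli' : LinearIndependent K (Matrix.of fun i k => A i (φ k)).col := by
    have he : (Matrix.of fun i k => A i (φ k)).col = ((↑) : b → Fin r → K) ∘ e.symm := by
      funext k
      exact hφ k
    rw [he]
    exact hli.comp _ e.symm.injective
  exact ((Matrix.isUnit_iff_isUnit_det _).mp
    (Matrix.linearIndependent_cols_iff_isUnit.mp hli')).ne_zero h0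

variable {G : Type*} [Group G] [Finite G] {p : ℕ} {M : Ideal Cfsg.AlgInt}

theorem exists_separated_blocks [Fact p.Prime] (hM : Cfsg.IsPModular p M) (D : Subgroup G) {r : ℕ}
    (x : Fin r → G) (hx : ∀ i j : Fin r, IsConj (x i) (x j) → i = j)
    (hD : ∀ i : Fin r, ∃ S : Sylow p ↥(Subgroup.centralizer ({x i} : Set G)),
      (S : Subgroup ↥(Subgroup.centralizer ({x i} : Set G))).map
        (Subgroup.centralizer ({x i} : Set G)).subtype = D)
    (hsep : ∀ i j : Fin r, ∀ g h : G, IsConj (x i) g → IsConj (x j) h → ∀ k : ℕ, 0 < k →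
      orderOf (g * h⁻¹) ≠ p ^ k) :
    ∃ B : Fin r → Set (Cfsg.IrrCharacter G), Function.Injective B ∧
      (∀ i : Fin r, Cfsg.IsPBlock M (B i) ∧ Cfsg.IsDefectGroup p M (B i) D) ∧
      ∀ χ : Fin r → Cfsg.IrrCharacter G,
        (∀ i : Fin r, χ i ∈ B i ∧ Cfsg.blockHeight p (B i) (χ i : G → ℂ) = 0) →
        ¬ Cfsg.MemLocalIdeal M
          (Matrix.det (Matrix.of fun i j : Fin r => (χ i : G → ℂ) (x j))) := by
  classical
  have := Fintype.ofFinite G
  have := isPrime hM
  have hp := hM.1
  set d := (Nat.card D).factorization p with hddef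
  have hxd : ∀ i, (Nat.card (Subgroup.centralizer ({x i} : Set G))).factorization p = d := fun i => by
    rw [hddef, IsSylowCent.natCard (hD i), hp.factorization_pow, Finsupp.single_eq_same]
  set a := (Nat.card G).factorization p - d with ha
  letI : Field (localRing M ⧸ localIdeal M) := Ideal.Quotient.field _
  let q := Ideal.Quotient.mk (localIdeal M)
  have hq0 : ∀ (z : ℂ) (hz : Cfsg.MemLocalRing M z), q ⟨z, hz⟩ = 0 ↔ Cfsg.MemLocalIdeal M z :=
    fun z hz => Ideal.Quotient.eq_zero_iff_mem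
  have hval : ∀ (χ : Cfsg.IrrCharacter G) (g : G), Cfsg.MemLocalRing M ((χ : G → ℂ) g) := fun χ g =>
    memLocalRing_of_isIntegral (IsCharacter.isIntegral (irr_isCharacter χ) g)
  let v : Cfsg.IrrCharacter G → Fin r → localRing M ⧸ localIdeal M := fun χ i => q ⟨_, hval χ (x i)⟩
  let S := {χ : Cfsg.IrrCharacter G // (Cfsg.charDegree (χ : G → ℂ)).factorization p = a}
  obtain ⟨c, hc, hcz⟩ := congr_diag hM x hxd hx hsep
  choose z hz0 hz using hcz
  obtain ⟨φ, hφ⟩ : ∃ φ : Fin r → S, (Matrix.of fun i k => v (φ k).1 i).det ≠ 0 := by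
    let A : Matrix (Fin r) S (localRing M ⧸ localIdeal M) := Matrix.of fun i χ => v χ.1 i
    let B : Matrix S (Fin r) (localRing M ⧸ localIdeal M) := Matrix.of fun χ j =>
      q ⟨c χ.1 * (χ.1 : G → ℂ) (x j)⁻¹, (localRing M).mul_mem (hc _) (hval _ _)⟩
    have hAB : A * B = Matrix.diagonal fun i => q ((z i i : ℕ) : localRing M) := by
      ext i j
      rw [Matrix.mul_apply, Matrix.diagonal_apply]
      have h := hz i j
      have hsum : ∑ χ : Cfsg.IrrCharacter G,
          (if (Cfsg.charDegree (χ : G → ℂ)).factorization p = a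
          then (χ : G → ℂ) (x i) * (c χ * (χ : G → ℂ) (x j)⁻¹) else 0)
          = ∑ χ : S, (χ.1 : G → ℂ) (x i) * (c χ.1 * (χ.1 : G → ℂ) (x j)⁻¹) := by
        rw [← Finset.sum_filter]
        exact Finset.sum_subtype _ (by simp) _
      rw [← ha, hsum] at h
      simp only [A, B, Matrix.of_apply, v, ← map_mul, ← map_sum]
      rw [show (if i = j then q ((z i i : ℕ) : localRing M) else 0)
        = q (if i = j then ((z i j : ℕ) : localRing M) else 0) by
          split_ifs with he
          · subst he; rfl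
          · exact (map_zero q).symm]
      refine (Ideal.Quotient.eq.mpr ?_).symm
      rw [mem_localIdeal_iff]
      convert h using 1
      split_ifs <;> simp
    have hne : ∀ i, q ((z i i : ℕ) : localRing M) ≠ 0 := fun i h0 => hz0 i i
      ((memLocalIdeal_natCast_iff hM _).mp (by simpa using Ideal.Quotient.eq_zero_iff_mem.mp h0))
    refine exists_det_ne_zero_of_mul_eq_one A
      (B * Matrix.diagonal fun i => (q ((z i i : ℕ) : localRing M))⁻¹) ?_
    rw [← Matrix.mul_assoc, hAB, Matrix.diagonal_mul_diagonal, ← Matrix.diagonal_one]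
    congr 1
    funext i
    exact mul_inv_cancel₀ (hne i)
  -- the value vectors of two characters of critical degree in one block are proportional
  have hprop : ∀ χ ψ : Cfsg.IrrCharacter G,
      (Cfsg.charDegree (χ : G → ℂ)).factorization p = a →
      (Cfsg.charDegree (ψ : G → ℂ)).factorization p = a →
      Cfsg.SameBlock M (χ : G → ℂ) (ψ : G → ℂ) →
      ∃ t : localRing M ⧸ localIdeal M, t ≠ 0 ∧ v χ = t • v ψ := by
    intro χ ψ hχ hψ hsame
    rcases Nat.eq_zero_or_pos r with rfl | hr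
    · exact ⟨1, one_ne_zero, funext fun i => i.elim0⟩
    obtain ⟨u0, e, -, he0, -, hχ1, -⟩ := centralChar_eq_of_eq hM χ (x ⟨0, hr⟩) (hxd _) hχ
    obtain ⟨u1, e', -, he1, -, hψ1, -⟩ := centralChar_eq_of_eq hM ψ (x ⟨0, hr⟩) (hxd _) hψ
    have hem : Cfsg.MemLocalRing M ((e : ℂ) * (e' : ℂ)⁻¹) :=
      (localRing M).mul_mem (memLocalRing_natCast e) (memLocalRing_natCast_inv hM he1)
    have hunit : ¬ Cfsg.MemLocalIdeal M ((e : ℂ) * (e' : ℂ)⁻¹) := by
      intro hm
      have h2 := memLocalIdeal_mul_right hm (memLocalRing_natCast (M := M) e')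
      rw [mul_assoc, inv_mul_cancel₀ (Nat.cast_ne_zero.mpr fun h => he1 (by rw [h]; exact dvd_zero p)),
        mul_one] at h2
      exact he0 ((memLocalIdeal_natCast_iff hM e).mp h2)
    refine ⟨q ⟨_, hem⟩, fun h0 => hunit ((hq0 _ hem).mp h0), funext fun i => ?_⟩
    simp only [v, Pi.smul_apply, smul_eq_mul, ← map_mul]
    refine Ideal.Quotient.eq.mpr ?_
    rw [mem_localIdeal_iff]
    obtain ⟨u, ei, hu, -, hidx, hχ1', hωχ⟩ := centralChar_eq_of_eq hM χ (x i) (hxd i) hχ
    obtain ⟨u', ei', hu', -, hidx', hψ1', hωψ⟩ := centralChar_eq_of_eq hM ψ (x i) (hxd i) hψ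
    have hpa : (p : ℂ) ^ ((Nat.card G).factorization p - d) ≠ 0 :=
      pow_ne_zero _ (Nat.cast_ne_zero.mpr hp.ne_zero)
    have huu : (u' : ℂ) = u := mul_left_cancel₀ hpa (hidx'.symm.trans hidx)
    have hee : (ei : ℂ) = e := mul_left_cancel₀ hpa (hχ1'.symm.trans hχ1)
    have hee' : (ei' : ℂ) = e' := mul_left_cancel₀ hpa (hψ1'.symm.trans hψ1)
    have h := hsame (x i)
    rw [hωχ, hωψ, huu, hee, hee'] at h
    have hu1 : (u : ℂ) ≠ 0 := Nat.cast_ne_zero.mpr fun h => hu (by rw [h]; exact dvd_zero p)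
    have he0' : (e : ℂ) ≠ 0 := Nat.cast_ne_zero.mpr fun h => he0 (by rw [h]; exact dvd_zero p)
    have h3 := memLocalIdeal_mul_right h ((localRing M).mul_mem
      (memLocalRing_natCast_inv hM hu) (memLocalRing_natCast (M := M) e))
    convert h3 using 1
    change (χ : G → ℂ) (x i) - (e : ℂ) * (e' : ℂ)⁻¹ * (ψ : G → ℂ) (x i) = _
    field_simp
  -- a column of a nonsingular matrix is nonzero, giving a unit central character
  have hcol : ∀ k, ∃ i, ¬ Cfsg.MemLocalIdeal M (Cfsg.centralChar ((φ k).1 : G → ℂ) (x i)) := by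
    intro k
    by_contra hall
    push Not at hall
    refine hφ (Matrix.det_eq_zero_of_column_eq_zero k fun i => ?_)
    obtain ⟨u, e, hu, he, -, -, hω⟩ := centralChar_eq_of_eq hM (φ k).1 (x i) (hxd i) (φ k).2
    refine (hq0 _ _).mpr ?_
    have h3 := memLocalIdeal_mul_right (hall i) ((localRing M).mul_mem
      (memLocalRing_natCast_inv hM hu) (memLocalRing_natCast (M := M) e))
    convert h3 using 1
    rw [hω]
    have hu1 : (u : ℂ) ≠ 0 := Nat.cast_ne_zero.mpr fun h => hu (by rw [h]; exact dvd_zero p)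
    have he1 : (e : ℂ) ≠ 0 := Nat.cast_ne_zero.mpr fun h => he (by rw [h]; exact dvd_zero p)
    field_simp
  let B : Fin r → Set (Cfsg.IrrCharacter G) := fun k => Cfsg.blockOf M ((φ k).1 : G → ℂ)
  have hmem : ∀ k, (φ k).1 ∈ B k := fun k => mem_blockOf_self _
  have hblock : ∀ k, Cfsg.IsPBlock M (B k) := fun k => isPBlock_blockOf _
  have hdeg : ∀ k, ∀ ψ ∈ B k, a ≤ (Cfsg.charDegree (ψ : G → ℂ)).factorization p := by
    intro k ψ hψ
    obtain ⟨i, hi⟩ := hcol k
    by_contra hlt
    exact centralChar_unit_of_mem hM (hblock k) (hmem k) hψ hi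
      (centralChar_mem_of_lt hM ψ (x i) (hxd i) (not_le.mp hlt))
  have hinf : ∀ k, sInf ((fun χ : Cfsg.IrrCharacter G => (Cfsg.charDegree (χ : G → ℂ)).factorization p) '' B k) = a := by
    intro k
    refine le_antisymm (Nat.sInf_le ⟨(φ k).1, hmem k, (φ k).2⟩) (le_csInf ⟨_, (φ k).1, hmem k, rfl⟩ ?_)
    rintro _ ⟨ψ, hψ, rfl⟩
    exact hdeg k ψ hψ
  refine ⟨B, ?_, fun k => ⟨hblock k, ?_⟩, fun χ hχ => ?_⟩
  · intro k l hkl
    by_contra hne
    obtain ⟨t, -, hvt⟩ := hprop (φ k).1 (φ l).1 (φ k).2 (φ l).2 (by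
      have := hmem k
      rw [hkl] at this
      exact sameBlock_of_mem (hblock l) this (hmem l))
    refine hφ ?_
    rw [← Matrix.det_transpose]
    let T := (Matrix.of fun i k => v (φ k).1 i)ᵀ
    have h1 : T.det = (T.updateRow k (T k + (-t) • T l)).det :=
      (Matrix.det_updateRow_add_smul_self T hne (-t)).symm
    refine h1.trans (Matrix.det_eq_zero_of_row_eq_zero k fun i => ?_)
    rw [Matrix.updateRow_self]
    have := congrFun hvt i
    simp only [Pi.smul_apply, smul_eq_mul] at this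
    simp [T, Matrix.transpose_apply, this]
  · obtain ⟨D₀, hD₀⟩ := exists_isDefectGroup hM (hblock k)
    obtain ⟨i, hi⟩ := hcol k
    have hsub := defectGroup_subConj_of_centralChar hM (hblock k) hD₀ (hmem k) (hD i) hi
    obtain ⟨g, hg, hS⟩ := isDefectGroup_iff.mp hD₀
    have hge : d ≤ (Nat.card (Subgroup.centralizer ({g} : Set G))).factorization p := by
      by_contra hlt
      refine hg.2.2 _ (hmem k) (centralChar_mem_of_lt hM (φ k).1 g rfl ?_)
      have hdA : d ≤ (Nat.card G).factorization p := by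
        rw [hddef]
        exact (Nat.factorization_le_iff_dvd Nat.card_pos.ne' Nat.card_pos.ne').mpr
          (Subgroup.card_subgroup_dvd_card D) p
      rw [(φ k).2]
      omega
    obtain ⟨y, hy⟩ := hsub.exists_eq_of_card_le (by
      rw [hS.natCard, IsSylowCent.natCard (hD i), hxd i]
      exact Nat.pow_le_pow_right hp.pos hge)
    exact hy ▸ isDefectGroup_map_conj hM (hblock k) hD₀ y
  · have hχa : ∀ k, (Cfsg.charDegree (χ k : G → ℂ)).factorization p = a := fun k => by
      have h := (hχ k).2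
      rw [Cfsg.blockHeight, hinf k] at h
      have := hdeg k (χ k) (hχ k).1
      omega
    choose t ht hvt using fun k => hprop (χ k) (φ k).1 (hχa k) (φ k).2
      (sameBlock_of_mem (hblock k) (hχ k).1 (hmem k))
    let Mat : Matrix (Fin r) (Fin r) (localRing M) := Matrix.of fun k i => ⟨_, hval (χ k) (x i)⟩
    have hmap : q.mapMatrix Mat = Matrix.diagonal t * (Matrix.of fun i k => v (φ k).1 i)ᵀ := by
      ext k i
      rw [Matrix.diagonal_mul]
      exact congrFun (hvt k) i
    intro hdet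
    have h0 : q Mat.det = 0 := by
      refine Ideal.Quotient.eq_zero_iff_mem.mpr ?_
      rw [mem_localIdeal_iff]
      have hmapdet := RingHom.map_det (localRing M).subtype Mat
      change Cfsg.MemLocalIdeal M ((localRing M).subtype Mat.det)
      rw [hmapdet]
      exact hdet
    rw [RingHom.map_det, hmap, Matrix.det_mul, Matrix.det_transpose, Matrix.det_diagonal] at h0
    exact mul_ne_zero (Finset.prod_ne_zero_iff.mpr fun k _ => ht k) hφ h0

end Cfsg.Agent.BC86
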