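import Cfsg.Agent.CharDeep.Fixed.OddIndex
import Cfsg.Agent.Lib.CharInd.Char
import Cfsg.Agent.S0158

/-!
# Constituents of a permutation character with Frobenius–Schur indicator one
-/

set_option autoImplicit false

open scoped ComplexConjugate

namespace Cfsg.Agent.BC86.StrongRealPerm

universe u

variable {G : Type u} [Group G] [Fintype G] (H : Subgroup G)

/-- The Frobenius–Schur indicator. -/
noncomputable def ind (χ : G → ℂ) : ℂ := (Nat.card G : ℂ)⁻¹ * ∑ g : G, χ (g * g)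

theorem sum_perm [Fintype H] :
    ind (Cfsg.indFun H (fun _ => (1 : ℂ))) =
      (Nat.card {g : G // g * g ∈ H} : ℂ) / Nat.card H := by
  classical
  have h1 : ∀ g : G, Cfsg.indFun H (fun _ => (1 : ℂ)) (g * g) =
      (Nat.card H : ℂ)⁻¹ * ∑ x : G, if x⁻¹ * g * x * (x⁻¹ * g * x) ∈ H then (1 : ℂ) else 0 := by
    intro g
    rw [CharInd.indFun_apply]
    congr 1
    refine Finset.sum_congr rfl fun x _ => ?_
    rw [show x⁻¹ * g * x * (x⁻¹ * g * x) = x⁻¹ * (g * g) * x by group]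
    split_ifs with h
    · rw [CharInd.extendByZero_mem _ h]
    · rw [CharInd.extendByZero_notMem _ h]
  have h2 : ∀ x : G, ∑ g : G, (if x⁻¹ * g * x * (x⁻¹ * g * x) ∈ H then (1 : ℂ) else 0) =
      (Nat.card {g : G // g * g ∈ H} : ℂ) := by
    intro x
    rw [Fintype.sum_equiv (MulAut.conj x⁻¹).toEquiv _ (fun g => if g * g ∈ H then (1 : ℂ) else 0)
      fun g => by simp, Finset.sum_boole, Nat.card_eq_fintype_card, Fintype.card_subtype]
  unfold ind
  rw [Finset.sum_congr rfl fun g _ => h1 g, ← Finset.mul_sum, Finset.sum_comm,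
    Finset.sum_congr rfl fun x _ => h2 x, Finset.sum_const, Finset.card_univ, nsmul_eq_mul,
    Fintype.card_eq_nat_card]
  field_simp

theorem exists_outside (hev : ¬ Odd H.normalCore.index) : ∃ g : G, g ∉ H ∧ g * g ∈ H := by
  haveI : Fact (Nat.Prime 2) := ⟨Nat.prime_two⟩
  rw [Nat.not_odd_iff_even, even_iff_two_dvd, Subgroup.index_eq_card] at hev
  obtain ⟨x, hx⟩ := exists_prime_orderOf_dvd_card' (G := G ⧸ H.normalCore) 2 hev
  obtain ⟨g, rfl⟩ := QuotientGroup.mk_surjective x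
  have hg : g ∉ H.normalCore := fun h => by
    rw [(QuotientGroup.eq_one_iff g).mpr h, orderOf_one] at hx
    omega
  have hgg : g * g ∈ H.normalCore := by
    rw [← QuotientGroup.eq_one_iff, QuotientGroup.mk_mul, ← sq, ← hx, pow_orderOf_eq_one]
  obtain ⟨b, hb⟩ : ∃ b : G, b * g * b⁻¹ ∉ H := by
    by_contra h
    push Not at h
    exact hg h
  refine ⟨b * g * b⁻¹, hb, H.normalCore_le ?_⟩
  rw [show b * g * b⁻¹ * (b * g * b⁻¹) = b * (g * g) * b⁻¹ by group]
  exact H.normalCore_normal.conj_mem _ hgg b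

theorem ind_cases (χ : Cfsg.IrrCharacter G) :
    (ind (χ : G → ℂ) = 0 ∨ ind (χ : G → ℂ) = 1 ∨ ind (χ : G → ℂ) = -1) ∧
      (ind (χ : G → ℂ) = 1 → ∀ g : G, conj ((χ : G → ℂ) g) = (χ : G → ℂ) g) := by
  obtain ⟨n, ρ, hρ, he⟩ := χ.2
  have := hρ
  obtain ⟨h1, h2⟩ := Cfsg.Agent.S0158.result ρ
  unfold ind
  rw [← he]
  refine ⟨h1, fun h g => Complex.conj_eq_iff_im.mpr ?_⟩
  by_contra hg
  rw [h2.mpr ⟨g, hg⟩] at h
  exact zero_ne_one h

theorem constituent_trivial_on_core [Fintype H] (χ : Cfsg.IrrCharacter G)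
    (hχ : Cfsg.classInner (Cfsg.indFun H (fun _ : H => (1 : ℂ))) (χ : G → ℂ) ≠ 0) {k : G}
    (hk : k ∈ H.normalCore) : (χ : G → ℂ) k = (χ : G → ℂ) 1 := by
  classical
  have hone : Cfsg.IsCharacter H (fun _ : H => (1 : ℂ)) := CharCore.isCharacter_one
  obtain ⟨m, hm⟩ := CharCore.IsCharacter.exists_sum (CharInd.isCharacter_indFun H hone)
  have hfix : Cfsg.indFun H (fun _ : H => (1 : ℂ)) k = Cfsg.indFun H (fun _ : H => (1 : ℂ)) 1 := by
    rw [CharInd.indFun_apply, CharInd.indFun_apply]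
    congr 1
    refine Finset.sum_congr rfl fun x _ => ?_
    have h1 : x⁻¹ * k * x ∈ H := by
      have := H.normalCore_le (H.normalCore_normal.conj_mem k hk x⁻¹)
      rwa [inv_inv] at this
    have h2 : x⁻¹ * 1 * x ∈ H := by
      rw [mul_one, inv_mul_cancel]
      exact H.one_mem
    rw [CharInd.extendByZero_mem _ h1, CharInd.extendByZero_mem _ h2]
  rw [hm] at hfix
  simp only [Finset.sum_apply, Pi.smul_apply, smul_eq_mul] at hfix
  have hre := congrArg Complex.re hfix
  simp only [Complex.re_sum, Complex.mul_re, Complex.natCast_re, Complex.natCast_im, zero_mul,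
    sub_zero] at hre
  choose d hd using fun ψ : Cfsg.IrrCharacter G =>
    CharCore.IsCharacter.exists_degree (CharCore.irr_isCharacter ψ)
  have hnorm : ∀ ψ : Cfsg.IrrCharacter G, ‖(ψ : G → ℂ) k‖ ≤ (d ψ : ℝ) := fun ψ => by
    have := CharCore.IsCharacter.norm_apply_le (CharCore.irr_isCharacter ψ) k
    rw [hd ψ] at this
    simpa using this
  have hle : ∀ ψ : Cfsg.IrrCharacter G, ((ψ : G → ℂ) k).re ≤ ((ψ : G → ℂ) 1).re := fun ψ => by
    rw [hd ψ, Complex.natCast_re]
    exact (Complex.re_le_norm _).trans (hnorm ψ)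
  have hm0 : (m χ : ℝ) ≠ 0 := by
    intro h
    apply hχ
    rw [hm, CharCore.classInner_sum_all, Nat.cast_eq_zero]
    exact_mod_cast h
  have heq := (Finset.sum_eq_sum_iff_of_le (fun ψ _ => mul_le_mul_of_nonneg_left (hle ψ)
    (Nat.cast_nonneg (m ψ)))).mp hre χ (Finset.mem_univ χ)
  have hre' : ((χ : G → ℂ) k).re = (d χ : ℝ) := by
    rw [mul_left_cancel₀ hm0 heq, hd χ, Complex.natCast_re]
  have hn : ‖(χ : G → ℂ) k‖ = (d χ : ℝ) :=
    le_antisymm (hnorm χ) (hre' ▸ Complex.re_le_norm _)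
  have him : ((χ : G → ℂ) k).im = 0 := by
    have := Complex.sq_norm ((χ : G → ℂ) k)
    rw [hn, Complex.normSq_apply, hre'] at this
    nlinarith
  exact Complex.ext (by rw [hre', hd χ, Complex.natCast_re]) (by rw [him, hd χ, Complex.natCast_im])

theorem card_eq_one_iff [Fintype H] :
    Nat.card {χ : Cfsg.IrrCharacter G //
      Cfsg.classInner (Cfsg.indFun H (fun _ : H => (1 : ℂ))) (χ : G → ℂ) ≠ 0 ∧
      (∀ g : G, conj ((χ : G → ℂ) g) = (χ : G → ℂ) g) ∧ ind (χ : G → ℂ) = 1} = 1 ↔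
      Odd H.normalCore.index := by
  classical
  set π := Cfsg.indFun H (fun _ : H => (1 : ℂ)) with hπ
  have hone : Cfsg.IsCharacter H (fun _ : H => (1 : ℂ)) := CharCore.isCharacter_one
  obtain ⟨m, hm⟩ := CharCore.IsCharacter.exists_sum (CharInd.isCharacter_indFun H hone)
  let one : Cfsg.IrrCharacter G := ⟨fun _ => 1, CharCore.isIrrCharacter_one⟩
  have hm1 : Cfsg.classInner π (one : G → ℂ) = 1 := by
    rw [hπ, CharInd.classInner_indFun_left H _ (CharCore.irr_isClassFunction one)]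
    exact (CharCore.isIrrCharacter_iff.mp (CharCore.isIrrCharacter_one (G := H))).2
  have hone_mem : Cfsg.classInner π (one : G → ℂ) ≠ 0 ∧
      (∀ g : G, conj ((one : G → ℂ) g) = (one : G → ℂ) g) ∧ ind (one : G → ℂ) = 1 :=
    ⟨by rw [hm1]; exact one_ne_zero, fun g => map_one _, by
      show (Nat.card G : ℂ)⁻¹ * ∑ _g : G, (1 : ℂ) = 1
      rw [Finset.sum_const, Finset.card_univ, nsmul_eq_mul, mul_one, Fintype.card_eq_nat_card,
        inv_mul_cancel₀ (Nat.cast_ne_zero.mpr Nat.card_pos.ne')]⟩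
  constructor
  · intro hcard
    by_contra hev
    obtain ⟨g₀, hg₀, hg₀'⟩ := exists_outside H hev
    have hgt : Nat.card H < Nat.card {g : G // g * g ∈ H} := by
      let f : H → {g : G // g * g ∈ H} := fun h => ⟨h, H.mul_mem h.2 h.2⟩
      have hf : Function.Injective f := fun a b h => Subtype.ext (congrArg (fun x => x.1) h :)
      rw [Nat.card_eq_fintype_card, Nat.card_eq_fintype_card]
      refine Fintype.card_lt_of_injective_of_notMem f hf (b := ⟨g₀, hg₀'⟩) ?_
      rintro ⟨h, hh⟩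
      exact hg₀ (by rw [← show (h : G) = g₀ from congrArg (fun x => x.1) hh]; exact h.2)
    have hsub := Nat.card_eq_one_iff_unique.mp hcard |>.1
    have hsum : ind π = ∑ χ : Cfsg.IrrCharacter G, (m χ : ℂ) * ind (χ : G → ℂ) := by
      simp only [ind, hπ, hm, Finset.sum_apply, Pi.smul_apply, smul_eq_mul, Finset.mul_sum]
      rw [Finset.sum_comm]
      exact Finset.sum_congr rfl fun χ _ => Finset.sum_congr rfl fun g _ => by ring
    rw [hπ, sum_perm H] at hsum
    have hre := congrArg Complex.re hsum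
    rw [Complex.re_sum, ← Finset.add_sum_erase _ _ (Finset.mem_univ one)] at hre
    have hm1' : (m one : ℂ) = 1 := by
      rw [← CharCore.classInner_sum_all (fun χ => (m χ : ℂ)) one, ← hm, hm1]
    rw [hm1', hone_mem.2.2, one_mul, Complex.one_re] at hre
    have hrest : ∑ χ ∈ Finset.univ.erase one, ((m χ : ℂ) * ind (χ : G → ℂ)).re ≤ 0 := by
      refine Finset.sum_nonpos fun χ hχ => ?_
      by_cases h0 : m χ = 0
      · simp [h0]
      have hne : Cfsg.classInner π (χ : G → ℂ) ≠ 0 := by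
        rw [hπ, hm, CharCore.classInner_sum_all]
        exact_mod_cast h0
      rcases (ind_cases χ).1 with h | h | h
      · simp [h]
      · exfalso
        exact Finset.ne_of_mem_erase hχ (congrArg Subtype.val
          (@Subsingleton.elim _ hsub ⟨χ, hne, (ind_cases χ).2 h, h⟩ ⟨one, hone_mem⟩) :)
      · simp [h]
    have hlt : (1 : ℝ) < ((Nat.card {g : G // g * g ∈ H} : ℂ) / Nat.card H).re := by
      rw [Complex.div_natCast_re, Complex.natCast_re, lt_div_iff₀ (by exact_mod_cast Nat.card_pos),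
        one_mul]
      exact_mod_cast hgt
    linarith
  · intro hodd
    rw [Nat.card_eq_one_iff_unique]
    refine ⟨⟨fun a b => ?_⟩, ⟨⟨one, hone_mem⟩⟩⟩
    suffices h : ∀ χ : Cfsg.IrrCharacter G, Cfsg.classInner π (χ : G → ℂ) ≠ 0 →
        (∀ g : G, conj ((χ : G → ℂ) g) = (χ : G → ℂ) g) → χ = one by
      exact Subtype.ext ((h a.1 a.2.1 a.2.2.1).trans (h b.1 b.2.1 b.2.2.1).symm)
    intro χ hχ hreal
    obtain ⟨ψ, -, hψi, hψ⟩ := CharCore.IsCharacter.exists_quotient (CharCore.irr_isCharacter χ)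
      H.normalCore fun k hk => constituent_trivial_on_core H χ hχ hk
    have hψ1 := CharDeep.Fixed.eq_one_of_real (Q := G ⧸ H.normalCore)
      (by rwa [← Subgroup.index_eq_card]) ⟨ψ, hψi χ.2⟩ fun q => by
        obtain ⟨g, rfl⟩ := QuotientGroup.mk'_surjective H.normalCore q
        show ψ (QuotientGroup.mk' _ g)⁻¹ = ψ (QuotientGroup.mk' _ g)
        rw [← map_inv, ← hψ, ← hψ, CharCore.irr_apply_inv, hreal]
    exact Subtype.ext (funext fun g => (hψ g).trans (congrFun hψ1 _))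

end Cfsg.Agent.BC86.StrongRealPerm
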