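import Cfsg.Agent.BC86.Count
import Cfsg.Agent.BC86.Modular
import Mathlib.GroupTheory.Perm.Cycle.Type
import Mathlib.LinearAlgebra.Dimension.Constructions
import Mathlib.LinearAlgebra.Dimension.StrongRankCondition
import Mathlib.LinearAlgebra.FiniteDimensional.Basic

/-!
# Elements of order three and characters of `2`-defect zero
-/

open scoped ComplexConjugate
open Cfsg.Agent.CharCore Cfsg.Agent.BlocksCore

namespace Cfsg.Agent.BC86

variable {G : Type*} [Group G] [Finite G]

/-- The number of `a` conjugate to `u` with `a⁻¹ z` conjugate to `v`. -/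
noncomputable def prodCount (u v z : G) : ℕ :=
  Nat.card {a : G // IsConj u a ∧ IsConj v (a⁻¹ * z)}

theorem pairCount_eq_prodCount (u v z : G) :
    pairCount u v z = Nat.card (Subgroup.centralizer ({u} : Set G)) *
      Nat.card (Subgroup.centralizer ({v} : Set G)) * prodCount u v z := by
  classical
  have := Fintype.ofFinite G
  let e : {ab : G × G // ab.1 * u * ab.1⁻¹ * (ab.2 * v * ab.2⁻¹) = z} ≃
      Σ c : G, {a : G // a * u * a⁻¹ = c} × {b : G // b * v * b⁻¹ = c⁻¹ * z} :=
    { toFun := fun ab => ⟨ab.1.1 * u * ab.1.1⁻¹, ⟨ab.1.1, rfl⟩, ⟨ab.1.2,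
        eq_inv_mul_of_mul_eq ab.2⟩⟩
      invFun := fun x => ⟨(x.2.1.1, x.2.2.1), by
        rw [x.2.1.2, x.2.2.2]; group⟩
      left_inv := fun ab => rfl
      right_inv := fun x => by
        rcases x with ⟨c, ⟨a, ha⟩, ⟨b, hb⟩⟩
        cases ha
        rfl }
  rw [pairCount, Nat.card_congr e, Nat.card_sigma]
  simp only [Nat.card_prod, card_conj_fibre]
  rw [prodCount, Nat.card_eq_fintype_card (α := {a : G // IsConj u a ∧ IsConj v (a⁻¹ * z)}),
    Fintype.card_subtype, Finset.card_filter, Finset.mul_sum]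
  refine Finset.sum_congr rfl fun c _ => ?_
  by_cases h1 : IsConj u c <;> by_cases h2 : IsConj v (c⁻¹ * z) <;>
    simp [h1, h2, -isConj_iff]

theorem prodCount_comm (u v z : G) : prodCount u v z = prodCount v u z := by
  refine Nat.card_congr
    { toFun := fun a => ⟨a.1⁻¹ * z, a.2.2,
        a.2.1.trans (isConj_iff.mpr ⟨z⁻¹, by group⟩)⟩
      invFun := fun b => ⟨z * b.1⁻¹,
        b.2.2.trans (isConj_iff.mpr ⟨z, by group⟩), by
          have : (z * b.1⁻¹)⁻¹ * z = b.1 := by group
          rw [this]; exact b.2.1⟩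
      left_inv := fun a => Subtype.ext (by simp)
      right_inv := fun b => Subtype.ext (by simp) }

/-- `y` normalises no nontrivial `2`-subgroup. -/
def NormalizesNoTwoGroup (y : G) : Prop :=
  ∀ Q : Subgroup G, IsPGroup 2 Q → y ∈ Subgroup.normalizer (Q : Set G) → Q = ⊥

theorem odd_card_centralizer_of_normalizesNoTwoGroup {y : G} (hy : NormalizesNoTwoGroup y) :
    ¬ 2 ∣ Nat.card (Subgroup.centralizer ({y} : Set G)) := by
  intro h
  have := Fact.mk Nat.prime_two
  obtain ⟨t, ht⟩ := exists_prime_orderOf_dvd_card' 2 h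
  have htG : orderOf (t : G) = 2 := (Subgroup.orderOf_coe t).trans ht
  have hb := hy (Subgroup.zpowers (t : G))
    (IsPGroup.of_card (n := 1) (by rw [Nat.card_zpowers, htG, pow_one])) (by
      refine Subgroup.centralizer_le_normalizer _ (Subgroup.mem_centralizer_iff.mpr ?_)
      intro r hr
      obtain ⟨n, rfl⟩ := Subgroup.mem_zpowers_iff.mp hr
      exact (Commute.zpow_left (Subgroup.mem_centralizer_singleton_iff.mp t.2) n).eq)
  rw [Subgroup.zpowers_eq_bot.mp hb, orderOf_one] at htG
  exact absurd htG (by norm_num)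

omit [Finite G] in
theorem mul_eq_one_of_relation {a y : G} (ha : a ^ 3 = 1) (hy : y ^ 3 = 1)
    (h2 : (a * y) * (a * y) = 1) (hno : NormalizesNoTwoGroup y) : a * y = 1 := by
  set t := a * y with ht
  set u := y⁻¹ * t * y with hu
  have hy' : y⁻¹ = y * y := inv_eq_of_mul_eq_one_left (by rw [← hy, pow_three, mul_assoc])
  have htu : t * u * (y⁻¹ * u * y) = 1 := by
    have e : (t * y⁻¹) ^ 3 = 1 := by rw [ht, mul_inv_cancel_right, ha]
    have e3 : y * y * y = 1 := by rw [mul_assoc, ← pow_three, hy]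
    calc t * u * (y⁻¹ * u * y) = (t * y⁻¹) ^ 3 * (y * y * y) := by
          rw [hu, pow_three]; group
      _ = 1 := by rw [e, e3, one_mul]
  have huu : u * u = 1 := by
    rw [hu]
    calc y⁻¹ * t * y * (y⁻¹ * t * y) = y⁻¹ * (t * t) * y := by group
      _ = 1 := by rw [h2]; group
  have hv : y⁻¹ * u * y = t * u := by
    have hvv : (y⁻¹ * u * y) * (y⁻¹ * u * y) = 1 := by
      calc (y⁻¹ * u * y) * (y⁻¹ * u * y) = y⁻¹ * (u * u) * y := by group
        _ = 1 := by rw [huu]; group
    rw [eq_inv_of_mul_eq_one_left htu, inv_eq_of_mul_eq_one_left hvv]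
  have hw : y⁻¹ * (t * u) * y = t := by
    rw [← hv, hu]
    calc y⁻¹ * (y⁻¹ * (y⁻¹ * t * y) * y) * y = (y * y * y)⁻¹ * t * (y * y * y) := by group
      _ = t := by rw [mul_assoc y y y, ← pow_three, hy]; simp
  have hcomm : u * t = t * u := by
    have hsq : (t * u) * (t * u) = 1 := by
      rw [← hv]
      calc (y⁻¹ * u * y) * (y⁻¹ * u * y) = y⁻¹ * (u * u) * y := by group
        _ = 1 := by rw [huu]; group
    have := inv_eq_of_mul_eq_one_left hsq
    rwa [mul_inv_rev, inv_eq_of_mul_eq_one_left huu, inv_eq_of_mul_eq_one_left h2] at this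
  have htt' : ∀ g, t * (t * g) = g := fun g => by rw [← mul_assoc, h2, one_mul]
  have huu' : ∀ g, u * (u * g) = g := fun g => by rw [← mul_assoc, huu, one_mul]
  have hcomm' : ∀ g, u * (t * g) = t * (u * g) := fun g => by rw [← mul_assoc, hcomm, mul_assoc]
  let V : Subgroup G :=
    { carrier := {g | g = 1 ∨ g = t ∨ g = u ∨ g = t * u}
      one_mem' := Or.inl rfl
      mul_mem' := by
        rintro g h (rfl | rfl | rfl | rfl) (rfl | rfl | rfl | rfl) <;>
          simp [mul_assoc, h2, huu, hcomm, htt', huu', hcomm']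
      inv_mem' := by
        rintro g (rfl | rfl | rfl | rfl) <;>
          simp [inv_eq_of_mul_eq_one_left h2, inv_eq_of_mul_eq_one_left huu, hcomm] }
  have hV : IsPGroup 2 V := fun g => ⟨1, Subtype.ext (by
    rcases g.2 with h | h | h | h <;>
      simp [h, pow_two, mul_assoc, h2, huu, htt', huu', hcomm'])⟩
  have hmap : ∀ g ∈ V, y⁻¹ * g * y ∈ V := by
    rintro g (rfl | rfl | rfl | rfl)
    · exact Or.inl (by group)
    · exact Or.inr (Or.inr (Or.inl rfl))
    · exact Or.inr (Or.inr (Or.inr hv))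
    · exact Or.inr (Or.inl hw)
  have hnorm : y ∈ Subgroup.normalizer (V : Set G) := by
    refine Subgroup.mem_normalizer_iff.mpr fun g => ⟨fun hg => ?_, fun hg => ?_⟩
    · have := hmap _ (hmap g hg)
      convert this using 1
      rw [hy']
      have e3 : y * (y * y) = 1 := by rw [← pow_three, hy]
      calc y * g * (y * y) = (y * (y * y)) * (y * g * (y * y)) := by rw [e3, one_mul]
        _ = _ := by group
    · have := hmap _ hg
      convert this using 1
      group
  have htV : t ∈ V := Or.inr (Or.inl rfl)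
  rwa [hno V hV hnorm, Subgroup.mem_bot] at htV

theorem prodCount_self_mod_two {w y : G} (hw : w ^ 3 = 1) (hy : y ^ 3 = 1)
    (hno : NormalizesNoTwoGroup y) [Decidable (IsConj w y⁻¹)] :
    prodCount w w y ≡ (if IsConj w y⁻¹ then 1 else 0) [MOD 2] := by
  classical
  have := Fintype.ofFinite G
  let X := {a : G // IsConj w a ∧ IsConj w (a⁻¹ * y)}
  have hyy : y * y = y⁻¹ := eq_inv_of_mul_eq_one_left (by rw [mul_assoc, ← pow_three, hy])
  have e3 : y * y * y = 1 := by rw [hyy, inv_mul_cancel]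
  let f : X → X := fun a => ⟨y⁻¹ * a.1⁻¹ * (y * y),
    a.2.2.trans (isConj_iff.mpr ⟨y⁻¹, by group⟩),
    a.2.1.trans (isConj_iff.mpr ⟨(y * y)⁻¹, by simp [mul_assoc]⟩)⟩
  have hf : Function.Involutive f := fun a => Subtype.ext (by
    change y⁻¹ * (y⁻¹ * a.1⁻¹ * (y * y))⁻¹ * (y * y) = a.1
    calc y⁻¹ * (y⁻¹ * a.1⁻¹ * (y * y))⁻¹ * (y * y) = (y * y * y)⁻¹ * a.1 * (y * y * y) := by group
      _ = a.1 := by rw [e3]; simp)
  have hfix : ∀ a : X, f a = a → a.1 = y⁻¹ := by
    intro a ha
    obtain ⟨c, hc⟩ := isConj_iff.mp a.2.1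
    have ha3 : a.1 ^ 3 = 1 := by
      rw [← hc, ← MulAut.conj_apply, ← map_pow, hw, map_one]
    have h' : y⁻¹ * a.1⁻¹ * (y * y) = a.1 := congrArg Subtype.val ha
    have h2 : (a.1 * y) * (a.1 * y) = 1 := by
      conv_lhs => arg 1; rw [← h']
      calc y⁻¹ * a.1⁻¹ * (y * y) * y * (a.1 * y) = y⁻¹ * a.1⁻¹ * (y * y * y) * a.1 * y := by group
        _ = 1 := by rw [e3]; group
    exact eq_inv_of_mul_eq_one_left (mul_eq_one_of_relation ha3 hy h2 hno)
  have := Fact.mk Nat.prime_two
  have hmod := Equiv.Perm.card_compl_support_modEq (σ := hf.toPerm f) (p := 2) (n := 1)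
    (by ext a; simp [pow_two, hf a])
  rw [← Nat.card_eq_fintype_card] at hmod
  refine hmod.symm.trans ?_
  split_ifs with h
  · have hmem : IsConj w y⁻¹ ∧ IsConj w (y⁻¹⁻¹ * y) := ⟨h, by rwa [inv_inv, hyy]⟩
    have : (hf.toPerm f).supportᶜ = {⟨y⁻¹, hmem⟩} := by
      ext a
      simp only [Finset.mem_compl, Equiv.Perm.mem_support, not_not, Finset.mem_singleton]
      constructor
      · exact fun ha => Subtype.ext (hfix a ha)
      · rintro rfl
        refine Subtype.ext ?_
        change y⁻¹ * y⁻¹⁻¹ * (y * y) = y⁻¹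
        rw [inv_inv, inv_mul_cancel, one_mul, hyy]
    rw [this, Finset.card_singleton]
  · have : (hf.toPerm f).supportᶜ = ∅ := by
      ext a
      simp only [Finset.mem_compl, Equiv.Perm.mem_support, not_not, Finset.notMem_empty, iff_false]
      exact fun ha => h (hfix a ha ▸ a.2.1)
    rw [this, Finset.card_empty]

omit [Finite G] in
theorem exists_double_sum_eq_diag_add_two_mul {ι : Type*} [DecidableEq ι] (s : Finset ι)
    (F : ι → ι → ℂ) (hF : ∀ i j, IsIntegral ℤ (F i j)) (hsymm : ∀ i j, F i j = F j i) :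
    ∃ X : ℂ, IsIntegral ℤ X ∧ ∑ i ∈ s, ∑ j ∈ s, F i j = ∑ i ∈ s, F i i + 2 * X := by
  induction s using Finset.induction_on with
  | empty => exact ⟨0, isIntegral_zero, by simp⟩
  | @insert a s ha ih =>
    obtain ⟨X, hX, h⟩ := ih
    refine ⟨X + ∑ i ∈ s, F i a, hX.add (IsIntegral.sum _ fun i _ => hF i a), ?_⟩
    simp only [Finset.sum_insert ha, Finset.sum_add_distrib, h]
    rw [Finset.sum_congr rfl (fun j _ => hsymm a j)]
    ring

/-- The classes of elements of order three normalising no nontrivial `2`-subgroup are at most as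
many as the irreducible characters of `2`-defect zero. -/
theorem card_classes_le_card_defectZero {ι : Type*} [Fintype ι] (y : ι → G)
    (hy : ∀ i, y i ^ 3 = 1) (hno : ∀ i, NormalizesNoTwoGroup (y i))
    (hinj : ∀ i j, IsConj (y i) (y j) → i = j) :
    Fintype.card ι ≤ Nat.card {χ : Cfsg.IrrCharacter G //
      (Cfsg.charDegree (χ : G → ℂ)).factorization 2 = (Nat.card G).factorization 2} := by
  classical
  have := Fintype.ofFinite G
  obtain ⟨M, hM⟩ := exists_isPModular Nat.prime_two
  have : M.IsPrime := isPrime hM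
  have : M.IsMaximal := hM.2.1
  letI : Field (Cfsg.AlgInt ⧸ M) := Ideal.Quotient.field M
  let DZ := {χ : Cfsg.IrrCharacter G //
    (Cfsg.charDegree (χ : G → ℂ)).factorization 2 = (Nat.card G).factorization 2}
  let w : ι → G := fun i => (y i)⁻¹
  have hw : ∀ i, w i ^ 3 = 1 := fun i => by simp [w, hy]
  have hwodd : ∀ i, ¬ 2 ∣ Nat.card (Subgroup.centralizer ({w i} : Set G)) := fun i => by
    have : Subgroup.centralizer ({w i} : Set G) = Subgroup.centralizer ({y i} : Set G) := by
      ext g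
      rw [Subgroup.mem_centralizer_singleton_iff, Subgroup.mem_centralizer_singleton_iff]
      exact Commute.inv_right_iff
    rw [this]
    exact odd_card_centralizer_of_normalizesNoTwoGroup (hno i)
  let v : ι → DZ → Cfsg.AlgInt ⧸ M := fun i χ =>
    Ideal.Quotient.mk M ⟨Cfsg.centralChar (χ.1 : G → ℂ) (w i),
      BC86.isIntegral_centralChar χ.1 (w i)⟩
  suffices hli : LinearIndependent (Cfsg.AlgInt ⧸ M) v by
    have := Fintype.ofFinite DZ
    show _ ≤ Nat.card DZ
    rw [Nat.card_eq_fintype_card (α := DZ)]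
    simpa [Module.finrank_fintype_fun_eq_card] using hli.fintype_card_le_finrank
  rw [Fintype.linearIndependent_iff]
  intro g hg k
  choose c hc using fun i => Ideal.Quotient.mk_surjective (g i)
  rw [← hc k, Ideal.Quotient.eq_zero_iff_mem]
  have hu : ∀ χ : DZ, Cfsg.MemLocalIdeal M
      (∑ i, (c i : ℂ) * Cfsg.centralChar (χ.1 : G → ℂ) (w i)) := by
    intro χ
    have h0 := congrFun hg χ
    simp only [Finset.sum_apply, Pi.smul_apply, smul_eq_mul, Pi.zero_apply, v, ← hc, ← map_mul,
      ← map_sum, Ideal.Quotient.eq_zero_iff_mem] at h0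
    simpa using (memLocalIdeal_coe_iff (M := M) _).mpr h0
  let F : ι → ι → ℂ := fun i j => (c i : ℂ) * (c j : ℂ) * (prodCount (w i) (w j) (y k) : ℂ)
  obtain ⟨X, hX, hXeq⟩ := exists_double_sum_eq_diag_add_two_mul Finset.univ F
    (fun i j => ((c i).2.mul (c j).2).mul (isIntegral_natCast _))
    (fun i j => by simp only [F, prodCount_comm (w i) (w j)]; ring)
  have hpar : ∀ i, Cfsg.MemLocalIdeal M (F i i - if i = k then (c i : ℂ) * c i else 0) := by
    intro i
    have hiff : IsConj (w i) (y k)⁻¹ ↔ i = k := by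
      constructor
      · intro h
        obtain ⟨z, hz⟩ := isConj_iff.mp h
        refine hinj i k (isConj_iff.mpr ⟨z, inv_injective ?_⟩)
        rw [← hz]
        simp [w, mul_assoc]
      · rintro rfl; exact IsConj.refl _
    have h2 := prodCount_self_mod_two (hw i) (hy k) (hno k)
    have h2' : (2 : ℤ) ∣ (prodCount (w i) (w i) (y k) : ℤ) - (if i = k then 1 else 0 : ℕ) := by
      simp only [hiff] at h2
      exact Int.modEq_iff_dvd.mp (Int.natCast_modEq_iff.mpr h2.symm)
    have h3 := memLocalIdeal_mul_left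
      (memLocalRing_of_isIntegral (M := M) ((c i).2.mul (c i).2))
      ((memLocalIdeal_intCast_iff hM _).mpr h2')
    convert h3 using 1
    simp only [F]
    split_ifs <;> push_cast <;> ring
  have hT : Cfsg.MemLocalIdeal M (∑ i, ∑ j, F i j) := by
    let W : Cfsg.IrrCharacter G → ℂ := fun χ => ∑ i,
      (c i : ℂ) * (χ : G → ℂ) (w i) / (Nat.card (Subgroup.centralizer ({w i} : Set G)) : ℂ)
    have hWr : ∀ χ, Cfsg.MemLocalRing M (W χ) := fun χ => memLocalRing_sum fun i _ => by
      rw [div_eq_mul_inv]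
      exact (localRing M).mul_mem (memLocalRing_of_isIntegral ((c i).2.mul
        (IsCharacter.isIntegral (irr_isCharacter χ) _))) (memLocalRing_natCast_inv hM (hwodd i))
    have hF : ∀ i j, F i j = (Nat.card G : ℂ) * ∑ χ : Cfsg.IrrCharacter G,
        ((c i : ℂ) * (χ : G → ℂ) (w i) / (Nat.card (Subgroup.centralizer ({w i} : Set G)) : ℂ)) *
        ((c j : ℂ) * (χ : G → ℂ) (w j) / (Nat.card (Subgroup.centralizer ({w j} : Set G)) : ℂ)) *
        (conj ((χ : G → ℂ) (y k)) / (χ : G → ℂ) 1) := by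
      intro i j
      have hi : (Nat.card (Subgroup.centralizer ({w i} : Set G)) : ℂ) ≠ 0 :=
        Nat.cast_ne_zero.mpr Nat.card_pos.ne'
      have hj : (Nat.card (Subgroup.centralizer ({w j} : Set G)) : ℂ) ≠ 0 :=
        Nat.cast_ne_zero.mpr Nat.card_pos.ne'
      have h := pairCount_eq (w i) (w j) (y k)
      rw [pairCount_eq_prodCount, Nat.cast_mul, Nat.cast_mul] at h
      refine mul_left_cancel₀ (mul_ne_zero hi hj) ?_
      calc (Nat.card (Subgroup.centralizer ({w i} : Set G)) : ℂ) *
            (Nat.card (Subgroup.centralizer ({w j} : Set G)) : ℂ) * F i j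
          = (c i : ℂ) * c j * ((Nat.card G : ℂ) * ∑ χ : Cfsg.IrrCharacter G,
              (χ : G → ℂ) (w i) * (χ : G → ℂ) (w j) * conj ((χ : G → ℂ) (y k)) /
                (χ : G → ℂ) 1) := by rw [← h]; simp only [F]; ring
        _ = _ := by
            simp only [Finset.mul_sum]
            refine Finset.sum_congr rfl fun χ _ => ?_
            field_simp
    have heq : ∑ i, ∑ j, F i j = ∑ χ : Cfsg.IrrCharacter G,
        ((Nat.card G : ℂ) / (χ : G → ℂ) 1) * (W χ * W χ) * conj ((χ : G → ℂ) (y k)) := by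
      simp only [hF, W, Finset.sum_mul, Finset.mul_sum]
      conv_rhs => rw [Finset.sum_comm]
      refine Finset.sum_congr rfl fun i _ => ?_
      rw [Finset.sum_comm]
      refine Finset.sum_congr rfl fun χ _ => Finset.sum_congr rfl fun j _ => ?_
      ring
    rw [heq]
    refine memLocalIdeal_sum fun χ _ => ?_
    obtain ⟨q, hq⟩ := BC86.degree_dvd_card χ
    have hqc : (Nat.card G : ℂ) / (χ : G → ℂ) 1 = (q : ℂ) := by
      rw [hq, Nat.cast_mul, charDegree_cast, mul_div_cancel_left₀ _ (irr_apply_one_ne_zero χ)]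
    rw [hqc]
    have hyr : Cfsg.MemLocalRing M (conj ((χ : G → ℂ) (y k))) := by
      rw [← irr_apply_inv χ]
      exact memLocalRing_of_isIntegral (IsCharacter.isIntegral (irr_isCharacter χ) _)
    by_cases h2q : 2 ∣ q
    · exact memLocalIdeal_mul_right (memLocalIdeal_mul_right
        ((memLocalIdeal_natCast_iff hM q).mpr h2q) ((localRing M).mul_mem (hWr χ) (hWr χ))) hyr
    · have hdz : (Cfsg.charDegree (χ : G → ℂ)).factorization 2 = (Nat.card G).factorization 2 := by
        rw [hq, Nat.factorization_mul (charDegree_ne_zero χ) (fun h => h2q (by rw [h]; exact dvd_zero 2)),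
          Finsupp.add_apply, Nat.factorization_eq_zero_of_not_dvd h2q, add_zero]
      have hqW : Cfsg.MemLocalIdeal M ((q : ℂ) * W χ) := by
        convert hu ⟨χ, hdz⟩ using 1
        rw [Finset.mul_sum]
        refine Finset.sum_congr rfl fun i _ => ?_
        have hidx := Subgroup.index_mul_card (Subgroup.centralizer ({w i} : Set G))
        have hidx' : ((Subgroup.centralizer ({w i} : Set G)).index : ℂ) *
            (Nat.card (Subgroup.centralizer ({w i} : Set G)) : ℂ) = Nat.card G := by
          exact_mod_cast hidx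
        rw [Cfsg.centralChar, ← hqc, ← hidx']
        field_simp [Nat.cast_ne_zero (R := ℂ) |>.mpr (Nat.card_pos
          (α := Subgroup.centralizer ({w i} : Set G))).ne']
      rw [← mul_assoc]
      exact memLocalIdeal_mul_right (memLocalIdeal_mul_right hqW (hWr χ)) hyr
  rw [hXeq] at hT
  have h2X : Cfsg.MemLocalIdeal M ((2 : ℂ) * X) := by
    have h := memLocalIdeal_mul_right ((memLocalIdeal_natCast_iff hM 2).mpr dvd_rfl)
      (memLocalRing_of_isIntegral (M := M) hX)
    rwa [Nat.cast_ofNat] at h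
  have h1 := memLocalIdeal_sub (memLocalIdeal_sub hT h2X)
    (memLocalIdeal_sum (s := Finset.univ) fun i _ => hpar i)
  rw [add_sub_cancel_right, Finset.sum_sub_distrib, sub_sub_cancel, Finset.sum_ite_eq'] at h1
  simp only [Finset.mem_univ, if_true] at h1
  have h4 : c k * c k ∈ M := (memLocalIdeal_coe_iff (M := M) (c k * c k)).mp (by simpa using h1)
  exact (Ideal.IsPrime.mem_or_mem inferInstance h4).elim id id

end Cfsg.Agent.BC86
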