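import Cfsg.Agent.BC86.VanProj
import Cfsg.Agent.Lib.Coprime.Action
import Mathlib.GroupTheory.Frattini

/-!
# Regular orbits of abelian groups on linear characters of a coprime nilpotent group
-/

set_option autoImplicit false

namespace Cfsg.Agent.BC86.Vanishing

universe u

variable {G : Type u} [Group G] (F : Subgroup G) [hF : F.Normal]

/-- The commutator of a finite nilpotent group lies in its Frattini subgroup. -/
theorem commutator_le_frattini {H : Type u} [Group H] [Finite H] [Group.IsNilpotent H] :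
    commutator H ≤ frattini H := by
  rw [frattini, Order.radical]
  simp only [le_iInf_iff]
  intro M hM
  haveI : M.Normal := Subgroup.NormalizerCondition.normal_of_coatom M
    (Group.normalizerCondition_of_isNilpotent (G := H)) hM
  obtain ⟨v, -, hv⟩ := SetLike.exists_of_lt (lt_top_iff_ne_top.mpr hM.1)
  exact Subgroup.Normal.commutator_le_of_self_sup_commutative_eq_top
    (hM.2 _ (lt_of_le_of_ne le_sup_left fun h =>
      hv (h ▸ le_sup_right (a := M) (Subgroup.mem_zpowers v))))
    inferInstance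

variable [Finite G]

theorem exists_moved (hnil : Group.IsNilpotent F) {c : G}
    (hcop : (orderOf c).Coprime (Nat.card F)) (hc : ∃ f ∈ F, c * f ≠ f * c) :
    ∃ d : F →* ℂˣ, conjHom F c d ≠ d := by
  haveI := hnil
  by_contra hall
  push Not at hall
  have hcom : ∀ f : F, (MulAut.conjNormal c f) * f⁻¹ ∈ commutator F := by
    intro f
    by_contra hn
    have ha : Abelianization.of ((MulAut.conjNormal c f) * f⁻¹) ≠ 1 := fun h =>
      hn ((QuotientGroup.eq_one_iff _).mp h)
    haveI : Finite (Abelianization F) := Finite.of_surjective _ QuotientGroup.mk_surjective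
    obtain ⟨φ, hφ⟩ := CommGroup.exists_apply_ne_one_of_hasEnoughRootsOfUnity _ ℂ ha
    apply hφ
    have := DFunLike.congr_fun (hall (φ.comp Abelianization.of)) f
    simp only [conjHom, MonoidHom.comp_apply, MulEquiv.coe_toMonoidHom] at this
    rw [map_mul, map_mul, map_inv, map_inv, this, mul_inv_cancel]
  have hle : Subgroup.zpowers c ≤ Subgroup.centralizer (F : Set G) := by
    refine Coprime.le_centralizer_of_frattini (Subgroup.zpowers c) F ?_ ?_ ?_
    · rw [Subgroup.normalizer_eq_top_iff.mpr hF]; exact le_top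
    · rw [Nat.card_zpowers]
      exact Nat.Coprime.coprime_dvd_right (Subgroup.card_subgroup_dvd_card _) hcop
    · intro a ha k hk
      obtain ⟨i, rfl⟩ := Subgroup.mem_zpowers_iff.mp ha
      have hmem : ∀ (i : ℤ) (f : F), (MulAut.conjNormal (c ^ i) f) * f⁻¹ ∈ frattini F := by
        intro i
        induction i using Int.induction_on with
        | zero => intro f; simp
        | succ m ih =>
          intro f
          have h1 := ih (MulAut.conjNormal c f)
          have h2 := commutator_le_frattini (hcom f)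
          have h3 := mul_mem h1 h2
          rw [zpow_add_one, map_mul, MulAut.mul_apply]
          simpa [mul_assoc] using h3
        | pred m ih =>
          intro f
          have h1 := ih (MulAut.conjNormal c⁻¹ f)
          have h2 := inv_mem (commutator_le_frattini (hcom (MulAut.conjNormal c⁻¹ f)))
          have h3 := mul_mem h1 h2
          rw [zpow_sub_one, map_mul, MulAut.mul_apply]
          simpa [mul_assoc] using h3
      exact ⟨_, hmem i ⟨k, hk⟩, by
        rw [Subgroup.coe_subtype, Subgroup.coe_mul, Subgroup.coe_inv, MulAut.conjNormal_apply]⟩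
  obtain ⟨f, hf, hne⟩ := hc
  exact hne (Subgroup.mem_centralizer_iff.mp (hle (Subgroup.mem_zpowers c)) f hf).symm

theorem eq_one_of_pow_gcd {D : Type*} [CommGroup D] (x : D) {m n : ℕ} (h1 : x ^ m = 1)
    (h2 : x ^ n = 1) (hg : Nat.gcd m n = 1) : x = 1 := by
  have := pow_gcd_eq_one.mpr ⟨h1, h2⟩
  rwa [hg, pow_one] at this

theorem eq_of_pow_eq {D : Type*} [CommGroup D] {m : ℕ} (hm : ∀ x : D, x ^ m = 1 → x = 1)
    {a b : D} (h : a ^ m = b ^ m) : a = b :=
  div_eq_one.mp (hm _ (by rw [div_pow, h, div_self']))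

theorem map_div_eq_one {D : Type*} [CommGroup D] (N : D →* D) {a b : D} {m : ℕ}
    (hb : N b = b ^ m) (ha : N a = b) : N (a ^ m / b) = 1 := by
  rw [map_div, map_pow, ha, hb, div_self']

theorem map_moved {D : Type*} [CommGroup D] (f : D →* D) {d b : D} {m : ℕ} (hb : f b = b)
    (h : f (d ^ m / b) = d ^ m / b) : (f d) ^ m = d ^ m := by
  rw [map_div, map_pow, hb] at h
  exact div_left_inj.mp h

theorem map_mul_pow {D : Type*} [CommGroup D] (N : D →* D) {a e : D} {m : ℕ}
    (ha : N a = a ^ m) (he : N e = 1) : N (a * e) = a ^ m := by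
  rw [map_mul, ha, he, mul_one]

/-- An abelian coprime group acting faithfully has a regular orbit on linear characters. -/
theorem exists_regular (hnil : Group.IsNilpotent F) (Q : Subgroup G)
    (hQab : ∀ a ∈ Q, ∀ b ∈ Q, a * b = b * a)
    (hcop : (Nat.card Q).Coprime (Nat.card F))
    (hfaith : ∀ q ∈ Q, (∀ f ∈ F, q * f = f * q) → q = 1) :
    ∃ θ : F →* ℂˣ, ∀ q ∈ Q, conjHom F q θ = θ → q = 1 := by
  classical
  haveI := Fintype.ofFinite Q
  let S : (F →* ℂˣ) → Finset Q := fun θ => Finset.univ.filter (fun q : Q => conjHom F (q : G) θ = θ)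
  obtain ⟨θ, hmin⟩ : ∃ θ : F →* ℂˣ, ∀ ψ, (S θ).card ≤ (S ψ).card :=
    ⟨_, fun ψ => Function.argmin_le (fun θ => (S θ).card) ψ⟩
  refine ⟨θ, fun c0 hc0 hfixc => ?_⟩
  by_contra hne
  let c : Q := ⟨c0, hc0⟩
  have hmem : ∀ (ψ : F →* ℂˣ) (q : Q), q ∈ S ψ ↔ conjHom F (q : G) ψ = ψ := fun ψ q => by simp [S]
  have hcS : c ∈ S θ := (hmem θ c).mpr hfixc
  have hcom : ∀ (a b : Q) (ψ : F →* ℂˣ),
      conjHom F (a : G) (conjHom F (b : G) ψ) = conjHom F (b : G) (conjHom F (a : G) ψ) := by
    intro a b ψ
    rw [← conjHom_mul, ← conjHom_mul, hQab b b.2 a a.2]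
  have hmulhom : ∀ (x : G) (a b : F →* ℂˣ), conjHom F x (a * b) = conjHom F x a * conjHom F x b :=
    fun _ _ _ => rfl
  let N : (F →* ℂˣ) →* (F →* ℂˣ) :=
    { toFun := fun d => ∏ u ∈ S θ, conjHom F (u : G) d
      map_one' := Finset.prod_eq_one fun _ _ => rfl
      map_mul' := fun a b => by
        simp only [hmulhom]
        exact Finset.prod_mul_distrib }
  let m := (S θ).card
  have hNfix : ∀ v ∈ S θ, ∀ d, conjHom F (v : G) (N d) = N d := by
    intro v hv d
    let cv : (F →* ℂˣ) →* (F →* ℂˣ) :=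
      { toFun := conjHom F (v : G), map_one' := rfl, map_mul' := hmulhom _ }
    show cv (∏ u ∈ S θ, conjHom F (u : G) d) = ∏ u ∈ S θ, conjHom F (u : G) d
    rw [map_prod]
    refine Finset.prod_bij (fun u _ => u * v) (fun u hu => ?_) (fun a _ b _ h => mul_right_cancel h)
      (fun w hw => ⟨w * v⁻¹, ?_, inv_mul_cancel_right w v⟩) (fun u _ => ?_)
    · rw [hmem, Subgroup.coe_mul, conjHom_mul, (hmem θ u).mp hu, (hmem θ v).mp hv]
    · have hvi : conjHom F ((v : G)⁻¹) θ = θ := by
        conv_lhs => rw [← (hmem θ v).mp hv]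
        rw [← conjHom_mul, mul_inv_cancel, conjHom_one]
      rw [hmem, Subgroup.coe_mul, conjHom_mul, (hmem θ w).mp hw, Subgroup.coe_inv, hvi]
    · show conjHom F (v : G) (conjHom F (u : G) d) = conjHom F ((u * v : Q) : G) d
      rw [Subgroup.coe_mul, conjHom_mul]
  have hNcomm : ∀ (q : Q) (d), N (conjHom F (q : G) d) = conjHom F (q : G) (N d) := by
    intro q d
    let cq : (F →* ℂˣ) →* (F →* ℂˣ) :=
      { toFun := conjHom F (q : G), map_one' := rfl, map_mul' := hmulhom _ }
    show ∏ u ∈ S θ, conjHom F (u : G) (conjHom F (q : G) d) = cq (∏ u ∈ S θ, conjHom F (u : G) d)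
    rw [map_prod]
    exact Finset.prod_congr rfl fun u _ => hcom u q d
  have hNconst : ∀ d, (∀ u ∈ S θ, conjHom F (u : G) d = d) → N d = d ^ m := fun d hd =>
    Finset.prod_eq_pow_card (fun u hu => hd u hu) |>.trans rfl
  -- the `m`-th power is injective
  have hm : ∀ x : F →* ℂˣ, x ^ m = 1 → x = 1 := by
    intro x hx
    have hF1 : x ^ Nat.card F = 1 := by
      ext f
      rw [MonoidHom.pow_apply, ← map_pow, pow_card_eq_one']
      simp
    have hdvd : m ∣ Nat.card Q := by
      let Cs : Subgroup Q :=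
        { carrier := {q | conjHom F (q : G) θ = θ}
          one_mem' := conjHom_one F θ
          mul_mem' := fun {a b} ha hb => by
            show conjHom F ((a * b : Q) : G) θ = θ
            rw [Subgroup.coe_mul, conjHom_mul, ha, hb]
          inv_mem' := fun {a} ha => by
            show conjHom F ((a⁻¹ : Q) : G) θ = θ
            conv_lhs => rw [← ha]
            rw [← conjHom_mul, Subgroup.coe_inv, mul_inv_cancel, conjHom_one] }
      have : Nat.card Cs = m := by
        rw [Nat.card_eq_fintype_card]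
        exact Fintype.card_of_subtype _ fun q => hmem θ q
      exact this ▸ Subgroup.card_subgroup_dvd_card Cs
    exact eq_one_of_pow_gcd (D := F →* ℂˣ) x hx hF1 (Nat.Coprime.coprime_dvd_left hdvd hcop)
  have hcc : (orderOf (c : G)).Coprime (Nat.card F) :=
    Nat.Coprime.coprime_dvd_left (Subgroup.orderOf_dvd_natCard Q hc0) hcop
  have hmoved : ∃ f ∈ F, c0 * f ≠ f * c0 := by
    by_contra h
    push Not at h
    exact hne (hfaith c0 hc0 h)
  obtain ⟨d, hd⟩ := exists_moved F hnil hcc hmoved
  set e := d ^ m / N d with he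
  let cm : G → ((F →* ℂˣ) →* (F →* ℂˣ)) := fun x =>
    { toFun := conjHom F x, map_one' := rfl, map_mul' := hmulhom x }
  have hNe : N e = 1 :=
    map_div_eq_one N (hNconst (N d) fun u hu => hNfix u hu d) rfl
  have hce : conjHom F (c : G) e ≠ e := fun h =>
    hd (eq_of_pow_eq (D := F →* ℂˣ) hm (map_moved (cm c) (hNfix c hcS d) h))
  have hsub : S (θ * e) ⊆ (S θ).erase c := by
    intro q hq
    rw [hmem] at hq
    have hθm : conjHom F (q : G) (θ ^ m) = θ ^ m := by
      have h1 : N (θ * e) = θ ^ m :=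
        map_mul_pow N (hNconst θ fun u hu => (hmem θ u).mp hu) hNe
      have h2 := congrArg N hq
      rwa [hNcomm, h1] at h2
    have hθ : conjHom F (q : G) θ = θ :=
      eq_of_pow_eq (D := F →* ℂˣ) hm ((map_pow (cm q) θ m).symm.trans hθm)
    rw [hmulhom] at hq
    refine Finset.mem_erase.mpr ⟨fun hqc => ?_, (hmem θ q).mpr hθ⟩
    subst hqc
    rw [hθ] at hq
    exact hce (mul_left_cancel hq)
  have h1 := hmin (θ * e)
  have h2 := (Finset.card_le_card hsub).trans_eq (Finset.card_erase_of_mem hcS)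
  have h3 : 0 < (S θ).card := Finset.card_pos.mpr ⟨c, hcS⟩
  omega

end Cfsg.Agent.BC86.Vanishing
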