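import Cfsg.Prelude.Def_Solvable
import Cfsg.Agent.BC86.VanRegular
import Cfsg.Agent.Lib.Fitting.Minimal
import Cfsg.Agent.Lib.Thompson.Cores
import Cfsg.Agent.Lib.CharCore.Basic

/-!
# Vanishing `p`-singular elements of equal order in solvable groups
-/

set_option autoImplicit false

namespace Cfsg.Agent.BC86.Vanishing

universe u

/-- `g` is a vanishing element. -/
def Van {G : Type u} [Group G] (g : G) : Prop := ∃ χ : Cfsg.IrrCharacter G, (χ : G → ℂ) g = 0

/-- The inductive form of "all vanishing `p`-singular elements have the same order". -/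
def Hyp (p : ℕ) (G : Type u) [Group G] : Prop :=
  (∀ x y : G, Van x → Van y → p ∣ orderOf x → p ∣ orderOf y →
      (orderOf x).primeFactors = (orderOf y).primeFactors) ∧
    ∀ (x : G) (k : ℕ), orderOf x = p ^ k → Van x → Van (x ^ p) → x ^ p = 1

section Quotient

variable {G X : Type u} [Group G] [Finite G] [Group X] [Finite X] (π : G →* X)
  (hπ : Function.Surjective π)

include hπ

theorem van_of_map {g : G} (h : Van (π g)) : Van g := by
  obtain ⟨χ, hχ⟩ := h
  exact ⟨⟨_, CharCore.isIrrCharacter_comp_surjective χ.2 π hπ⟩, hχ⟩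

theorem exists_lift (x : X) :
    ∃ g : G, π g = x ∧ (orderOf g).primeFactors = (orderOf x).primeFactors := by
  classical
  have hex : ∃ n, ∃ g : G, π g = x ∧ orderOf g = n := by
    obtain ⟨g, hg⟩ := hπ x
    exact ⟨_, g, hg, rfl⟩
  obtain ⟨g, hg, hn⟩ := Nat.find_spec hex
  have hdvd : orderOf x ∣ orderOf g := hg ▸ orderOf_map_dvd π g
  refine ⟨g, hg, Finset.Subset.antisymm ?_ (Nat.primeFactors_mono hdvd (orderOf_pos g).ne')⟩
  intro r hr
  by_contra hrx
  obtain ⟨hrp, hrg, -⟩ := Nat.mem_primeFactors.mp hr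
  have hnd : ¬ r ∣ orderOf x := fun h => hrx (Nat.mem_primeFactors.mpr ⟨hrp, h, (orderOf_pos x).ne'⟩)
  obtain ⟨e, c, hc, he⟩ :=
    Nat.exists_eq_pow_mul_and_not_dvd (orderOf_pos g).ne' r hrp.ne_one
  have he1 : 1 ≤ e := by
    rcases Nat.eq_zero_or_pos e with h | h
    · exfalso; rw [h, pow_zero, one_mul] at he; exact hc (he ▸ hrg)
    · exact h
  have hxc : orderOf x ∣ c := by
    refine (Nat.Coprime.pow_right e ?_).dvd_of_dvd_mul_left (he ▸ hdvd)
    exact ((hrp.coprime_iff_not_dvd).mpr hnd).symm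
  have hcop : Nat.Coprime (r ^ e) c := Nat.Coprime.pow_left e (hrp.coprime_iff_not_dvd.mpr hc)
  obtain ⟨m, hm1, hm2⟩ := Nat.chineseRemainder hcop 0 1
  have hgm : π (g ^ m) = x := by
    rw [map_pow, hg]
    have := (hm2.of_dvd hxc)
    conv_rhs => rw [← pow_one x]
    exact pow_eq_pow_iff_modEq.mpr this
  have hord : orderOf (g ^ m) ∣ c := by
    rw [orderOf_dvd_iff_pow_eq_one, ← pow_mul, ← orderOf_dvd_iff_pow_eq_one, he]
    exact mul_dvd_mul_right (Nat.modEq_zero_iff_dvd.mp hm1) c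
  have h1 : Nat.find hex ≤ orderOf (g ^ m) := Nat.find_min' hex ⟨_, hgm, rfl⟩
  have hcpos : 0 < c := Nat.pos_of_ne_zero fun h => hc (h ▸ dvd_zero r)
  have h2 := Nat.le_of_dvd hcpos hord
  have h3 : r ^ 1 ≤ r ^ e := Nat.pow_le_pow_right hrp.pos he1
  have h4 : c * 2 ≤ orderOf g := by
    rw [he, mul_comm c 2]
    exact Nat.mul_le_mul_right c (le_trans hrp.two_le (by simpa using h3))
  omega

theorem Hyp.map {p : ℕ} (hp : p.Prime) (h : Hyp p G) : Hyp p X := by
  refine ⟨fun x y hx hy hpx hpy => ?_, fun x k hk hx hxp => ?_⟩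
  · obtain ⟨a, rfl, ha⟩ := exists_lift π hπ x
    obtain ⟨b, rfl, hb⟩ := exists_lift π hπ y
    rw [← ha, ← hb]
    exact h.1 a b (van_of_map π hπ hx) (van_of_map π hπ hy) (hpx.trans (orderOf_map_dvd π a))
      (hpy.trans (orderOf_map_dvd π b))
  · obtain ⟨a, rfl, ha⟩ := exists_lift π hπ x
    have hsub : ∀ r ∈ (orderOf a).primeFactorsList, r = p := by
      intro r hr
      have hr' : r ∈ (orderOf a).primeFactors := List.mem_toFinset.mpr hr
      rw [ha, hk] at hr'
      obtain ⟨hrp, hrd, -⟩ := Nat.mem_primeFactors.mp hr'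
      exact (Nat.prime_dvd_prime_iff_eq hrp hp).mp (hrp.dvd_of_dvd_pow hrd)
    have hap : orderOf a = p ^ (orderOf a).primeFactorsList.length := by
      conv_lhs => rw [← Nat.prod_primeFactorsList (orderOf_pos a).ne']
      exact List.prod_eq_pow_card _ p hsub
    have hv : Van (a ^ p) := van_of_map π hπ (by rw [map_pow]; exact hxp)
    rw [← map_pow, h.2 a _ hap (van_of_map π hπ hx) hv, map_one]

end Quotient

section Main

variable {G : Type u} [Group G] [Finite G] {p : ℕ}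

theorem pair_false (hp : p.Prime) (F : Subgroup G) [F.Normal] (hnil : Group.IsNilpotent F)
    (hF : F ≠ ⊥) (hcop : (Nat.card F).Coprime p) {g h : G} (hg : g ^ p = 1) (hh : h ^ p = 1)
    (hgh : g * h = h * g)
    (hfpf : ∀ i j : ℕ, ¬ (p ∣ i ∧ p ∣ j) → ∀ f ∈ F,
      (g ^ i * h ^ j) * f = f * (g ^ i * h ^ j) → f = 1) : False := by
  classical
  haveI := hnil
  haveI : Nontrivial F := (Subgroup.nontrivial_iff_ne_bot F).mpr hF
  have hZ : Subgroup.center F ≠ ⊥ := by
    have := Fitting.inf_center_ne_bot (G := F) (N := (⊤ : Subgroup F)) top_ne_bot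
    rwa [top_inf_eq] at this
  obtain ⟨z, hz, hz1⟩ := (Subgroup.bot_or_exists_ne_one _).resolve_left hZ
  let Z := Subgroup.center F
  letI : CommGroup Z := { (inferInstance : Group Z) with
    mul_comm := fun a b => Subtype.ext (Subgroup.mem_center_iff.mp b.2 a) }
  -- conjugates of `z` in the centre of `F`
  have hcz : ∀ (u : G) (w : Z), (MulAut.conjNormal u (w : F)) ∈ Subgroup.center F := by
    intro u w
    rw [Subgroup.mem_center_iff]
    intro f
    obtain ⟨f', rfl⟩ := (MulAut.conjNormal u : MulAut F).surjective f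
    rw [← map_mul, ← map_mul, Subgroup.mem_center_iff.mp w.2 f']
  let c : G → Z →* Z := fun u =>
    { toFun := fun w => ⟨MulAut.conjNormal u (w : F), hcz u w⟩
      map_one' := Subtype.ext (map_one _)
      map_mul' := fun a b => Subtype.ext (map_mul _ _ _) }
  have hc_mul : ∀ u v w, c (u * v) w = c u (c v w) := fun u v w =>
    Subtype.ext (by simp only [c, MonoidHom.coe_mk, OneHom.coe_mk, map_mul, MulAut.mul_apply])
  have hc_one : ∀ w, c 1 w = w := fun w => Subtype.ext (by simp [c])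
  let N : G → Z := fun u => ∏ j ∈ Finset.range p, c (u ^ j) ⟨z, hz⟩
  have hN : ∀ i j : ℕ, ¬ (p ∣ i ∧ p ∣ j) → N (g ^ i * h ^ j) = 1 := by
    intro i j hij
    set u := g ^ i * h ^ j with hu
    have hup : u ^ p = 1 := by
      have hcm : Commute (g ^ i) (h ^ j) := (Commute.pow_pow hgh i j)
      rw [hu, hcm.mul_pow, ← pow_mul, ← pow_mul, mul_comm i, mul_comm j, pow_mul, pow_mul, hg, hh,
        one_pow, one_pow, one_mul]
    have hfix : c u (N u) = N u := by
      obtain ⟨m, hm⟩ : ∃ m, p = m + 1 := ⟨p - 1, by have := hp.pos; omega⟩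
      have hs : ∀ j, c u (c (u ^ j) ⟨z, hz⟩) = c (u ^ (j + 1)) ⟨z, hz⟩ := fun j => by
        rw [← hc_mul, ← pow_succ']
      show c u (∏ j ∈ Finset.range p, c (u ^ j) ⟨z, hz⟩) = _
      rw [map_prod, Finset.prod_congr rfl fun j _ => hs j]
      show _ = ∏ j ∈ Finset.range p, c (u ^ j) ⟨z, hz⟩
      rw [hm, Finset.prod_range_succ, Finset.prod_range_succ', ← hm, hup, pow_zero]
    have hval : u * ((N u : F) : G) * u⁻¹ = ((N u : F) : G) := by
      have := congrArg (fun w : Z => ((w : F) : G)) hfix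
      simpa [c, MulAut.conjNormal_apply] using this
    have := hfpf i j hij _ (N u : F).2 (mul_inv_eq_iff_eq_mul.mp hval)
    exact Subtype.ext (Subtype.ext this)
  have hT : ∏ i ∈ Finset.range p, N (g ^ 1 * h ^ i) = 1 :=
    Finset.prod_eq_one fun i _ => hN 1 i fun h => hp.one_lt.ne' (Nat.dvd_one.mp h.1)
  have hpow : ∀ i j : ℕ, (g ^ 1 * h ^ i) ^ j = g ^ j * h ^ (i * j) := by
    intro i j
    rw [pow_one, Commute.mul_pow (Commute.pow_right hgh i), pow_mul]
  simp only [N, hpow] at hT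
  rw [Finset.prod_comm, Finset.prod_eq_single 0] at hT
  · simp only [pow_zero, Nat.mul_zero, mul_one, hc_one, Finset.prod_const, Finset.card_range] at hT
    apply hz1
    have hzp : z ^ p = 1 := congrArg Subtype.val hT
    have hzc : z ^ Nat.card F = 1 := pow_card_eq_one'
    have := pow_gcd_eq_one.mpr ⟨hzc, hzp⟩
    rwa [hcop, pow_one] at this
  · intro j hj hj0
    have hjp : ¬ p ∣ j := fun h => hj0 (Nat.eq_zero_of_dvd_of_lt h (Finset.mem_range.mp hj))
    have h1 : ∀ i, c (g ^ j * h ^ (i * j)) ⟨z, hz⟩ = c (g ^ j) (c (h ^ (i * j)) ⟨z, hz⟩) :=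
      fun i => hc_mul _ _ _
    simp only [h1]
    rw [← map_prod]
    have h2 : ∏ i ∈ Finset.range p, c (h ^ (i * j)) ⟨z, hz⟩ = N (g ^ 0 * h ^ j) := by
      refine Finset.prod_congr rfl fun i _ => ?_
      rw [pow_zero, one_mul, ← pow_mul, mul_comm]
    rw [h2, hN 0 j fun h => hjp h.2, map_one]
  · intro h0
    exact absurd (Finset.mem_range.mpr hp.pos) h0

/-- With no normal `p`-subgroup the Sylow `p`-subgroups of such a solvable group have order at
most `p`. -/
theorem card_sylow_le (hp : p.Prime) : ∀ (n : ℕ) (G : Type u) [Group G] [Finite G],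
    Nat.card G = n → Group.IsSolvable G → Hyp p G → Cfsg.pCore p G = ⊥ →
      ∀ P : Sylow p G, Nat.card (P : Subgroup G) ≤ p := by
  intro n
  induction n using Nat.strong_induction_on with
  | _ n ih =>
  intro G _ _ hn hsol hH hcore P
  classical
  haveI := hsol
  haveI : Fact p.Prime := ⟨hp⟩
  rcases subsingleton_or_nontrivial G with hs | hnt
  · rw [Nat.card_of_subsingleton (1 : (P : Subgroup G))]; exact hp.pos
  set F := Cfsg.fittingSubgroup G with hFdef
  haveI hFn : F.Normal := Fitting.fitting_normal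
  have hnil : Group.IsNilpotent F := Fitting.fitting_isNilpotent
  have hFp : ¬ p ∣ Nat.card F := by
    intro hd
    haveI := hnil
    obtain ⟨T⟩ := (inferInstance : Nonempty (Sylow p F))
    have hT : (T : Subgroup F) ≠ ⊥ := T.ne_bot_of_dvd_card hd
    haveI : (T : Subgroup F).Characteristic := Sylow.characteristic_of_normal T inferInstance
    have hle := Fitting.le_pCore (p := p) (N := (T : Subgroup F).map F.subtype) inferInstance
      (T.isPGroup'.map _)
    rw [hcore, le_bot_iff, Subgroup.map_eq_bot_iff_of_injective _ F.subtype_injective] at hle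
    exact hT hle
  have hcopF : (Nat.card F).Coprime p := (hp.coprime_iff_not_dvd.mpr hFp).symm
  have hCF : Subgroup.centralizer (F : Set G) ≤ F := Fitting.centralizer_fitting_le
  have hFne : F ≠ ⊥ := by
    intro h
    rw [h, le_bot_iff] at hCF
    have : Subgroup.centralizer ((⊥ : Subgroup G) : Set G) = ⊤ := by
      rw [eq_top_iff]
      intro x _
      rw [Subgroup.mem_centralizer_iff]
      intro y hy
      rw [Subgroup.coe_bot, Set.mem_singleton_iff] at hy
      rw [hy, one_mul, mul_one]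
    rw [this] at hCF
    exact top_ne_bot hCF
  let π := QuotientGroup.mk' F
  have hπ : Function.Surjective π := QuotientGroup.mk'_surjective F
  have hPcop : (Nat.card (P : Subgroup G)).Coprime (Nat.card F) := by
    obtain ⟨k, hk⟩ := IsPGroup.iff_card.mp P.isPGroup'
    rw [hk]
    exact Nat.Coprime.pow_left k hcopF.symm
  have hPF : (P : Subgroup G) ⊓ F = ⊥ := Subgroup.inf_eq_bot_of_coprime hPcop
  have hinj : ∀ a ∈ (P : Subgroup G), ∀ b ∈ (P : Subgroup G), π a = π b → a = b := by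
    intro a ha b hb hab
    have h1 : a⁻¹ * b ∈ (P : Subgroup G) ⊓ F :=
      ⟨(P : Subgroup G).mul_mem ((P : Subgroup G).inv_mem ha) hb, QuotientGroup.eq.mp hab⟩
    rw [hPF, Subgroup.mem_bot] at h1
    exact inv_mul_eq_one.mp h1
  let PX : Sylow p (G ⧸ F) := P.mapSurjective hπ
  have hPX : (PX : Subgroup (G ⧸ F)) = (P : Subgroup G).map π := rfl
  let eP : (P : Subgroup G) ≃* ((P : Subgroup G).map π) :=
    MulEquiv.ofBijective (π.subgroupMap (P : Subgroup G))
      ⟨fun a b hab => Subtype.ext (hinj a a.2 b b.2 (congrArg Subtype.val hab)),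
        π.subgroupMap_surjective _⟩
  suffices hle : Nat.card (PX : Subgroup (G ⧸ F)) ≤ p by
    rw [hPX] at hle
    rwa [Nat.card_congr eP.toEquiv]
  have hHX : Hyp p (G ⧸ F) := hH.map π hπ hp
  haveI : Group.IsSolvable (G ⧸ F) := inferInstance
  by_cases hBbot : Cfsg.pCore p (G ⧸ F) = ⊥
  · refine ih _ ?_ (G ⧸ F) rfl inferInstance hHX hBbot PX
    rw [← hn, Subgroup.card_eq_card_quotient_mul_card_subgroup F]
    exact lt_mul_of_one_lt_right Nat.card_pos
      ((Subgroup.one_lt_card_iff_ne_bot F).mpr hFne)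
  set B := Cfsg.pCore p (G ⧸ F) with hBdef
  haveI : B.Normal := Fitting.pCore_normal p
  have hBp : IsPGroup p B := Fitting.pCore_isPGroup p
  have hBP : B ≤ (P : Subgroup G).map π := hPX ▸ Fitting.pCore_le_sylow PX
  haveI : Nontrivial B := (Subgroup.nontrivial_iff_ne_bot B).mpr hBbot
  haveI : Nontrivial (Subgroup.center B) := hBp.center_nontrivial
  -- `A` = elements of exponent `p` in the centre of `B`
  let A : Subgroup (G ⧸ F) :=
    { carrier := {a | a ∈ B ∧ (∀ b ∈ B, a * b = b * a) ∧ a ^ p = 1}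
      one_mem' := ⟨one_mem _, fun b _ => by rw [one_mul, mul_one], one_pow p⟩
      mul_mem' := fun {a a'} ha ha' => ⟨mul_mem ha.1 ha'.1,
        fun b hb => by rw [mul_assoc, ha'.2.1 b hb, ← mul_assoc, ha.2.1 b hb, mul_assoc],
        by rw [Commute.mul_pow (ha.2.1 a' ha'.1), ha.2.2, ha'.2.2, one_mul]⟩
      inv_mem' := fun {a} ha => ⟨inv_mem ha.1,
        fun b hb => (Commute.inv_left (ha.2.1 b hb)).eq, by rw [inv_pow, ha.2.2, inv_one]⟩ }
  haveI hAn : A.Normal := by
    refine ⟨fun a ha g => ⟨‹B.Normal›.conj_mem a ha.1 g, fun b hb => ?_, ?_⟩⟩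
    · have hb' : g⁻¹ * b * g ∈ B := by
        simpa using ‹B.Normal›.conj_mem b hb g⁻¹
      have h1 := ha.2.1 _ hb'
      calc g * a * g⁻¹ * b = g * (a * (g⁻¹ * b * g)) * g⁻¹ := by group
        _ = g * ((g⁻¹ * b * g) * a) * g⁻¹ := by rw [h1]
        _ = b * (g * a * g⁻¹) := by group
    · rw [conj_pow, ha.2.2, mul_one, mul_inv_cancel]
  have hAord : ∀ a ∈ A, a ≠ 1 → orderOf a = p := fun a ha h1 => orderOf_eq_prime ha.2.2 h1
  obtain ⟨a0, ha0, ha01⟩ : ∃ a ∈ A, a ≠ 1 := by
    have hd : p ∣ Nat.card (Subgroup.center B) := by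
      obtain ⟨k, hk⟩ := IsPGroup.iff_card.mp (hBp.to_subgroup (Subgroup.center B))
      have : 1 < Nat.card (Subgroup.center B) := Finite.one_lt_card
      rcases k with _ | k
      · rw [pow_zero] at hk; omega
      · rw [hk, pow_succ]; exact dvd_mul_left p _
    obtain ⟨c, hc⟩ := exists_prime_orderOf_dvd_card' p hd
    refine ⟨((c : B) : G ⧸ F), ⟨c.1.2, fun b hb => ?_, ?_⟩, ?_⟩
    · exact (congrArg Subtype.val (Subgroup.mem_center_iff.mp c.2 ⟨b, hb⟩)).symm
    · rw [← Subgroup.coe_pow, ← Subgroup.coe_pow, ← hc, pow_orderOf_eq_one]; rfl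
    · intro h
      have : c = 1 := Subtype.ext (Subtype.ext h)
      rw [this, orderOf_one] at hc
      exact hp.one_lt.ne hc
  -- regular character
  have hQ : ∀ a ∈ A, ∃ q ∈ (P : Subgroup G), π q = a := fun a ha => hBP ha.1
  obtain ⟨θ, hθ⟩ := exists_regular F hnil ((P : Subgroup G) ⊓ A.comap π)
    (fun a ha b hb => hinj _ (mul_mem ha.1 hb.1) _ (mul_mem hb.1 ha.1)
      (by rw [map_mul, map_mul]; exact (Subgroup.mem_comap.mp ha.2).2.1 _ (Subgroup.mem_comap.mp hb.2).1))
    (Nat.Coprime.coprime_dvd_left (Subgroup.card_dvd_of_le inf_le_left) hPcop)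
    (fun q hq hcomm => by
      have h1 : q ∈ F := hCF (Subgroup.mem_centralizer_iff.mpr fun f hf => (hcomm f hf).symm)
      have h2 : q ∈ (P : Subgroup G) ⊓ F := ⟨hq.1, h1⟩
      rwa [hPF, Subgroup.mem_bot] at h2)
  haveI := Fintype.ofFinite G
  haveI := Fintype.ofFinite F
  have hself : ∀ (f : G), f ∈ F → ∀ φ : F →* ℂˣ, conjHom F f φ = φ := by
    intro f hf φ
    ext x
    rw [conjHom_apply]
    have : (⟨f * x * f⁻¹, hFn.conj_mem _ x.2 f⟩ : F) = ⟨f, hf⟩ * x * ⟨f, hf⟩⁻¹ := Subtype.ext rfl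
    rw [this, map_mul, map_mul, map_inv, mul_inv_cancel_comm]
  -- elements with a power over `A \ 1` vanish
  have hvanA : ∀ (g : G) (j : ℕ), π (g ^ j) ∈ A → π (g ^ j) ≠ 1 → Van g := by
    intro g j hA h1
    refine exists_char_eq_zero F θ g fun h hfix => ?_
    set φ := conjHom F h θ
    have hpow : conjHom F (g ^ j) φ = φ := by
      clear hA h1
      induction j with
      | zero => rw [pow_zero, conjHom_one]
      | succ j ihj => rw [pow_succ, conjHom_mul, ihj, hfix]
    set g' := h * g ^ j * h⁻¹ with hg'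
    have hfix' : conjHom F g' θ = θ := by
      rw [hg', conjHom_mul, conjHom_mul]
      change conjHom F h⁻¹ (conjHom F (g ^ j) φ) = θ
      rw [hpow, ← conjHom_mul, mul_inv_cancel, conjHom_one]
    have hA' : π g' ∈ A := by
      rw [hg', map_mul, map_mul, map_inv]
      exact hAn.conj_mem _ hA _
    obtain ⟨q, hqP, hq⟩ := hQ _ hA'
    have hf : q⁻¹ * g' ∈ F := by
      rw [← QuotientGroup.eq]
      exact hq
    have hqfix : conjHom F q θ = θ := by
      have : g' = q * (q⁻¹ * g') := by group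
      rw [this, conjHom_mul, hself _ hf] at hfix'
      exact hfix'
    have hq1 : q = 1 := hθ q ⟨hqP, Subgroup.mem_comap.mpr (hq ▸ hA')⟩ hqfix
    rw [hq1, map_one] at hq
    apply h1
    have h2 : π h * π (g ^ j) * (π h)⁻¹ = 1 := by
      rw [← map_inv, ← map_mul, ← map_mul, ← hg', ← hq]
    exact conj_eq_one_iff.mp h2
  -- elements of order `p` with vanishing fibre have no fixed points on `F`
  have hfpf : ∀ g : G, g ^ p = 1 → g ∉ F → (∀ f ∈ F, Van (g * f)) →
      ∀ f ∈ F, g * f = f * g → f = 1 := by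
    intro g hgp hgF hv f hf hc
    have hg1 : g ≠ 1 := fun h => hgF (h ▸ one_mem F)
    have hog : orderOf g = p := orderOf_eq_prime hgp hg1
    have hfcop : Nat.Coprime p (orderOf f) :=
      Nat.Coprime.coprime_dvd_right (Subgroup.orderOf_dvd_natCard F hf) hcopF.symm
    have hog2 : orderOf (g * f) = p * orderOf f := by
      rw [Commute.orderOf_mul_eq_mul_orderOf_of_coprime hc (by rwa [hog]), hog]
    have hvg : Van g := by simpa using hv 1 (one_mem F)
    have heq := hH.1 g (g * f) hvg (hv f hf) (hog ▸ dvd_rfl) (hog2 ▸ dvd_mul_right p _)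
    rw [hog, hog2, hp.primeFactors, Nat.primeFactors_mul hp.ne_zero (orderOf_pos f).ne',
      hp.primeFactors] at heq
    have hsub : (orderOf f).primeFactors ⊆ {p} := by
      rw [heq]; exact Finset.subset_union_right
    by_contra hf1
    have hne : (orderOf f).primeFactors.Nonempty :=
      Nat.nonempty_primeFactors.mpr (lt_of_le_of_ne (orderOf_pos f) (Ne.symm (mt orderOf_eq_one_iff.mp hf1)))
    obtain ⟨r, hr⟩ := hne
    have hrp : r = p := Finset.mem_singleton.mp (hsub hr)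
    exact hp.one_lt.ne' (Nat.Coprime.eq_one_of_dvd hfcop (hrp ▸ (Nat.mem_primeFactors.mp hr).2.1))
  -- `A` is cyclic of order `p`
  have hpair : ∀ (x y : G ⧸ F), x ∈ B → y ∈ B → x ^ p = 1 → y ^ p = 1 → x * y = y * x →
      (∀ i j : ℕ, ¬ (p ∣ i ∧ p ∣ j) → x ^ i * y ^ j ≠ 1 ∧
        ∀ g : G, π g = x ^ i * y ^ j → Van g) → False := by
    intro x y hx hy hxp hyp hxy hall
    obtain ⟨g, hgP, rfl⟩ := hBP hx
    obtain ⟨h, hhP, rfl⟩ := hBP hy
    have e1 : g ^ p = 1 := hinj _ (pow_mem hgP p) _ (one_mem _) (by rw [map_pow, hxp, map_one])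
    have e2 : h ^ p = 1 := hinj _ (pow_mem hhP p) _ (one_mem _) (by rw [map_pow, hyp, map_one])
    have e3 : g * h = h * g :=
      hinj _ (mul_mem hgP hhP) _ (mul_mem hhP hgP) (by rw [map_mul, map_mul]; exact hxy)
    refine pair_false hp F hnil hFne hcopF e1 e2 e3 fun i j hij => ?_
    obtain ⟨hne, hv⟩ := hall i j hij
    refine hfpf _ ?_ ?_ fun f hf => hv _ ?_
    · rw [Commute.mul_pow (Commute.pow_pow e3 i j), ← pow_mul, ← pow_mul, mul_comm i, mul_comm j,
        pow_mul, pow_mul, e1, e2, one_pow, one_pow, one_mul]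
    · intro hmem
      apply hne
      rw [← map_pow, ← map_pow, ← map_mul]
      exact (QuotientGroup.eq_one_iff _).mpr hmem
    · rw [map_mul, show π f = 1 from (QuotientGroup.eq_one_iff _).mpr hf, mul_one, map_mul,
        map_pow, map_pow]
  have hind : ∀ {x y : G ⧸ F}, orderOf x = p → orderOf y = p → y ∉ Subgroup.zpowers x →
      ∀ i j : ℕ, ¬ (p ∣ i ∧ p ∣ j) → x ^ i * y ^ j ≠ 1 := by
    intro x y hx hy hni i j hij h1
    by_cases hj : p ∣ j
    · have hyj : y ^ j = 1 := orderOf_dvd_iff_pow_eq_one.mp (by rwa [hy])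
      rw [hyj, mul_one] at h1
      exact hij ⟨hx ▸ orderOf_dvd_of_pow_eq_one h1, hj⟩
    · apply hni
      have hyj : y ^ j ∈ Subgroup.zpowers x := by
        rw [eq_inv_of_mul_eq_one_right h1]
        exact inv_mem (pow_mem (Subgroup.mem_zpowers x) i)
      have hcj : (orderOf y).Coprime j := hy.symm ▸ hp.coprime_iff_not_dvd.mpr hj
      obtain ⟨m, hm⟩ := exists_pow_eq_self_of_coprime hcj.symm
      rw [← hm]
      exact pow_mem hyj m
  have hAcyc : ∀ a ∈ A, a ∈ Subgroup.zpowers a0 := by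
    intro a ha
    by_contra hni
    have ha1 : a ≠ 1 := fun h => hni (h ▸ one_mem _)
    refine hpair a0 a ha0.1 ha.1 ha0.2.2 ha.2.2 (ha0.2.1 a ha.1) fun i j hij => ?_
    have hne := hind (hAord a0 ha0 ha01) (hAord a ha ha1) hni i j hij
    refine ⟨hne, fun g hg => hvanA g 1 ?_ ?_⟩
    · rw [pow_one, hg]; exact mul_mem (pow_mem ha0 i) (pow_mem ha j)
    · rw [pow_one, hg]; exact hne
  -- the centraliser of `A` is a `p`-group
  have hC : IsPGroup p (Subgroup.centralizer (A : Set (G ⧸ F))) := by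
    refine (IsPGroup.iff_card).mpr ⟨_, Nat.eq_prime_pow_of_unique_prime_dvd Nat.card_pos.ne' ?_⟩
    intro r hr hrd
    haveI : Fact r.Prime := ⟨hr⟩
    obtain ⟨y, hy⟩ := exists_prime_orderOf_dvd_card' r hrd
    by_contra hrp
    have hyc : (y : G ⧸ F) * a0 = a0 * y := (Subgroup.mem_centralizer_iff.mp y.2 a0 ha0).symm
    have hoy : orderOf (y : G ⧸ F) = r := by rw [Subgroup.orderOf_coe, hy]
    have hoa := hAord a0 ha0 ha01
    have hco : Nat.Coprime (orderOf (y : G ⧸ F)) (orderOf a0) := by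
      rw [hoy, hoa]; exact (Nat.coprime_primes hr hp).mpr hrp
    obtain ⟨g, hg⟩ := hπ ((y : G ⧸ F) * a0)
    have hog : orderOf ((y : G ⧸ F) * a0) = r * p := by
      rw [Commute.orderOf_mul_eq_mul_orderOf_of_coprime hyc hco, hoy, hoa]
    have hvg : Van g := by
      refine hvanA g r ?_ ?_ <;> rw [map_pow, hg, Commute.mul_pow hyc]
      · rw [orderOf_dvd_iff_pow_eq_one.mp (dvd_of_eq hoy), one_mul]
        exact pow_mem ha0 r
      · rw [orderOf_dvd_iff_pow_eq_one.mp (dvd_of_eq hoy), one_mul]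
        intro h
        exact hrp ((Nat.prime_dvd_prime_iff_eq hp hr).mp (hoa ▸ orderOf_dvd_of_pow_eq_one h)).symm
    obtain ⟨q, hqP, hq⟩ := hBP ha0.1
    have hvq : Van q := hvanA q 1 (by rw [pow_one, hq]; exact ha0) (by rw [pow_one, hq]; exact ha01)
    have hoq : orderOf q = p := orderOf_eq_prime
      (hinj _ (pow_mem hqP p) _ (one_mem _) (by rw [map_pow, hq, ha0.2.2, map_one]))
      (fun h => ha01 (by rw [← hq, h, map_one]))
    have hrpg : r * p ∣ orderOf g := hog ▸ hg ▸ orderOf_map_dvd π g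
    have heq := hH.1 g q hvg hvq ((dvd_mul_left p r).trans hrpg) (hoq ▸ dvd_rfl)
    rw [hoq, hp.primeFactors] at heq
    have hr' : r ∈ (orderOf g).primeFactors :=
      Nat.mem_primeFactors.mpr ⟨hr, (dvd_mul_right r p).trans hrpg, (orderOf_pos g).ne'⟩
    rw [heq] at hr'
    exact hrp (Finset.mem_singleton.mp hr')
  have hCB : Subgroup.centralizer (A : Set (G ⧸ F)) ≤ B := Fitting.le_pCore inferInstance hC
  -- no `p`-th roots of `A \ 1`
  have hroot : ∀ x ∈ B, x ^ p ∈ A → x ^ p = 1 := by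
    intro x hx hxA
    by_contra hne
    obtain ⟨g, hgP, rfl⟩ := hBP hx
    obtain ⟨k, hk⟩ := P.isPGroup' ⟨g, hgP⟩
    have hk' : g ^ p ^ k = 1 := congrArg Subtype.val hk
    obtain ⟨l, -, hl⟩ := (Nat.dvd_prime_pow hp).mp (orderOf_dvd_of_pow_eq_one hk')
    have h1 : Van g := hvanA g p (by rw [map_pow]; exact hxA) (by rw [map_pow]; exact hne)
    have h2 : Van (g ^ p) := hvanA (g ^ p) 1 (by rw [pow_one, map_pow]; exact hxA)
      (by rw [pow_one, map_pow]; exact hne)
    exact hne (by rw [← map_pow, hH.2 g l hl h1 h2, map_one])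
  have hZA : ∀ x ∈ B, (∀ b ∈ B, x * b = b * x) → x ∈ A := by
    intro x hx hxc
    refine ⟨hx, hxc, ?_⟩
    obtain ⟨k, hk⟩ := hBp ⟨x, hx⟩
    have hk' : x ^ p ^ k = 1 := congrArg Subtype.val hk
    by_contra hne
    obtain ⟨l, -, hl⟩ := (Nat.dvd_prime_pow hp).mp (orderOf_dvd_of_pow_eq_one hk')
    have hl2 : 2 ≤ l := by
      by_contra h
      apply hne
      rw [← orderOf_dvd_iff_pow_eq_one, hl]
      exact (pow_dvd_pow p (by omega : l ≤ 1)).trans (by rw [pow_one])
    obtain ⟨l, rfl⟩ : ∃ m, l = m + 2 := ⟨l - 2, by omega⟩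
    have hyp : orderOf (x ^ p ^ l) = p ^ 2 := by
      rw [orderOf_pow' _ (pow_ne_zero _ hp.ne_zero), hl,
        Nat.gcd_eq_right (pow_dvd_pow p (by omega)), Nat.pow_div (by omega) hp.pos]
      congr 1; omega
    have h1 : (x ^ p ^ l) ^ p ∈ A := by
      refine ⟨pow_mem (pow_mem hx _) _, fun b hb => ?_, ?_⟩
      · exact ((Commute.pow_left (hxc b hb) _).pow_left _).eq
      · rw [← pow_mul, ← pow_two, ← hyp, pow_orderOf_eq_one]
    have h2 := hroot _ (pow_mem hx _) h1
    have h3 : p ^ 2 ∣ p := hyp ▸ orderOf_dvd_of_pow_eq_one h2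
    have h4 := Nat.le_of_dvd hp.pos h3
    nlinarith [hp.two_le]
  have hAcard : Nat.card A = p := by
    have : A = Subgroup.zpowers a0 := le_antisymm hAcyc (Subgroup.zpowers_le.mpr ha0)
    rw [this, Nat.card_zpowers, hAord a0 ha0 ha01]
  have hBA : B ≤ A := by
    by_contra hle
    obtain ⟨x, hx, hxA⟩ := SetLike.not_le_iff_exists.mp hle
    have hcen : Subgroup.center B ≠ ⊤ := by
      intro h
      exact hxA (hZA x hx fun b hb => (congrArg Subtype.val
        (Subgroup.mem_center_iff.mp (h ▸ Subgroup.mem_top (⟨x, hx⟩ : B)) ⟨b, hb⟩)).symm)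
    haveI : Nontrivial (B ⧸ Subgroup.center B) :=
      QuotientGroup.nontrivial_iff.mpr hcen
    haveI := (hBp.to_quotient (Subgroup.center B)).center_nontrivial
    obtain ⟨⟨bq, hbq⟩, hb1⟩ := exists_ne (1 : Subgroup.center (B ⧸ Subgroup.center B))
    obtain ⟨b, rfl⟩ := QuotientGroup.mk_surjective bq
    have hbc : b ∉ Subgroup.center B := fun h =>
      hb1 (Subtype.ext ((QuotientGroup.eq_one_iff b).mpr h))
    have hbA : (b : G ⧸ F) ∉ A := fun h => hbc (Subgroup.mem_center_iff.mpr fun c =>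
      Subtype.ext (h.2.1 c c.2).symm)
    have hcomA : ∀ u ∈ B, u * b * u⁻¹ * (b : G ⧸ F)⁻¹ ∈ A := by
      intro u hu
      have h := Subgroup.mem_center_iff.mp hbq (QuotientGroup.mk ⟨u, hu⟩)
      have hz : (⟨u, hu⟩ : B) * b * (⟨u, hu⟩ : B)⁻¹ * b⁻¹ ∈ Subgroup.center B := by
        rw [← QuotientGroup.eq_one_iff, QuotientGroup.mk_mul, QuotientGroup.mk_mul,
          QuotientGroup.mk_mul, QuotientGroup.mk_inv, QuotientGroup.mk_inv, h]
        group
      exact hZA _ (⟨u, hu⟩ * b * (⟨u, hu⟩ : B)⁻¹ * b⁻¹ : B).2 fun c hc =>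
        (congrArg Subtype.val (Subgroup.mem_center_iff.mp hz ⟨c, hc⟩)).symm
    have hbp : (b : G ⧸ F) ^ p = 1 := by
      refine hroot _ b.2 (hZA _ (pow_mem b.2 _) fun u hu => ?_)
      set a := u * (b : G ⧸ F) * u⁻¹ * (b : G ⧸ F)⁻¹ with ha
      have hA := hcomA u hu
      have hcb : Commute a (b : G ⧸ F) := hA.2.1 _ b.2
      have h1 : u * (b : G ⧸ F) ^ p * u⁻¹ = (b : G ⧸ F) ^ p := by
        rw [← conj_pow, show u * (b : G ⧸ F) * u⁻¹ = a * b by rw [ha, inv_mul_cancel_right],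
          hcb.mul_pow, hA.2.2, one_mul]
      exact (mul_inv_eq_iff_eq_mul.mp h1).symm
    obtain ⟨u, hu, hub⟩ : ∃ u ∈ B, u * b * u⁻¹ ≠ (b : G ⧸ F) := by
      by_contra h
      push Not at h
      exact hbc (Subgroup.mem_center_iff.mpr fun c =>
        Subtype.ext (mul_inv_eq_iff_eq_mul.mp (h c c.2)))
    set c0 := u * (b : G ⧸ F) * u⁻¹ * (b : G ⧸ F)⁻¹ with hc0
    have hc0A := hcomA u hu
    have hc01 : c0 ≠ 1 := fun h => hub (mul_inv_eq_one.mp h)
    have hca : a0 * b = b * a0 := ha0.2.1 _ b.2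
    refine hpair b a0 b.2 ha0.1 hbp ha0.2.2 hca.symm fun i j hij => ?_
    have hb0 : (b : G ⧸ F) ≠ 1 := fun h => hbA (h ▸ one_mem A)
    have hni : a0 ∉ Subgroup.zpowers (b : G ⧸ F) := by
      intro h
      have hle : Subgroup.zpowers a0 ≤ Subgroup.zpowers (b : G ⧸ F) := Subgroup.zpowers_le.mpr h
      have := Subgroup.eq_of_le_of_card_ge hle
        (by rw [Nat.card_zpowers, Nat.card_zpowers, hAord a0 ha0 ha01, orderOf_eq_prime hbp hb0])
      exact hbA ((Subgroup.zpowers_le.mpr ha0) (this ▸ Subgroup.mem_zpowers _))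
    have hne := hind (orderOf_eq_prime hbp hb0) (hAord a0 ha0 ha01) hni i j hij
    refine ⟨hne, fun g hg => ?_⟩
    by_cases hi : p ∣ i
    · refine hvanA g 1 ?_ ?_
      · rw [pow_one, hg, orderOf_dvd_iff_pow_eq_one.mp (orderOf_eq_prime hbp hb0 ▸ hi), one_mul]
        exact pow_mem ha0 j
      · rw [pow_one, hg]; exact hne
    · have hcb : Commute c0 (b : G ⧸ F) := hc0A.2.1 _ b.2
      have hconj : u * ((b : G ⧸ F) ^ i * a0 ^ j) * u⁻¹ = c0 ^ i * ((b : G ⧸ F) ^ i * a0 ^ j) := by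
        have h1 : u * (b : G ⧸ F) ^ i * u⁻¹ = c0 ^ i * (b : G ⧸ F) ^ i := by
          rw [← conj_pow, show u * (b : G ⧸ F) * u⁻¹ = c0 * b by rw [hc0, inv_mul_cancel_right],
            hcb.mul_pow]
        have h2 : u * a0 ^ j * u⁻¹ = a0 ^ j := by
          rw [(pow_mem ha0 j).2.1 u hu |>.symm, mul_inv_cancel_right]
        calc u * ((b : G ⧸ F) ^ i * a0 ^ j) * u⁻¹
            = (u * (b : G ⧸ F) ^ i * u⁻¹) * (u * a0 ^ j * u⁻¹) := by group
          _ = _ := by rw [h1, h2, mul_assoc]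
      have hc0i : c0 ^ i ≠ 1 := fun h => hi (hAord c0 hc0A hc01 ▸ orderOf_dvd_of_pow_eq_one h)
      haveI : Fact (Nat.card A).Prime := ⟨hAcard.symm ▸ hp⟩
      haveI := Fintype.ofFinite (G ⧸ F)
      haveI := Fintype.ofFinite A
      have hv : Van ((b : G ⧸ F) ^ i * a0 ^ j) :=
        exists_char_eq_zero_of_conj A _ u (c0 ^ i) (pow_mem hc0A i) hc0i
          (((pow_mem hc0A i).2.1 u hu).symm) hconj
      exact van_of_map π hπ (hg ▸ hv)
  -- conclusion
  have hPA : (PX : Subgroup (G ⧸ F)) ≤ A := by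
    refine le_trans ?_ (hCB.trans hBA)
    intro y hy
    rw [Subgroup.mem_centralizer_iff]
    intro a ha
    have hAP : A ≤ (PX : Subgroup (G ⧸ F)) := fun x hx => Fitting.pCore_le_sylow PX hx.1
    haveI : (A.subgroupOf (PX : Subgroup (G ⧸ F))).Normal := inferInstance
    haveI := PX.isPGroup'.isNilpotent
    have hne : A.subgroupOf (PX : Subgroup (G ⧸ F)) ≠ ⊥ := by
      rw [Ne, Subgroup.subgroupOf_eq_bot]
      intro hd
      exact ha01 (Subgroup.disjoint_def.mp hd ha0 (hAP ha0))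
    obtain ⟨z, ⟨hzA, hzc⟩, hz1⟩ :=
      (Subgroup.bot_or_exists_ne_one _).resolve_left (Fitting.inf_center_ne_bot hne)
    have hzA' : (z : G ⧸ F) ∈ A := Subgroup.mem_subgroupOf.mp hzA
    have hgen : A ≤ Subgroup.zpowers (z : G ⧸ F) := by
      refine (Subgroup.eq_of_le_of_card_ge (Subgroup.zpowers_le.mpr hzA') ?_).ge
      rw [hAcard, Nat.card_zpowers, hAord _ hzA' (fun h => hz1 (Subtype.ext h))]
    obtain ⟨m, rfl⟩ := Subgroup.mem_zpowers_iff.mp (hgen ha)
    have hc : (z : G ⧸ F) * y = y * z :=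
      (congrArg Subtype.val (Subgroup.mem_center_iff.mp hzc ⟨y, hy⟩)).symm
    exact (Commute.zpow_left hc m).eq
  exact (Subgroup.card_le_of_le hPA).trans_eq hAcard

/-- With no normal `p`-subgroup the Sylow `p`-subgroups of such a solvable group are cyclic. -/
theorem isCyclic_sylow (hp : p.Prime) (n : ℕ) (G : Type u) [Group G] [Finite G]
    (hn : Nat.card G = n) (hsol : Group.IsSolvable G) (hH : Hyp p G)
    (hcore : Cfsg.pCore p G = ⊥) (P : Sylow p G) : IsCyclic (P : Subgroup G) := by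
  classical
  haveI : Fact p.Prime := ⟨hp⟩
  obtain ⟨k, hk⟩ := IsPGroup.iff_card.mp P.isPGroup'
  have hle := card_sylow_le hp n G hn hsol hH hcore P
  rw [hk] at hle
  rcases k with _ | k
  · haveI : Subsingleton (P : Subgroup G) :=
      (Nat.card_eq_one_iff_unique.mp (by rw [hk, pow_zero])).1
    exact isCyclic_of_subsingleton
  · have : k = 0 := by
      by_contra h
      have : p ^ (1 : ℕ) < p ^ (k + 1) := Nat.pow_lt_pow_right hp.one_lt (by omega)
      rw [pow_one] at this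
      omega
    subst this
    exact isCyclic_of_prime_card (p := p) (by simpa using hk)

end Main

end Cfsg.Agent.BC86.Vanishing
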