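import Cfsg.Prelude.Def_Characters
import Cfsg.Agent.Lib.CharCore.Basic
import Cfsg.Agent.Lib.CharCore.Linear
import Cfsg.Agent.Lib.CharCore.CliffordDegree

/-!
# Vanishing of characters through projections on linear characters of a normal subgroup
-/

set_option autoImplicit false
set_option linter.unusedSectionVars false

open scoped ComplexConjugate
open Module

namespace Cfsg.Agent.BC86.Vanishing

universe u v

variable {G : Type u} [Group G] (F : Subgroup G) [hF : F.Normal]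

/-- The linear character `f ↦ φ (x f x⁻¹)`. -/
noncomputable def conjHom (x : G) (φ : F →* ℂˣ) : F →* ℂˣ :=
  φ.comp (MulAut.conjNormal x : MulAut F).toMonoidHom

theorem conjHom_apply (x : G) (φ : F →* ℂˣ) (f : F) :
    conjHom F x φ f = φ ⟨x * f * x⁻¹, hF.conj_mem _ f.2 x⟩ :=
  congrArg φ (Subtype.ext (MulAut.conjNormal_apply x f))

theorem conjHom_mul (x y : G) (φ : F →* ℂˣ) :
    conjHom F (x * y) φ = conjHom F y (conjHom F x φ) := by
  ext f
  simp only [conjHom, MonoidHom.comp_apply, MulEquiv.coe_toMonoidHom, map_mul, MulAut.mul_apply]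

theorem conjHom_one (φ : F →* ℂˣ) : conjHom F (1 : G) φ = φ := by
  ext f
  simp [conjHom]

variable [Fintype G] [Fintype F]

variable {V : Type v} [AddCommGroup V] [Module ℂ V] [FiniteDimensional ℂ V]

/-- The projection onto the `φ`-part. -/
noncomputable def proj (ρ : Representation ℂ G V) (φ : F →* ℂˣ) : V →ₗ[ℂ] V :=
  (Nat.card F : ℂ)⁻¹ • ∑ f : F, ((φ f : ℂ)⁻¹) • ρ (f : G)

variable (ρ : Representation ℂ G V)

theorem rep_mul_proj (x : G) (φ : F →* ℂˣ) :
    ρ x * proj F ρ φ = proj F ρ (conjHom F x⁻¹ φ) * ρ x := by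
  unfold proj
  rw [mul_smul_comm, smul_mul_assoc, Finset.mul_sum, Finset.sum_mul]
  congr 1
  refine Fintype.sum_equiv (MulAut.conjNormal x : MulAut F).toEquiv _ _ fun f => ?_
  rw [mul_smul_comm, smul_mul_assoc, ← map_mul, ← map_mul, MulEquiv.toEquiv_eq_coe,
    MulEquiv.coe_toEquiv, MulAut.conjNormal_apply]
  congr 2
  · congr 1
    show φ f = φ (MulAut.conjNormal x⁻¹ (MulAut.conjNormal x f))
    congr 1
    apply Subtype.ext
    simp [MulAut.conjNormal_apply, mul_assoc]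
  · group

theorem rep_mem_mul_proj (u : F) (φ : F →* ℂˣ) :
    ρ (u : G) * proj F ρ φ = (φ u : ℂ) • proj F ρ φ := by
  have h : ρ (u : G) * ∑ f : F, ((φ f : ℂ)⁻¹) • ρ (f : G) =
      (φ u : ℂ) • ∑ f : F, ((φ f : ℂ)⁻¹) • ρ (f : G) := by
    rw [Finset.mul_sum, Finset.smul_sum]
    refine Fintype.sum_equiv (Equiv.mulLeft u) (fun f : F => ρ (u : G) * (((φ f : ℂ)⁻¹) • ρ (f : G)))
      (fun f : F => (φ u : ℂ) • (((φ f : ℂ)⁻¹) • ρ (f : G))) fun f => ?_
    show ρ (u : G) * (((φ f : ℂ)⁻¹) • ρ (f : G)) =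
      (φ u : ℂ) • (((φ (u * f) : ℂ)⁻¹) • ρ ((u * f : F) : G))
    rw [mul_smul_comm, ← map_mul, smul_smul]
    congr 1
    rw [map_mul, Units.val_mul, mul_inv, ← mul_assoc, mul_inv_cancel₀ (Units.ne_zero _), one_mul]
  unfold proj
  rw [mul_smul_comm, h, smul_comm]

theorem proj_mul_proj (ψ φ : F →* ℂˣ) :
    proj F ρ ψ * proj F ρ φ =
      ((Nat.card F : ℂ)⁻¹ * ∑ f : F, ((ψ f : ℂ)⁻¹ * (φ f : ℂ))) • proj F ρ φ := by
  conv_lhs => rw [proj]
  rw [smul_mul_assoc, Finset.sum_mul, ← smul_smul, Finset.sum_smul]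
  congr 1
  refine Finset.sum_congr rfl fun f _ => ?_
  rw [smul_mul_assoc, rep_mem_mul_proj, smul_smul]

theorem proj_mul_self (φ : F →* ℂˣ) : proj F ρ φ * proj F ρ φ = proj F ρ φ := by
  rw [proj_mul_proj]
  have h : ∀ f : F, ((φ f : ℂ)⁻¹ * (φ f : ℂ)) = 1 := fun f => inv_mul_cancel₀ (Units.ne_zero _)
  simp only [h, Finset.sum_const, Finset.card_univ, nsmul_eq_mul, mul_one]
  rw [← Nat.card_eq_fintype_card, inv_mul_cancel₀ (Nat.cast_ne_zero.mpr Nat.card_pos.ne'),
    one_smul]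

theorem proj_mul_of_ne {ψ φ : F →* ℂˣ} (h : ψ ≠ φ) : proj F ρ ψ * proj F ρ φ = 0 := by
  rw [proj_mul_proj]
  have : ∑ f : F, ((ψ f : ℂ)⁻¹ * (φ f : ℂ)) = 0 := by
    have hne : ((Units.coeHom ℂ).comp (ψ⁻¹ * φ)) ≠ 1 := by
      intro he
      apply h
      ext f
      have := DFunLike.congr_fun he f
      simp only [MonoidHom.comp_apply, MonoidHom.mul_apply, MonoidHom.inv_apply,
        Units.coeHom_apply, Units.val_mul, Units.val_inv_eq_inv_val, MonoidHom.one_apply] at this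
      exact (inv_mul_eq_one₀ (Units.ne_zero _)).mp this
    have := sum_hom_units_eq_zero _ hne
    simpa [Units.val_inv_eq_inv_val] using this
  rw [this, mul_zero, zero_smul]

/-- The sum of the projections over an invariant set of linear characters is `0` or `1` on an
irreducible representation. -/
theorem sum_proj_eq [hρ : ρ.IsIrreducible] (O : Finset (F →* ℂˣ))
    (hO : ∀ (x : G), ∀ φ ∈ O, conjHom F x φ ∈ O) :
    ∑ φ ∈ O, proj F ρ φ = 0 ∨ ∑ φ ∈ O, proj F ρ φ = 1 := by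
  classical
  set T := ∑ φ ∈ O, proj F ρ φ with hT
  have hcomm : ∀ x : G, ρ x * T = T * ρ x := by
    intro x
    rw [hT, Finset.mul_sum, Finset.sum_mul]
    refine Finset.sum_nbij' (fun φ => conjHom F x⁻¹ φ) (fun φ => conjHom F x φ)
      (fun φ hφ => hO _ φ hφ) (fun φ hφ => hO _ φ hφ) (fun φ _ => ?_) (fun φ _ => ?_)
      (fun φ _ => rep_mul_proj F ρ x φ)
    · rw [← conjHom_mul, inv_mul_cancel, conjHom_one]
    · rw [← conjHom_mul, mul_inv_cancel, conjHom_one]
  have hidem : T * T = T := by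
    rw [hT, Finset.mul_sum]
    refine Finset.sum_congr rfl fun φ hφ => ?_
    rw [Finset.sum_mul, Finset.sum_eq_single φ (fun ψ _ h => proj_mul_of_ne F ρ h)
      (fun h => absurd hφ h), proj_mul_self]
  let S : Subrepresentation ρ :=
    ⟨LinearMap.range T, fun g v hv => by
      obtain ⟨w, rfl⟩ := hv
      exact ⟨ρ g w, (LinearMap.congr_fun (hcomm g) w).symm⟩⟩
  haveI : IsSimpleOrder (Subrepresentation ρ) := hρ
  rcases IsSimpleOrder.eq_bot_or_eq_top S with h | h
  · left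
    have : LinearMap.range T = ⊥ := congrArg Subrepresentation.toSubmodule h
    exact LinearMap.range_eq_bot.mp this
  · right
    have hr : LinearMap.range T = ⊤ := congrArg Subrepresentation.toSubmodule h
    ext v
    obtain ⟨w, rfl⟩ := LinearMap.range_eq_top.mp hr v
    exact LinearMap.congr_fun hidem w

/-- The trace of the projection is a multiplicity. -/
theorem trace_proj (θ : F →* ℂˣ) :
    LinearMap.trace ℂ V (proj F ρ θ) =
      Cfsg.classInner (fun f : F => ρ.character (f : G)) (fun f : F => (θ f : ℂ)) := by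
  unfold proj
  rw [map_smul, map_sum, CharCore.classInner_def, smul_eq_mul]
  congr 1
  refine Finset.sum_congr rfl fun f _ => ?_
  rw [map_smul, smul_eq_mul, mul_comm]
  congr 1
  have h1 := CharCore.norm_hom_apply θ f
  rw [Complex.inv_def, Complex.normSq_eq_norm_sq, h1]
  simp

/-- An irreducible representation in which a given linear character of `F` occurs. -/
theorem exists_rep_over (θ : F →* ℂˣ) :
    ∃ (n : ℕ) (ρ : Representation ℂ G (Fin n → ℂ)), ρ.IsIrreducible ∧ proj F ρ θ ≠ 0 := by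
  obtain ⟨χ, hχ⟩ := CharCore.exists_over F
    (⟨fun f => (θ f : ℂ), CharCore.isIrrCharacter_hom θ⟩ : Cfsg.IrrCharacter F)
  obtain ⟨n, ρ, hirr, hc⟩ := χ.2
  refine ⟨n, ρ, hirr, fun h => hχ ?_⟩
  have := trace_proj F ρ θ
  rw [h, map_zero, hc] at this
  exact this.symm

/-- Elements fixing no conjugate of a linear character of a normal subgroup are vanishing. -/
theorem exists_char_eq_zero (θ : F →* ℂˣ) (g : G)
    (hfix : ∀ h : G, conjHom F g (conjHom F h θ) ≠ conjHom F h θ) :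
    ∃ χ : Cfsg.IrrCharacter G, (χ : G → ℂ) g = 0 := by
  classical
  obtain ⟨n, ρ, hirr, h0⟩ := exists_rep_over F θ
  set O : Finset (F →* ℂˣ) := Finset.univ.image (fun h : G => conjHom F h θ) with hOdef
  have hO : ∀ (x : G), ∀ φ ∈ O, conjHom F x φ ∈ O := by
    intro x φ hφ
    obtain ⟨h, -, rfl⟩ := Finset.mem_image.mp hφ
    exact Finset.mem_image.mpr ⟨h * x, Finset.mem_univ _, conjHom_mul F h x θ⟩
  have hθO : θ ∈ O := Finset.mem_image.mpr ⟨1, Finset.mem_univ _, conjHom_one F θ⟩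
  haveI := hirr
  have hT : ∑ φ ∈ O, proj F ρ φ = 1 := by
    refine (sum_proj_eq F ρ O hO).resolve_left fun h => h0 ?_
    have := congrArg (fun T => proj F ρ θ * T) h
    simp only [mul_zero, Finset.mul_sum] at this
    rw [Finset.sum_eq_single θ (fun ψ _ hψ => proj_mul_of_ne F ρ (Ne.symm hψ))
      (fun h => absurd hθO h), proj_mul_self] at this
    exact this
  refine ⟨⟨ρ.character, n, ρ, hirr, rfl⟩, ?_⟩
  show LinearMap.trace ℂ _ (ρ g) = 0
  rw [← mul_one (ρ g), ← hT, Finset.mul_sum, map_sum]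
  refine Finset.sum_eq_zero fun φ hφ => ?_
  have hne : φ ≠ conjHom F g⁻¹ φ := by
    intro he
    obtain ⟨h, -, rfl⟩ := Finset.mem_image.mp hφ
    refine hfix h ?_
    conv_lhs => rw [he]
    rw [← conjHom_mul, inv_mul_cancel, conjHom_one]
  rw [← proj_mul_self F ρ φ, ← mul_assoc, LinearMap.trace_mul_comm, ← mul_assoc,
    mul_assoc (proj F ρ φ), rep_mul_proj, ← mul_assoc, proj_mul_of_ne F ρ hne, zero_mul, map_zero]

/-- A normal subgroup `A` of prime order and `y` with `u y u⁻¹ = c y`, `1 ≠ c ∈ A`,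
`u` centralizing `c`: `y` is vanishing. -/
theorem exists_char_eq_zero_of_conj [Fact (Nat.card F).Prime] (y u c : G) (hc : c ∈ F)
    (hc1 : c ≠ 1) (hu : u * c = c * u) (hy : u * y * u⁻¹ = c * y) :
    ∃ χ : Cfsg.IrrCharacter G, (χ : G → ℂ) y = 0 := by
  classical
  have hcyc : IsCyclic F := isCyclic_of_prime_card rfl
  have hcomm : ∀ a b : F, a * b = b * a := fun a b => hcyc.commutative.is_comm.comm a b
  letI : CommGroup F := { (inferInstance : Group F) with mul_comm := hcomm }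
  obtain ⟨θ, hθ⟩ := CommGroup.exists_apply_ne_one_of_hasEnoughRootsOfUnity F ℂ
    (a := (⟨c, hc⟩ : F)) (fun h => hc1 (congrArg Subtype.val h))
  obtain ⟨n, ρ, hirr, h0⟩ := exists_rep_over F θ
  haveI := hirr
  have hθ1 : (1 : F →* ℂˣ) ≠ θ := fun h => hθ (by rw [← h]; rfl)
  have hE : proj F ρ 1 = 0 := by
    have hinv : ∀ (x : G), ∀ φ ∈ ({1} : Finset (F →* ℂˣ)), conjHom F x φ ∈ ({1} : Finset _) := by
      intro x φ hφ
      rw [Finset.mem_singleton] at hφ ⊢
      subst hφ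
      ext f; rfl
    have := sum_proj_eq F ρ {1} hinv
    simp only [Finset.sum_singleton] at this
    refine this.resolve_right fun h => h0 ?_
    have h2 := proj_mul_of_ne F ρ hθ1
    rwa [h, one_mul] at h2
  have hgen : ∀ f : F, ∃ k : ℕ, (f : G) = c ^ k := by
    intro f
    have htop : Subgroup.zpowers (⟨c, hc⟩ : F) = ⊤ :=
      zpowers_eq_top_of_prime_card rfl (fun h => hc1 (congrArg Subtype.val h))
    have hf : f ∈ Subgroup.zpowers (⟨c, hc⟩ : F) := htop ▸ Subgroup.mem_top f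
    obtain ⟨k, rfl⟩ := mem_zpowers_iff_mem_range_orderOf.mp hf |> Finset.mem_image.mp |>
      fun ⟨k, _, hk⟩ => (⟨k, hk.symm⟩ : ∃ k : ℕ, f = (⟨c, hc⟩ : F) ^ k)
    exact ⟨k, rfl⟩
  have hconj : ∀ k : ℕ, u ^ k * y * (u ^ k)⁻¹ = c ^ k * y := by
    intro k
    induction k with
    | zero => simp
    | succ k ih =>
      have hcm : Commute u (c ^ k) := Commute.pow_right hu k
      calc u ^ (k + 1) * y * (u ^ (k + 1))⁻¹ = u * (u ^ k * y * (u ^ k)⁻¹) * u⁻¹ := by
            rw [pow_succ']; group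
        _ = u * (c ^ k * y) * u⁻¹ := by rw [ih]
        _ = c ^ k * (u * y * u⁻¹) := by rw [← mul_assoc, hcm.eq]; group
        _ = c ^ (k + 1) * y := by rw [hy, pow_succ]; group
  refine ⟨⟨ρ.character, n, ρ, hirr, rfl⟩, ?_⟩
  have hsum : ∑ f : F, LinearMap.trace ℂ _ (ρ ((f : G) * y)) = 0 := by
    have h1 : (proj F ρ 1) * ρ y = 0 := by rw [hE, zero_mul]
    unfold proj at h1
    rw [smul_mul_assoc, smul_eq_zero] at h1
    have h2 := h1.resolve_left (inv_ne_zero (Nat.cast_ne_zero.mpr Nat.card_pos.ne'))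
    have h3 := congrArg (LinearMap.trace ℂ _) h2
    simpa [Finset.sum_mul, map_mul] using h3
  have heq : ∀ f : F, LinearMap.trace ℂ _ (ρ ((f : G) * y)) = LinearMap.trace ℂ _ (ρ y) := by
    intro f
    obtain ⟨k, hk⟩ := hgen f
    rw [hk, ← hconj k]
    exact ρ.char_conj y (u ^ k)
  simp only [heq, Finset.sum_const, Finset.card_univ, nsmul_eq_mul, mul_eq_zero,
    Nat.cast_eq_zero, Fintype.card_ne_zero, false_or] at hsum
  exact hsum

end Cfsg.Agent.BC86.Vanishing
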