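import Cfsg.Agent.BC86.Core
import Cfsg.Agent.BC86.Modular
import Cfsg.Agent.Lib.BlocksCore.DefectZero
import Cfsg.Agent.Lib.CharCore.Eigen

/-!
# Vanishing for characters of defect zero, values at central elements
-/

open scoped ComplexConjugate
open Cfsg.Agent.CharCore

namespace Cfsg.Agent.BC86

variable {G : Type*} [Group G] [Finite G]

/-- A character of `q`-defect zero vanishes on `q`-singular elements. -/
theorem apply_eq_zero_of_dvd_orderOf {q : ℕ} (hq : q.Prime) (χ : Cfsg.IrrCharacter G)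
    (h : ¬ q ∣ Nat.card G / Cfsg.charDegree (χ : G → ℂ)) {g : G} (hg : q ∣ orderOf g) :
    (χ : G → ℂ) g = 0 := by
  have := Fact.mk hq
  have := Fintype.ofFinite G
  obtain ⟨M, hM⟩ := exists_isPModular hq
  exact BlocksCore.eq_zero_of_blockOf_eq_singleton hM χ
    (BlocksCore.blockOf_eq_singleton_of_not_dvd hM χ h) hg

/-- An irreducible character has absolute value its degree at a central element. -/
theorem norm_apply_of_mem_center (χ : Cfsg.IrrCharacter G) {z : G}
    (hz : z ∈ Subgroup.center G) : ‖(χ : G → ℂ) z‖ = ‖(χ : G → ℂ) 1‖ := by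
  obtain ⟨n, ρ, hirr, hρ⟩ := χ.2
  obtain ⟨c, hc⟩ := CharClifford.exists_scalar_of_mem_center ρ hz
  rw [← hρ, (norm_character_eq_iff ρ z).mpr ⟨c, by rw [hc]; rfl⟩, Representation.char_one,
    Complex.norm_natCast]

theorem apply_mul_conj_of_mem_center (χ : Cfsg.IrrCharacter G) {z : G}
    (hz : z ∈ Subgroup.center G) :
    (χ : G → ℂ) z * conj ((χ : G → ℂ) z) = (χ : G → ℂ) 1 ^ 2 := by
  obtain ⟨n, -, hn⟩ := IsIrrCharacter.exists_degree χ.2
  rw [Complex.mul_conj', norm_apply_of_mem_center χ hz, hn, Complex.norm_natCast]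
  norm_cast

end Cfsg.Agent.BC86
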